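import Cfsg.Agent.OddHalf.D4.TwF.Types
import Cfsg.Agent.OddHalf.D4.Start
import Cfsg.Agent.KFacts.TwF4.Inst

/-!
# ODD D4: the row `²F₄(q)`, `q ≥ 8`
-/

set_option autoImplicit false
set_option linter.unusedSectionVars false

namespace Cfsg.Agent.OddHalf.D4.TwF.Row

open Cfsg Cfsg.Lie Subgroup Cfsg.Agent.KFacts.TwF4 Cfsg.Agent.OddHalf.D4.TwF.Pair
open Cfsg.Agent.OddHalf.D4 Cfsg.Agent.OddHalf.D4.Basic Cfsg.Agent.OddHalf.D4.EvenPair
open Cfsg.Agent.OddHalf.D7.Cases
open Cfsg.Agent.OddHalf.D4.CommConj (cj mem_cj cj_mul card_cj mem_cj_mul)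

universe u v

/-- the base facts of a standard subgroup -/
theorem base_of_std {X : Type u} [Group X] {G : Type v} [Group G] [Finite G] {j : X →* G}
    (hj : Function.Injective j) (hxf : XF X) (hK : IsStandardSubgroup j.range) (hne : j.range ≠ ⊥) :
    Base j.range where
  tight := tight_of_standard hK
  even := hK.2.1.1
  sf g := sf_cj hj hxf g
  nc g hc := by
    by_cases hg : cj g j.range = j.range
    · rw [hg] at hc
      apply hne
      rw [eq_bot_iff]
      intro x hx
      exact (sf_of_xf hj hxf).cen x hx (hc hx)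
    · exact hK.2.2.1 g hg (commutator_eq_bot_iff_le_centralizer.2 hc)

/-- the inner condition in the form of `Exists` -/
theorem inner_T {G : Type v} [Group G] [Finite G] {K : Subgroup G} (h : SF K) (T : Subgroup G)
    (hT : IsSyl T (normalizer (K : Set G))) (y : G) (hy : y ∈ T) (hc : ∀ s ∈ T, s ∈ K → s * y = y * s) :
    ∃ k ∈ centralizer (K : Set G), ∃ s ∈ T, s ∈ K ∧ (∀ u ∈ T, u ∈ K → u * s = s * u) ∧ y = k * s := by
  obtain ⟨n, hn⟩ := Pair.IsSyl.pow_two hT hy
  obtain ⟨s, hs, c, hc', e⟩ := exists_decomp (h.inner y (hT.le hy) ⟨n, hn⟩)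
  have hsc : s * c = c * s := comm_of_cen hs hc'
  have hTK : IsSyl (T ⊓ K) K := hT.inf le_normalizer hT.le
  have hsT : ∀ u ∈ T, u ∈ K → u * s = s * u := by
    intro u hu huK
    have h1 := hc u hu huK
    have h2 : u * c = c * u := comm_of_cen huK hc'
    rw [e] at h1
    have h3 : (u * s) * c = (s * u) * c := by
      calc (u * s) * c = u * (s * c) := by group
        _ = s * (c * u) := by rw [h1]; group
        _ = _ := by rw [← h2]; group
    exact mul_right_cancel h3
  have hs2 : s ^ 2 ^ n = 1 := by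
    have h1 : Commute s c := hsc
    have h2 : s ^ 2 ^ n * c ^ 2 ^ n = 1 * 1 := by rw [← h1.mul_pow, ← e, hn, one_mul]
    exact (decomp_unique h.cen (K.pow_mem hs _) ((centralizer (K : Set G)).pow_mem hc' _) K.one_mem
      (centralizer (K : Set G)).one_mem h2).1
  have hsm : s ∈ T ⊓ K := mem_syl_of_comm hTK hs ⟨n, hs2⟩ fun u hu => (hsT u hu.1 hu.2).symm
  exact ⟨c, hc', s, hsm.1, hs, hsT, by rw [e, hsc]⟩

theorem exists_pair {G : Type v} [Group G] [Finite G] [IsSimpleGroup G] (h1173 : H1173 G) {K : Subgroup G}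
    (hB : Base K) (hne : K ≠ ⊥) (hperf : ⁅K, K⁆ = K) : ∃ L A W : Subgroup G, PP K L A W := by
  have hSF : SF K := by have := hB.sf 1; rwa [cj_one] at this
  have hcomm : ∀ k ∈ K, ∀ c ∈ centralizer (K : Set G), k * c = c * k :=
    fun k hk c hc => mem_centralizer_iff.mp hc k hk
  obtain ⟨g, hg, r, hr, hr2, hrg⟩ := exists_even h1173 hB.tight hB.even hne hperf hcomm
  obtain ⟨E, hE⟩ := hB.tight.exists_maxE hg hr hr2 hrg
  obtain ⟨L, Q, U, hF, -, -⟩ := Exists.fullPair_of_maxE hB.tight hSF.cen (inner_T hSF) hE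
  exact ⟨L, Q, U, hB, hF⟩

theorem false_of_inj {F : Type*} [Field F] [CharP F 2] {σ : F →+* F} {X : Type u} [Group X]
    (S : Full σ X) [Finite F] [Finite X] {m : ℕ} (hcard : Nat.card F = 2 ^ (2 * m + 1)) (hF : ∃ c : Fˣ, c ≠ 1)
    (hR : S.R.p = 2) {G : Type v} [Group G] [Finite G] [IsSimpleGroup G] (h1173 : H1173 G) {j : X →* G}
    (hj : Function.Injective j) (hK : IsStandardSubgroup j.range)
    (hrk : ¬ PRankLE 2 1 ↥(centralizer (j.range : Set G))) : False := by
  have hxf : XF X := XFacts.xf S hcard hF hR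
  have hne : j.range ≠ ⊥ := by
    intro h
    have h1 : j (S.e 2 0 1) ∈ j.range := ⟨_, rfl⟩
    rw [h, mem_bot] at h1
    exact one_ne_zero (S.e_eq_one (hj (h1.trans (map_one j).symm))).2
  have hperf : ⁅j.range, j.range⁆ = j.range := by
    have h1 : ⁅(⊤ : Subgroup ↥j.range), (⊤ : Subgroup ↥j.range)⁆ = ⊤ := hK.1.1.commutator_eq_top
    have h2 := congrArg (Subgroup.map j.range.subtype) h1
    rw [Subgroup.map_commutator, ← MonoidHom.range_eq_map, Subgroup.range_subtype] at h2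
    exact h2
  have hB := base_of_std hj hxf hK hne
  obtain ⟨L, A, W, h⟩ := exists_pair h1173 hB hne hperf
  have hr : Rk2 j.range := by
    obtain ⟨a, b, ha, hb, ha2, hb2, hab, hne⟩ := exists_two_of_not_pRankLE hrk
    exact ⟨a, b, ha, hb, ha2, hb2, hab, hne⟩
  obtain ⟨a, ha, b, hb, ha2, hb2, -, hab⟩ := hr.exists_syl h.fp.sylQ
  have n1 : ∀ x : G, orderOf x = 2 → x ≠ 1 := by
    rintro x hx rfl
    rw [orderOf_one] at hx
    exact absurd hx (by norm_num)
  refine Types.false_of_PP S hj hxf hF hR h ?_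
  intro t _ _
  by_cases hat : a = t
  · exact ⟨b, hb, n1 b hb2, fun hbt => hab (hat.trans hbt.symm)⟩
  · exact ⟨a, ha, n1 a ha2, hat⟩

/-- **the row `²F₄(q)`, `q ≥ 8`** -/
theorem row (h1173 : Start.P1173.{u}) : Cut.Row1.{u} (fun K _ => Fam2F4 K) := by
  intro G _ hG K hK hrk _ hP
  have := hG.fin
  have := hG.simple
  obtain ⟨F, _, _, m, hm, hcard, ⟨e⟩⟩ := hP
  obtain ⟨φ, hφ⟩ := Cfsg.Agent.ChevalleyStructure.TwF4.TwistedFix.exists_rln hcard
  have := Cfsg.Agent.ChevalleyStructure.TwF4.Twisted.charP_two hcard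
  have hU : ∃ c : Fˣ, c ≠ 1 := by
    classical
    obtain ⟨c, hc⟩ : ∃ c : F, c ∉ ({0, 1} : Finset F) := by
      by_contra hcon
      push Not at hcon
      have h1 : (Finset.univ : Finset F) ⊆ {0, 1} := fun x _ => hcon x
      have h2 := Finset.card_le_card h1
      have h3 : ({0, 1} : Finset F).card ≤ 2 := Finset.card_le_two
      have h8 : 2 < Fintype.card F := by
        rw [hcard]
        calc 2 < 2 ^ 3 := by norm_num
          _ ≤ 2 ^ (2 * m + 1) := Nat.pow_le_pow_right (by norm_num) (by omega)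
      rw [Finset.card_univ] at h2
      omega
    simp only [Finset.mem_insert, Finset.mem_singleton, not_or] at hc
    exact ⟨Units.mk0 c hc.1, fun h => hc.2 (congrArg Units.val h)⟩
  have hfin : Finite ↥(twistedF4 F (2 ^ m)) := inferInstance
  let S := Cfsg.Agent.KFacts.TwF4.Inst.full hcard hφ
  -- an involution of `G`
  obtain ⟨a, b, ha, hb, ha2, -⟩ := exists_two_of_not_pRankLE hrk
  let j : ↥(twistedF4 F (2 ^ m)) →* G := K.subtype.comp e.symm.toMonoidHom
  have hj : Function.Injective j := fun x y h => e.symm.injective (Subtype.ext h)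
  have hjK : j.range = K := by
    ext x
    constructor
    · rintro ⟨y, rfl⟩
      exact (e.symm y).2
    · intro hx
      exact ⟨e ⟨x, hx⟩, by show ((e.symm (e ⟨x, hx⟩) : ↥K) : G) = x; rw [e.symm_apply_apply]⟩
  refine false_of_inj S (by rw [Nat.card_eq_fintype_card, hcard]) hU rfl
    (h1173 G (Start.oddCore_eq_bot ha2)) hj ?_ ?_
  · rw [hjK]; exact hK.std
  · rw [hjK]; exact hrk

end Cfsg.Agent.OddHalf.D4.TwF.Row
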