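import Cfsg.Agent.OddHalf.D4.TwF.MkFam

/-!
# ODD D4, `K = ²F₄(q)`: an element `h'` acting as a scalar on `Q₂/Z₀`

`KH`: facts on the parabolic `H`; `Hp`: the hypotheses on `h'`. `exists_n`: `n = (hx a)⁻¹ h'` satisfies `Nn`, for some
`a ≠ 0`, and `h' z₀(u) h'⁻¹ = z₀(σ(a) a² u)`.
-/

set_option autoImplicit false
set_option linter.unusedSectionVars false

namespace Cfsg.Agent.OddHalf.D4.TwF.Bone

open Cfsg.Agent.KFacts.TwF4 Cfsg.Agent.OddHalf.D4.TwF.Field Cfsg.Agent.OddHalf.D4.TwF.End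
open Cfsg.Agent.OddHalf.D4.TwF.QTwo Cfsg.Agent.OddHalf.D4.TwF.Mir Cfsg.Agent.OddHalf.D4.TwF.Norm
open Cfsg.Agent.OddHalf.D4.TwF.MkFam
open scoped commutatorElement

variable {F : Type*} [Field F] [CharP F 2] {σ τ : F →+* F} {G : Type*} [Group G]

/-- acting on `Q₂` modulo `Z₀` trivially, and linearly -/
def Lin (S : Sys σ G) (y : G) : Prop := ∃ l1 l2 l3 l4 : F, ∀ α β γ δ ε, y⁻¹ * q5 S α β γ δ ε * y =
  q5 S α β (γ + α * l1 + β * l2 + δ * l3 + ε * l4) δ ε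

/-- facts on the parabolic subgroup `H` with unipotent radical `Q` -/
structure KH (S : Sys σ G) (H Q : Subgroup G) : Prop where
  uniq : Uniq S
  le : Q ≤ H
  o1 : ∀ t, S.o 1 t ∈ Q
  o6 : ∀ t, S.o 6 t ∈ Q
  o0 : ∀ t, S.o 0 t ∈ Q
  o7 : ∀ t, S.o 7 t ∈ Q
  e0 : ∀ p u, S.e 0 p u ∈ Q
  e1 : ∀ p u, S.e 1 p u ∈ Q
  e7 : ∀ p u, S.e 7 p u ∈ Q
  e2 : ∀ p u, S.e 2 p u ∈ H
  e6 : ∀ p u, S.e 6 p u ∈ H
  cen : ∀ y ∈ H, (∀ α β γ δ ε, Commute y (q5 S α β γ δ ε)) → ∃ p u, InQ S ((S.e 0 p u)⁻¹ * y)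
  nor : ∀ y ∈ H, ∀ x, InQ S x → InQ S (y * x * y⁻¹)
  lin : ∀ y ∈ Q, Lin S y
  e0c : ∀ y ∈ H, ∀ p u, InQ S (⁅(S.e 0 p u)⁻¹, y⁻¹⁆)
  e0n : ∀ p u, InQ S (S.e 0 p u) → p = 0
  perf : ⁅H, H⁆ = H

theorem KH.mirror {S S' : Sys σ G} {H Q : Subgroup G} (k : KH S H Q) (M : Mirror S S') : KH S' H Q where
  uniq := M.uniq k.uniq
  le := k.le
  o1 t := by rw [M.o1]; exact k.o6 t
  o6 t := by rw [M.o6]; exact k.o1 t
  o0 t := by rw [M.o0]; exact k.o7 t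
  o7 t := by rw [M.o7]; exact k.o0 t
  e0 p u := by rw [M.e0]; exact k.e0 p u
  e1 p u := by rw [M.e1]; exact k.e7 p u
  e7 p u := by rw [M.e7]; exact k.e1 p u
  e2 p u := by rw [M.e2]; exact k.e6 p u
  e6 p u := by rw [M.e6]; exact k.e2 p u
  cen y hy h := by
    obtain ⟨p, u, h1⟩ := k.cen y hy (fun α β γ δ ε => by
      have := h ε δ γ β α
      rwa [M.q5] at this)
    exact ⟨p, u, by rw [M.e0]; exact h1.mirror M⟩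
  nor y hy x hx := (k.nor y hy x (hx.mirror M.symm)).mirror M
  lin y hy := by
    obtain ⟨l1, l2, l3, l4, h⟩ := k.lin y hy
    refine ⟨l4, l3, l2, l1, fun α β γ δ ε => ?_⟩
    rw [M.q5, M.q5, h]
    congr 1; ring
  e0c y hy p u := by rw [M.e0]; exact (k.e0c y hy p u).mirror M
  e0n p u h := by
    rw [M.e0] at h
    exact k.e0n p u (h.mirror M.symm)
  perf := k.perf

/-- hypotheses on `h'` -/
structure Hp (S : Sys σ G) (dl : Fˣ → G) (H Q : Subgroup G) (h' : G) : Prop where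
  q2 : ∀ x, InQ S x → InQ S (h' * x * h'⁻¹)
  z0 : ∀ u, ∃ v, h' * S.e 0 0 u * h'⁻¹ = S.e 0 0 v
  dl : ∀ d, Commute h' (dl d)
  HH : ∀ x ∈ H, h' * x * h'⁻¹ ∈ H
  mod : ∀ x ∈ H, dlt h' x ∈ Q
  QQ : ∀ x ∈ Q, h' * x * h'⁻¹ ∈ Q

theorem Hp.mirror {S S' : Sys σ G} {dl : Fˣ → G} {H Q : Subgroup G} {h' : G} (P : Hp S dl H Q h') (M : Mirror S S') :
    Hp S' (fun d => dl d⁻¹) H Q h' where
  q2 x hx := (P.q2 x (hx.mirror M.symm)).mirror M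
  z0 u := by
    obtain ⟨v, hv⟩ := P.z0 u
    exact ⟨v, by rw [M.e0, M.e0]; exact hv⟩
  dl d := P.dl d⁻¹
  HH := P.HH
  mod := P.mod
  QQ := P.QQ

theorem InQ.q5 (S : Sys σ G) (α β γ δ ε : F) : InQ S (QTwo.q5 S α β γ δ ε) := ⟨_, _, _, _, _, rfl⟩

theorem q5_congr (S : Sys σ G) {α α' β β' γ δ δ' ε ε' : F} (h1 : α = α') (h2 : β = β') (h4 : δ = δ') (h5 : ε = ε') :
    QTwo.q5 S α β γ δ ε = QTwo.q5 S α' β' γ δ' ε' := by rw [h1, h2, h4, h5]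

namespace Hp

variable {S : Sys σ G} {dl : Fˣ → G} {H Q : Subgroup G} {h' : G}

theorem conj_mul (x y : G) : h' * (x * y) * h'⁻¹ = (h' * x * h'⁻¹) * (h' * y * h'⁻¹) := by group

theorem conj_conj (x y : G) : h' * (y⁻¹ * x * y) * h'⁻¹ = (h' * y * h'⁻¹)⁻¹ * (h' * x * h'⁻¹) * (h' * y * h'⁻¹) := by group

/-- `h'` on `z₁` -/
theorem z1 (P : Hp S dl H Q h') (k : KH S H Q) (D : Dl S dl) (I : Inv σ τ) :
    ∃ a : F, a ≠ 0 ∧ ∀ u, h' * S.e 1 0 u * h'⁻¹ = S.e 1 0 (a * u) := by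
  have h1 : ∀ s, ∃ γ ε, h' * S.e 1 0 s * h'⁻¹ = QTwo.q5 S 0 0 γ 0 ε := by
    intro s
    obtain ⟨α, β, γ, δ, ε, hk⟩ := P.q2 (S.e 1 0 s) (by rw [z1_eq]; exact InQ.q5 S _ _ _ _ _)
    have : α = 0 ∧ β = 0 ∧ δ = 0 := by
      apply fix_E2 S k.uniq
      intro p u
      have hq := P.mod _ (k.e2 p u)
      obtain ⟨l1, l2, l3, l4, hl⟩ := k.lin _ hq
      have h2 : (S.e 2 p u)⁻¹ * S.e 1 0 s * S.e 2 p u = S.e 1 0 s := conj_comm (z_e1 S 1 s p u).symm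
      have h3 := conj_conj (h' := h') (S.e 1 0 s) (S.e 2 p u)
      rw [h2, hk, Norm.conj_eq h' (S.e 2 p u)] at h3
      -- `κ = q⁻¹ (e⁻¹ κ e) q`
      have h4 : InQ S ((S.e 2 p u)⁻¹ * QTwo.q5 S α β γ δ ε * S.e 2 p u) := by
        have := k.nor _ (H.inv_mem (k.e2 p u)) _ (InQ.q5 S α β γ δ ε)
        rwa [inv_inv] at this
      obtain ⟨a1, a2, a3, a4, a5, ha⟩ := h4
      have h5 : QTwo.q5 S α β γ δ ε = (dlt h' (S.e 2 p u))⁻¹ * QTwo.q5 S a1 a2 a3 a4 a5 * dlt h' (S.e 2 p u) := by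
        rw [← ha]
        calc QTwo.q5 S α β γ δ ε = _ := h3
          _ = _ := by group
      rw [hl] at h5
      obtain ⟨e1, e2, e3, e4, e5⟩ := k.uniq _ _ _ _ _ _ _ _ _ _ h5
      refine ⟨γ + a3, ?_⟩
      rw [ha, z0_eq, q5_mul, e1, e2, e4, e5]
      congr 1
      · rw [add_zero]
      · rw [add_zero]
      · rw [← add_assoc, add_self, zero_add]
      · rw [add_zero]
      · rw [add_zero]
    obtain ⟨rfl, rfl, rfl⟩ := this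
    exact ⟨γ, ε, hk⟩
  choose γ ε h2 using h1
  have hadd : ∀ s s', γ (s + s') = γ s + γ s' ∧ ε (s + s') = ε s + ε s' := by
    intro s s'
    have h := conj_mul (h' := h') (S.e 1 0 s) (S.e 1 0 s')
    rw [z_mul, h2, h2, h2, q5_mul] at h
    obtain ⟨-, -, h3, -, h4⟩ := k.uniq _ _ _ _ _ _ _ _ _ _ h
    exact ⟨h3, h4⟩
  have hw : ∀ (d : Fˣ) s, γ (d * σ d * s) = γ s ∧ ε (d * σ d * s) = d * σ d * ε s := by
    intro d s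
    have hd := P.dl d
    have h : h' * (dl d * S.e 1 0 s * (dl d)⁻¹) * h'⁻¹ = dl d * (h' * S.e 1 0 s * h'⁻¹) * (dl d)⁻¹ := by
      have h3 : (dl d)⁻¹ * h'⁻¹ = h'⁻¹ * (dl d)⁻¹ := hd.symm.inv_inv.eq
      calc h' * (dl d * S.e 1 0 s * (dl d)⁻¹) * h'⁻¹ = (h' * dl d) * S.e 1 0 s * ((dl d)⁻¹ * h'⁻¹) := by group
        _ = _ := by rw [hd.eq, h3]; group
    rw [D.e1, mul_zero, h2, h2, D.q5] at h
    simp only [mul_zero] at h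
    obtain ⟨-, -, h3, -, h4⟩ := k.uniq _ _ _ _ _ _ _ _ _ _ h
    exact ⟨h3, h4⟩
  have h3 := weight_inv_one I (fun x y => (hadd x y).1) (fun d x => (hw d x).1)
  have h4 := weight_lin I (fun x y => (hadd x y).2) (fun d x => (hw d x).2)
  have h5 : ∀ u, h' * S.e 1 0 u * h'⁻¹ = S.e 1 0 (ε 1 * u) := by
    intro u
    rw [h2, h3, z1_eq, h4]
  refine ⟨ε 1, fun h0 => ?_, h5⟩
  have h6 := h5 1
  rw [h0, zero_mul, e_zero] at h6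
  have h7 : S.e 1 0 1 = 1 := by
    calc S.e 1 0 1 = h'⁻¹ * (h' * S.e 1 0 1 * h'⁻¹) * h' := by group
      _ = 1 := by rw [h6]; group
  rw [← e_zero S 1] at h7
  exact one_ne_zero (S.injE 1 _ _ _ _ h7).2

/-- `h'` on `z₀`: additive -/
theorem exists_rho (P : Hp S dl H Q h') : ∃ ρ : F → F, ∀ u, h' * S.e 0 0 u * h'⁻¹ = S.e 0 0 (ρ u) := by
  choose ρ hρ using P.z0
  exact ⟨ρ, hρ⟩

/-- `h'` on `o₀` -/
theorem o0 (P : Hp S dl H Q h') (k : KH S H Q) (D : Dl S dl) (I : Inv σ τ) {a a7 : F}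
    (h1 : ∀ u, h' * S.e 1 0 u * h'⁻¹ = S.e 1 0 (a * u)) (h7 : ∀ u, h' * S.e 7 0 u * h'⁻¹ = S.e 7 0 (a7 * u)) :
    a7 = a ∧ ∀ t, h' * S.o 0 t * h'⁻¹ = S.o 0 (a * t) := by
  obtain ⟨ρ, hρ⟩ := P.exists_rho
  have key : ∀ u v, ∃ g, h' * S.o 0 (u * v) * h'⁻¹ = QTwo.q5 S 0 0 g (a7 * u * v) (a7 * u * σ v + a * (u * σ v)) := by
    intro u v
    have hq := P.mod _ (k.e2 0 v)
    obtain ⟨l1, l2, l3, l4, hl⟩ := k.lin _ hq
    have h2 : (S.e 2 0 v)⁻¹ * S.e 7 0 u * S.e 2 0 v = S.e 7 0 u * S.e 0 0 (σ u * v) * S.o 0 (u * v) * S.e 1 0 (u * σ v) := by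
      have := q5_z2 S u 0 0 0 0 v
      rw [← z7_eq] at this
      rw [this]
      unfold QTwo.q5
      rw [o_zero, mul_one, zero_add, zero_add, zero_mul, add_zero, zero_add]
    have h3 := conj_conj (h' := h') (S.e 7 0 u) (S.e 2 0 v)
    rw [h2, h7, Norm.conj_eq h' (S.e 2 0 v)] at h3
    have h4 : (S.e 2 0 v * dlt h' (S.e 2 0 v))⁻¹ * S.e 7 0 (a7 * u) * (S.e 2 0 v * dlt h' (S.e 2 0 v)) =
        (dlt h' (S.e 2 0 v))⁻¹ * ((S.e 2 0 v)⁻¹ * S.e 7 0 (a7 * u) * S.e 2 0 v) * dlt h' (S.e 2 0 v) := by group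
    rw [h4, z7_eq S (a7 * u), q5_z2, hl, conj_mul, conj_mul, conj_mul, h7, hρ, h1] at h3
    set X := h' * S.o 0 (u * v) * h'⁻¹ with hX
    have h5 : X = (S.e 7 0 (a7 * u) * S.e 0 0 (ρ (σ u * v)))⁻¹ *
        (S.e 7 0 (a7 * u) * S.e 0 0 (ρ (σ u * v)) * X * S.e 1 0 (a * (u * σ v))) * (S.e 1 0 (a * (u * σ v)))⁻¹ := by group
    rw [h3, mul_inv_rev, z_inv, z_inv, z_inv, z7_eq, z0_eq, z1_eq, q5_mul, q5_mul, q5_mul] at h5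
    refine ⟨_, h5.trans (q5_congr S ?_ ?_ ?_ ?_)⟩
    · rw [zero_add, add_zero, add_self]
    · simp
    · simp
    · simp
  obtain ⟨l, hl0, hl1, hl⟩ := exists_mov I
  have ha : a7 = a := by
    obtain ⟨g, hg⟩ := key 1 1
    obtain ⟨g', hg'⟩ := key l⁻¹ l
    rw [inv_mul_cancel₀ hl0] at hg'
    rw [mul_one, hg'] at hg
    obtain ⟨-, -, -, -, h5⟩ := k.uniq _ _ _ _ _ _ _ _ _ _ hg
    rw [map_one] at h5
    have h6 : (a7 + a) * (σ l + l) = 0 := by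
      have h7 : (a7 + a) * (l⁻¹ * σ l) = a7 + a := by
        calc (a7 + a) * (l⁻¹ * σ l) = a7 * l⁻¹ * σ l + a * (l⁻¹ * σ l) := by ring
          _ = a7 * 1 * 1 + a * (1 * 1) := h5
          _ = _ := by ring
      have h8 : (a7 + a) * σ l = (a7 + a) * l := by
        calc (a7 + a) * σ l = ((a7 + a) * (l⁻¹ * σ l)) * l := by
              rw [mul_assoc, mul_right_comm l⁻¹, inv_mul_cancel₀ hl0, one_mul]
          _ = _ := by rw [h7]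
      rw [mul_add, h8, add_self]
    rcases mul_eq_zero.mp h6 with h7 | h7
    · exact eq_of_add h7
    · exact absurd (eq_of_add h7) hl
  subst ha
  refine ⟨rfl, ?_⟩
  have h5 : ∀ t, ∃ g, h' * S.o 0 t * h'⁻¹ = QTwo.q5 S 0 0 g (a7 * t) 0 := by
    intro t
    obtain ⟨g, hg⟩ := key t 1
    rw [mul_one, mul_one, map_one, mul_one, mul_one, add_self] at hg
    exact ⟨g, hg⟩
  choose g hg using h5
  have hadd : ∀ s s', g (s + s') = g s + g s' := by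
    intro s s'
    have h := conj_mul (h' := h') (S.o 0 s) (S.o 0 s')
    rw [S.o_add, hg, hg, hg, q5_mul] at h
    exact (k.uniq _ _ _ _ _ _ _ _ _ _ h).2.2.1
  have hw : ∀ (d : Fˣ) s, g (d * s) = g s := by
    intro d s
    have hd := P.dl d
    have h : h' * (dl d * S.o 0 s * (dl d)⁻¹) * h'⁻¹ = dl d * (h' * S.o 0 s * h'⁻¹) * (dl d)⁻¹ := by
      have h3 : (dl d)⁻¹ * h'⁻¹ = h'⁻¹ * (dl d)⁻¹ := hd.symm.inv_inv.eq
      calc h' * (dl d * S.o 0 s * (dl d)⁻¹) * h'⁻¹ = (h' * dl d) * S.o 0 s * ((dl d)⁻¹ * h'⁻¹) := by group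
        _ = _ := by rw [hd.eq, h3]; group
    rw [D.o0, hg, hg, D.q5] at h
    exact (k.uniq _ _ _ _ _ _ _ _ _ _ h).2.2.1
  have h6 := weight_inv_zero I hadd hw
  intro t
  rw [hg, h6, o0_eq]

/-- `h'` on `z₀` is a scalar -/
theorem rho (P : Hp S dl H Q h') (k : KH S H Q) {a : F} (h7 : ∀ u, h' * S.e 7 0 u * h'⁻¹ = S.e 7 0 (a * u)) :
    ∃ ρ : F, ρ ≠ 0 ∧ ∀ u, h' * S.e 0 0 u * h'⁻¹ = S.e 0 0 (ρ * u) := by
  obtain ⟨ρ, hρ⟩ := P.exists_rho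
  obtain ⟨l1, l2, l3, l4, hl⟩ := k.lin _ (P.QQ _ (k.o1 1))
  have h2 : ∀ u, ρ u = a * l1 * u := by
    intro u
    have h3 : (S.o 1 1)⁻¹ * S.e 7 0 u * S.o 1 1 = S.e 7 0 u * S.e 0 0 u := by
      rw [z7_eq, q5_o1, z0_eq, q5_mul]; simp
    have h4 := conj_conj (h' := h') (S.e 7 0 u) (S.o 1 1)
    rw [h3, conj_mul, h7, hρ, z7_eq, hl, z0_eq, q5_mul] at h4
    obtain ⟨-, -, h5, -, -⟩ := k.uniq _ _ _ _ _ _ _ _ _ _ h4
    rw [zero_mul, zero_mul, zero_mul, zero_add, zero_add, add_zero, add_zero, add_zero] at h5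
    rw [h5]; ring
  refine ⟨a * l1, fun h0 => ?_, fun u => by rw [hρ, h2]⟩
  have h6 := hρ 1
  rw [h2, h0, zero_mul, e_zero] at h6
  have h7 : S.e 0 0 1 = 1 := by
    calc S.e 0 0 1 = h'⁻¹ * (h' * S.e 0 0 1 * h'⁻¹) * h' := by group
      _ = 1 := by rw [h6]; group
  rw [← e_zero S 0] at h7
  exact one_ne_zero (S.injE 0 _ _ _ _ h7).2

/-- two elements of `H` with the same action on `Q₂` -/
theorem same_act (k : KH S H Q) {x y : G} (hx : x ∈ H) (hy : y ∈ H)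
    (h : ∀ α β γ δ ε, x⁻¹ * QTwo.q5 S α β γ δ ε * x = y⁻¹ * QTwo.q5 S α β γ δ ε * y) :
    ∃ p u, InQ S ((S.e 0 p u)⁻¹ * (y⁻¹ * x)) := by
  apply k.cen _ (H.mul_mem (H.inv_mem hy) hx)
  intro α β γ δ ε
  obtain ⟨a1, a2, a3, a4, a5, ha⟩ := k.nor y hy _ (InQ.q5 S α β γ δ ε)
  have h1 := h a1 a2 a3 a4 a5
  rw [← ha] at h1
  show y⁻¹ * x * QTwo.q5 S α β γ δ ε = QTwo.q5 S α β γ δ ε * (y⁻¹ * x)
  calc y⁻¹ * x * QTwo.q5 S α β γ δ ε = y⁻¹ * x * (y⁻¹ * (y * QTwo.q5 S α β γ δ ε * y⁻¹) * y) := by group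
    _ = y⁻¹ * x * (x⁻¹ * (y * QTwo.q5 S α β γ δ ε * y⁻¹) * x) := by rw [h1]
    _ = _ := by group

/-- `h'` on `Q₂` -/
theorem on_q5 {a ρ : F} (h1 : ∀ u, h' * S.e 1 0 u * h'⁻¹ = S.e 1 0 (a * u))
    (h7 : ∀ u, h' * S.e 7 0 u * h'⁻¹ = S.e 7 0 (a * u)) (h0 : ∀ t, h' * S.o 0 t * h'⁻¹ = S.o 0 (a * t))
    (h7' : ∀ t, h' * S.o 7 t * h'⁻¹ = S.o 7 (a * t)) (hρ : ∀ u, h' * S.e 0 0 u * h'⁻¹ = S.e 0 0 (ρ * u))
    (α β γ δ ε : F) : h' * QTwo.q5 S α β γ δ ε * h'⁻¹ = QTwo.q5 S (a * α) (a * β) (ρ * γ) (a * δ) (a * ε) := by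
  unfold QTwo.q5
  rw [← h1, ← h7, ← h0, ← h7', ← hρ]; group

/-- `h'` on `o₁` modulo `Q₁` -/
theorem on_o1 (P : Hp S dl H Q h') (k : KH S H Q) {a ρ : F} (ha : a ≠ 0) (hρ0 : ρ ≠ 0)
    (hq : ∀ α β γ δ ε, h' * QTwo.q5 S α β γ δ ε * h'⁻¹ = QTwo.q5 S (a * α) (a * β) (ρ * γ) (a * δ) (a * ε)) :
    ∃ p u, InQ S ((S.e 0 p u)⁻¹ * ((S.o 1 (ρ / a))⁻¹ * (h' * S.o 1 1 * h'⁻¹))) := by
  refine same_act k (k.le (P.QQ _ (k.o1 1))) (k.le (k.o1 _)) ?_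
  intro α β γ δ ε
  have h1 : QTwo.q5 S α β γ δ ε = h' * QTwo.q5 S (a⁻¹ * α) (a⁻¹ * β) (ρ⁻¹ * γ) (a⁻¹ * δ) (a⁻¹ * ε) * h'⁻¹ := by
    rw [hq, mul_inv_cancel_left₀ ha, mul_inv_cancel_left₀ ha, mul_inv_cancel_left₀ ha, mul_inv_cancel_left₀ ha,
      mul_inv_cancel_left₀ hρ0]
  have h2 : (h' * S.o 1 1 * h'⁻¹)⁻¹ * QTwo.q5 S α β γ δ ε * (h' * S.o 1 1 * h'⁻¹) =
      h' * ((S.o 1 1)⁻¹ * QTwo.q5 S (a⁻¹ * α) (a⁻¹ * β) (ρ⁻¹ * γ) (a⁻¹ * δ) (a⁻¹ * ε) * S.o 1 1) * h'⁻¹ := by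
    rw [h1]; group
  rw [h2, q5_o1, hq, q5_o1]
  congr 1
  · rw [mul_inv_cancel_left₀ ha]
  · rw [mul_inv_cancel_left₀ ha]
  · rw [mul_one, mul_add, mul_inv_cancel_left₀ hρ0]
    field_simp
  · rw [mul_inv_cancel_left₀ ha]
  · rw [mul_inv_cancel_left₀ ha]

theorem o1_e0 (c p u : F) : (S.o 1 c)⁻¹ * S.e 0 p u * S.o 1 c = S.e 0 p u * S.e 1 0 (p * c) := by
  have h : S.e 0 p u * S.o 1 c = S.o 1 c * S.e 0 p u * S.e 1 0 (p * c) := S.e_o1 0 p u c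
  calc (S.o 1 c)⁻¹ * S.e 0 p u * S.o 1 c = (S.o 1 c)⁻¹ * (S.e 0 p u * S.o 1 c) := by group
    _ = _ := by rw [h]; group

theorem o6_e0 (c p u : F) : (S.o 6 c)⁻¹ * S.e 0 p u * S.o 6 c = S.e 0 p u * S.e 7 0 (c * p) := by
  have h : S.o 6 c * S.e 0 p u = S.e 0 p u * S.o 6 c * S.e 7 0 (c * p) := S.o_e2 6 c p u
  have h2 : S.e 0 p u * S.o 6 c = S.o 6 c * S.e 0 p u * S.e 7 0 (c * p) := by
    rw [h]
    calc S.e 0 p u * S.o 6 c = S.e 0 p u * S.o 6 c * 1 := by group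
      _ = _ := by rw [← z_sq S 7 (c * p)]; group
  calc (S.o 6 c)⁻¹ * S.e 0 p u * S.o 6 c = (S.o 6 c)⁻¹ * (S.e 0 p u * S.o 6 c) := by group
    _ = _ := by rw [h2]; group

/-- `a = c σ(c)` -/
theorem a_eq (k : KH S H Q) {a c : F} (h0 : ∀ t, h' * S.o 0 t * h'⁻¹ = S.o 0 (a * t))
    (h7' : ∀ t, h' * S.o 7 t * h'⁻¹ = S.o 7 (a * t))
    (h1 : ∃ p u, InQ S ((S.e 0 p u)⁻¹ * ((S.o 1 c)⁻¹ * (h' * S.o 1 1 * h'⁻¹))))
    (h6 : ∃ p u, InQ S ((S.e 0 p u)⁻¹ * ((S.o 6 c)⁻¹ * (h' * S.o 6 1 * h'⁻¹)))) : c * σ c = a := by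
  obtain ⟨p, u, a1, a2, a3, a4, a5, ha⟩ := h6
  obtain ⟨p', u', b1, b2, b3, b4, b5, hb⟩ := h1
  have hx : h' * S.o 6 1 * h'⁻¹ = S.o 6 c * (S.e 0 p u * QTwo.q5 S a1 a2 a3 a4 a5) := by rw [← ha]; group
  have hy : h' * S.o 1 1 * h'⁻¹ = S.o 1 c * (S.e 0 p' u' * QTwo.q5 S b1 b2 b3 b4 b5) := by rw [← hb]; group
  have hr : S.o 6 1 * S.o 1 1 = S.o 1 1 * S.o 6 1 * S.o 7 1 * S.o 0 1 := by
    have := S.o_o3 6 1 1
    rw [map_one, mul_one] at this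
    exact this
  have hr' : S.o 6 c * S.o 1 c = S.o 1 c * S.o 6 c * S.o 7 (σ c * c) * S.o 0 (c * σ c) := S.o_o3 6 c c
  have h2 : (h' * S.o 6 1 * h'⁻¹) * (h' * S.o 1 1 * h'⁻¹) =
      (h' * S.o 1 1 * h'⁻¹) * (h' * S.o 6 1 * h'⁻¹) * S.o 7 a * S.o 0 a := by
    have e7 : S.o 7 a = h' * S.o 7 1 * h'⁻¹ := by rw [h7', mul_one]
    have e0 : S.o 0 a = h' * S.o 0 1 * h'⁻¹ := by rw [h0, mul_one]
    rw [e7, e0, ← conj_mul, hr]; group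
  set q := QTwo.q5 S a1 a2 a3 a4 a5 with hqd
  set q' := QTwo.q5 S b1 b2 b3 b4 b5 with hqd'
  rw [hx, hy] at h2
  have c1 : ∀ (P U α β γ δ ε : F), Commute (S.e 0 P U) (QTwo.q5 S α β γ δ ε) := fun P U α β γ δ ε => q5_e0 S α β γ δ ε P U
  -- left side
  have hL : S.o 6 c * (S.e 0 p u * q) * (S.o 1 c * (S.e 0 p' u' * q')) =
      S.o 1 c * S.o 6 c * (QTwo.q5 S 0 (σ c * c) 0 (c * σ c) 0 * (S.e 0 p u * QTwo.q5 S 0 0 0 0 (p * c) *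
        QTwo.q5 S a1 a2 (a3 + a1 * c) a4 a5 * (S.e 0 p' u' * q'))) := by
    have e1 : S.e 0 p u * q * S.o 1 c = S.o 1 c * (((S.o 1 c)⁻¹ * S.e 0 p u * S.o 1 c) * ((S.o 1 c)⁻¹ * q * S.o 1 c)) := by
      group
    have e2 : S.o 7 (σ c * c) * S.o 0 (c * σ c) = QTwo.q5 S 0 (σ c * c) 0 (c * σ c) 0 := by
      rw [o7_eq, o0_eq, q5_mul]; simp
    rw [o1_e0, hqd, q5_o1, z1_eq] at e1
    rw [← e2, ← hqd] at *
    calc S.o 6 c * (S.e 0 p u * q) * (S.o 1 c * (S.e 0 p' u' * q')) =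
        S.o 6 c * (S.e 0 p u * q * S.o 1 c) * (S.e 0 p' u' * q') := by group
      _ = (S.o 6 c * S.o 1 c) * (S.e 0 p u * QTwo.q5 S 0 0 0 0 (p * c) * QTwo.q5 S a1 a2 (a3 + a1 * c) a4 a5) *
          (S.e 0 p' u' * q') := by rw [e1]; group
      _ = _ := by rw [hr']; group
  have hR : S.o 1 c * (S.e 0 p' u' * q') * (S.o 6 c * (S.e 0 p u * q)) * S.o 7 a * S.o 0 a =
      S.o 1 c * S.o 6 c * (S.e 0 p' u' * QTwo.q5 S (c * p') 0 0 0 0 * QTwo.q5 S b1 b2 (b3 + b5 * c) b4 b5 *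
        (S.e 0 p u * q) * QTwo.q5 S 0 a 0 a 0) := by
    have e1 : S.e 0 p' u' * q' * S.o 6 c = S.o 6 c * (((S.o 6 c)⁻¹ * S.e 0 p' u' * S.o 6 c) * ((S.o 6 c)⁻¹ * q' * S.o 6 c)) := by
      group
    have e2 : S.o 7 a * S.o 0 a = QTwo.q5 S 0 a 0 a 0 := by
      rw [o7_eq, o0_eq, q5_mul]; simp
    rw [o6_e0, hqd', Nn.q5_o6, z7_eq] at e1
    rw [← e2]
    calc S.o 1 c * (S.e 0 p' u' * q') * (S.o 6 c * (S.e 0 p u * q)) * S.o 7 a * S.o 0 a =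
        S.o 1 c * (S.e 0 p' u' * q' * S.o 6 c) * (S.e 0 p u * q) * S.o 7 a * S.o 0 a := by group
      _ = _ := by rw [hqd', e1]; group
  rw [hL, hR] at h2
  have h3 := mul_left_cancel h2
  -- collect
  have e1 : QTwo.q5 S 0 (σ c * c) 0 (c * σ c) 0 * (S.e 0 p u * QTwo.q5 S 0 0 0 0 (p * c) *
        QTwo.q5 S a1 a2 (a3 + a1 * c) a4 a5 * (S.e 0 p' u' * q')) = S.e 0 p u * S.e 0 p' u' *
        (QTwo.q5 S 0 (σ c * c) 0 (c * σ c) 0 * QTwo.q5 S 0 0 0 0 (p * c) *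
        QTwo.q5 S a1 a2 (a3 + a1 * c) a4 a5 * q') := by
    have f1 := (c1 p u 0 (σ c * c) 0 (c * σ c) 0).eq
    have f2 := (((c1 p' u' 0 (σ c * c) 0 (c * σ c) 0).mul_right (c1 p' u' 0 0 0 0 (p * c))).mul_right
      (c1 p' u' a1 a2 (a3 + a1 * c) a4 a5)).eq
    calc _ = (QTwo.q5 S 0 (σ c * c) 0 (c * σ c) 0 * S.e 0 p u) * (QTwo.q5 S 0 0 0 0 (p * c) *
        QTwo.q5 S a1 a2 (a3 + a1 * c) a4 a5) * S.e 0 p' u' * q' := by group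
      _ = S.e 0 p u * ((QTwo.q5 S 0 (σ c * c) 0 (c * σ c) 0 * QTwo.q5 S 0 0 0 0 (p * c) *
        QTwo.q5 S a1 a2 (a3 + a1 * c) a4 a5) * S.e 0 p' u') * q' := by rw [← f1]; group
      _ = _ := by rw [← f2]; group
  have e2 : S.e 0 p' u' * QTwo.q5 S (c * p') 0 0 0 0 * QTwo.q5 S b1 b2 (b3 + b5 * c) b4 b5 *
        (S.e 0 p u * q) * QTwo.q5 S 0 a 0 a 0 = S.e 0 p' u' * S.e 0 p u *
        (QTwo.q5 S (c * p') 0 0 0 0 * QTwo.q5 S b1 b2 (b3 + b5 * c) b4 b5 * q * QTwo.q5 S 0 a 0 a 0) := by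
    have f1 := ((c1 p u (c * p') 0 0 0 0).mul_right (c1 p u b1 b2 (b3 + b5 * c) b4 b5)).eq
    calc _ = S.e 0 p' u' * ((QTwo.q5 S (c * p') 0 0 0 0 * QTwo.q5 S b1 b2 (b3 + b5 * c) b4 b5) * S.e 0 p u) * q *
          QTwo.q5 S 0 a 0 a 0 := by group
      _ = _ := by rw [← f1]; group
  have e3 : S.e 0 p u * S.e 0 p' u' = S.e 0 p' u' * S.e 0 p u * QTwo.q5 S 0 0 (p * σ p' + p' * σ p) 0 0 := by
    rw [← z0_eq, S.e_mul, S.e_mul, S.e_mul, map_zero, mul_zero, add_zero, add_zero, add_comm p' p]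
    congr 1
    have : u' + u + p' * σ p + (p * σ p' + p' * σ p) = u + u' + p * σ p' + (p' * σ p + p' * σ p) := by ring
    rw [this, add_self, add_zero]
  rw [e1, e2, e3, mul_assoc] at h3
  have h4 := mul_left_cancel h3
  rw [hqd, hqd', q5_mul, q5_mul, q5_mul, q5_mul, q5_mul, q5_mul, q5_mul] at h4
  obtain ⟨-, h5, -, -, -⟩ := k.uniq _ _ _ _ _ _ _ _ _ _ h4
  have h6 : σ c * c + (a2 + b2) = a + (a2 + b2) := by
    calc σ c * c + (a2 + b2) = 0 + (σ c * c + 0 + a2 + b2) := by ring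
      _ = 0 + b2 + a2 + a := h5
      _ = _ := by ring
  rw [mul_comm]
  exact add_right_cancel h6

/-- **summary of the action of `h'`** -/
theorem summary (P : Hp S dl H Q h') (k : KH S H Q) (D : Dl S dl) (I : Inv σ τ) : ∃ (c : Fˣ),
    ∀ α β γ δ ε, h' * QTwo.q5 S α β γ δ ε * h'⁻¹ =
      QTwo.q5 S (c * σ c * α) (c * σ c * β) (σ c * (c * c) * γ) (c * σ c * δ) (c * σ c * ε) := by
  obtain ⟨S', M⟩ := exists_mirror S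
  obtain ⟨a, ha, h1⟩ := P.z1 k D I
  obtain ⟨a7, ha7, h7⟩ := (P.mirror M).z1 (k.mirror M) (D.mirror M) I
  have h7' : ∀ u, h' * S.e 7 0 u * h'⁻¹ = S.e 7 0 (a7 * u) := fun u => by
    have := h7 u
    rwa [M.e1, M.e1] at this
  obtain ⟨rfl, h0⟩ := P.o0 k D I h1 h7'
  have h1' : ∀ u, h' * S'.e 7 0 u * h'⁻¹ = S'.e 7 0 (a7 * u) := fun u => by rw [M.e7, M.e7]; exact h1 u
  obtain ⟨-, ho7⟩ := (P.mirror M).o0 (k.mirror M) (D.mirror M) I h7 h1'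
  have ho7' : ∀ t, h' * S.o 7 t * h'⁻¹ = S.o 7 (a7 * t) := fun t => by
    have := ho7 t
    rwa [M.o0, M.o0] at this
  obtain ⟨ρ, hρ0, hρ⟩ := P.rho k h7'
  have hq := on_q5 h1 h7' h0 ho7' hρ
  have hc1 := on_o1 P k ha hρ0 hq
  have hρ' : ∀ u, h' * S'.e 0 0 u * h'⁻¹ = S'.e 0 0 (ρ * u) := fun u => by rw [M.e0, M.e0]; exact hρ u
  have h0' : ∀ t, h' * S'.o 7 t * h'⁻¹ = S'.o 7 (a7 * t) := fun t => by rw [M.o7, M.o7]; exact h0 t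
  have hc6 := on_o1 (P.mirror M) (k.mirror M) ha hρ0 (on_q5 h7 h1' ho7 h0' hρ')
  have hc6' : ∃ p u, InQ S ((S.e 0 p u)⁻¹ * ((S.o 6 (ρ / a7))⁻¹ * (h' * S.o 6 1 * h'⁻¹))) := by
    obtain ⟨p, u, hpu⟩ := hc6
    rw [M.e0, M.o1, M.o1] at hpu
    exact ⟨p, u, hpu.mirror M.symm⟩
  have hc := a_eq k h0 ho7' hc1 hc6'
  have hc0 : ρ / a7 ≠ 0 := div_ne_zero hρ0 ha
  refine ⟨Units.mk0 (ρ / a7) hc0, fun α β γ δ ε => ?_⟩
  rw [hq]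
  have e1 : σ (ρ / a7) * (ρ / a7 * (ρ / a7)) = ρ := by
    calc σ (ρ / a7) * (ρ / a7 * (ρ / a7)) = (ρ / a7 * σ (ρ / a7)) * (ρ / a7) := by ring
      _ = a7 * (ρ / a7) := by rw [hc]
      _ = ρ := by rw [mul_div_assoc', mul_div_cancel_left₀ _ ha]
  simp only [Units.val_mk0]
  rw [hc, e1]

end Hp

/-! ### the element `n` -/

theorem dlt_inQ_hom {S : Sys σ G} {H Q : Subgroup G} (k : KH S H Q) {n : G}
    (hn : ∀ x ∈ H, ∃ p u, InQ S ((S.e 0 p u)⁻¹ * dlt n x)) : ∀ x ∈ H, InQ S (dlt n x) := by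
  have hinv : ∀ x, InQ S x → InQ S x⁻¹ := by
    rintro x ⟨a, b, c, d, e, rfl⟩
    exact ⟨a, b, c, d, e, q5_inv S a b c d e⟩
  have he : ∀ p u x, InQ S x → InQ S ((S.e 0 p u)⁻¹ * x * S.e 0 p u) := by
    rintro p u x ⟨a, b, c, d, e, rfl⟩
    refine ⟨a, b, c, d, e, conj_comm (q5_e0 S a b c d e p u)⟩
  have h1 : ∀ x ∈ H, ∃ p, InQ S ((S.e 0 p 0)⁻¹ * dlt n x) := by
    intro x hx
    obtain ⟨p, u, h⟩ := hn x hx
    refine ⟨p, ?_⟩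
    have h2 : (S.e 0 p 0)⁻¹ * dlt n x = S.e 0 0 u * ((S.e 0 p u)⁻¹ * dlt n x) := by
      have h3 : S.e 0 p u = S.e 0 p 0 * S.e 0 0 u := Nn.e0_split S p u
      rw [h3]; group
    rw [h2, z0_eq]
    exact (InQ.q5 S _ _ _ _ _).mul h
  choose! p hp using h1
  have huniq : ∀ x ∈ H, ∀ q v, InQ S ((S.e 0 q v)⁻¹ * dlt n x) → p x = q := by
    intro x hx q v h
    have h2 : InQ S (S.e 0 (q + p x) (v + q * σ (p x) + q * σ q + p x * σ (p x))) := by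
      have h3 : InQ S ((S.e 0 q v)⁻¹ * S.e 0 (p x) 0) := by
        have h4 := h.mul (hinv _ (hp x hx))
        have h5 : (S.e 0 q v)⁻¹ * dlt n x * ((S.e 0 (p x) 0)⁻¹ * dlt n x)⁻¹ = (S.e 0 q v)⁻¹ * S.e 0 (p x) 0 := by group
        rwa [h5] at h4
      have h6 : (S.e 0 q v)⁻¹ = S.e 0 q (v + q * σ q) := by
        rw [inv_eq_iff_mul_eq_one, S.e_mul, add_self]
        have : v + (v + q * σ q) + q * σ q = (v + v) + (q * σ q + q * σ q) := by ring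
        rw [this, add_self, add_self, add_zero, e_zero]
      rw [h6, S.e_mul] at h3
      have h7 : S.e 0 0 (p x * σ (p x)) * S.e 0 (q + p x) (v + q * σ q + 0 + q * σ (p x)) =
          S.e 0 (q + p x) (v + q * σ (p x) + q * σ q + p x * σ (p x)) := by
        rw [S.e_mul, zero_mul, zero_add]; congr 1; ring
      rw [← h7, z0_eq]
      exact (InQ.q5 S _ _ _ _ _).mul h3
    exact (eq_of_add (k.e0n _ _ h2)).symm
  have hmul : ∀ x ∈ H, ∀ y ∈ H, p (x * y) = p x + p y := by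
    intro x hx y hy
    apply huniq _ (H.mul_mem hx hy) _ (p x * σ (p y))
    rw [dlt_mul]
    have h1 : S.e 0 (p x + p y) (p x * σ (p y)) = S.e 0 (p x) 0 * S.e 0 (p y) 0 := by
      rw [S.e_mul, add_zero, zero_add]
    rw [h1]
    have h2 : (S.e 0 (p x) 0 * S.e 0 (p y) 0)⁻¹ * (y⁻¹ * dlt n x * y * dlt n y) =
        ((S.e 0 (p y) 0)⁻¹ * ((⁅(S.e 0 (p x) 0)⁻¹, y⁻¹⁆) * (y⁻¹ * ((S.e 0 (p x) 0)⁻¹ * dlt n x) * y)) *
          S.e 0 (p y) 0) * ((S.e 0 (p y) 0)⁻¹ * dlt n y) := by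
      rw [commutatorElement_def]; group
    rw [h2]
    refine (he _ _ _ ((k.e0c y hy _ _).mul ?_)).mul (hp y hy)
    have := k.nor y⁻¹ (H.inv_mem hy) _ (hp x hx)
    rwa [inv_inv] at this
  have hone : p 1 = 0 := by
    have := hmul 1 H.one_mem 1 H.one_mem
    rw [mul_one] at this
    exact left_eq_add.mp this
  have hpinv : ∀ x ∈ H, p x⁻¹ = p x := by
    intro x hx
    have := hmul x hx x⁻¹ (H.inv_mem hx)
    rw [mul_inv_cancel, hone] at this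
    exact (eq_of_add this.symm).symm
  let N : Subgroup G :=
    { carrier := {x | x ∈ H ∧ p x = 0}
      one_mem' := ⟨H.one_mem, hone⟩
      mul_mem' := by
        rintro x y ⟨hx, hx0⟩ ⟨hy, hy0⟩
        exact ⟨H.mul_mem hx hy, by rw [hmul x hx y hy, hx0, hy0, add_zero]⟩
      inv_mem' := by
        rintro x ⟨hx, hx0⟩
        exact ⟨H.inv_mem hx, by rw [hpinv x hx, hx0]⟩ }
  have hN : ⁅H, H⁆ ≤ N := by
    rw [Subgroup.commutator_le]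
    intro x hx y hy
    refine ⟨?_, ?_⟩
    · rw [commutatorElement_def]
      exact H.mul_mem (H.mul_mem (H.mul_mem hx hy) (H.inv_mem hx)) (H.inv_mem hy)
    · rw [commutatorElement_def, hmul _ (H.mul_mem (H.mul_mem hx hy) (H.inv_mem hx)) _ (H.inv_mem hy),
        hmul _ (H.mul_mem hx hy) _ (H.inv_mem hx), hmul x hx y hy, hpinv x hx, hpinv y hy]
      have : p x + p y + p x + p y = (p x + p x) + (p y + p y) := by ring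
      rw [this, add_self, add_self, add_zero]
  intro x hx
  rw [← k.perf] at hx
  obtain ⟨hx', hx0⟩ := hN hx
  have := hp x hx'
  rwa [hx0, e_zero, inv_one, one_mul] at this

/-- **the element `n`** -/
theorem exists_n {S : Sys σ G} {dl hx : Fˣ → G} {H Q : Subgroup G} {h' : G} (P : Hp S dl H Q h') (k : KH S H Q)
    (D : Dl S dl) (I : Inv σ τ) (Hh : Hx S hx) (hc : ∀ x d, Commute (hx x) (dl d))
    (hH : ∀ c, ∀ x ∈ H, (hx c)⁻¹ * x * hx c ∈ H) : ∃ c : Fˣ, Nn S dl ((hx c)⁻¹ * h') ∧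
    ∀ u, h' * S.e 0 0 u * h'⁻¹ = S.e 0 0 (σ c * (c * c) * u) := by
  obtain ⟨c, hq⟩ := P.summary k D I
  have hxq : ∀ α β γ δ ε, hx c * q5 S α β γ δ ε * (hx c)⁻¹ =
      q5 S (c * σ c * α) (c * σ c * β) (σ c * (c * c) * γ) (c * σ c * δ) (c * σ c * ε) := by
    intro α β γ δ ε
    have e7 : S.e 7 0 (c * σ c * α) = hx c * S.e 7 0 α * (hx c)⁻¹ := by rw [Hh.e7, mul_zero]
    have e0 : S.e 0 0 (σ c * (c * c) * γ) = hx c * S.e 0 0 γ * (hx c)⁻¹ := by rw [Hh.e0, mul_zero]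
    have e1 : S.e 1 0 (c * σ c * ε) = hx c * S.e 1 0 ε * (hx c)⁻¹ := by rw [Hh.e1, mul_zero]
    unfold q5
    rw [e7, e0, e1, ← Hh.o7, ← Hh.o0]; group
  have hcq : ∀ α β γ δ ε, Commute ((hx c)⁻¹ * h') (q5 S α β γ δ ε) := by
    intro α β γ δ ε
    have h1 : h' * q5 S α β γ δ ε * h'⁻¹ = hx c * q5 S α β γ δ ε * (hx c)⁻¹ := by rw [hq, hxq]
    show (hx c)⁻¹ * h' * q5 S α β γ δ ε = q5 S α β γ δ ε * ((hx c)⁻¹ * h')
    calc (hx c)⁻¹ * h' * q5 S α β γ δ ε = (hx c)⁻¹ * (h' * q5 S α β γ δ ε * h'⁻¹) * h' := by group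
      _ = _ := by rw [h1]; group
  have hnH : ∀ x ∈ H, (hx c)⁻¹ * h' * x * ((hx c)⁻¹ * h')⁻¹ ∈ H := by
    intro x hxx
    have := hH c _ (P.HH x hxx)
    have e : (hx c)⁻¹ * h' * x * ((hx c)⁻¹ * h')⁻¹ = (hx c)⁻¹ * (h' * x * h'⁻¹) * hx c := by group
    rwa [e]
  have hd : ∀ x ∈ H, InQ S (dlt ((hx c)⁻¹ * h') x) := by
    apply dlt_inQ_hom k
    intro x hxx
    have h1 : dlt ((hx c)⁻¹ * h') x = x⁻¹ * ((hx c)⁻¹ * h' * x * ((hx c)⁻¹ * h')⁻¹) := rfl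
    rw [h1]
    refine Hp.same_act k (hnH x hxx) hxx ?_
    intro α β γ δ ε
    have h2 : InQ S (x⁻¹ * q5 S α β γ δ ε * x) := by
      have := k.nor x⁻¹ (H.inv_mem hxx) _ (InQ.q5 S α β γ δ ε)
      rwa [inv_inv] at this
    obtain ⟨a1, a2, a3, a4, a5, ha⟩ := h2
    set n := (hx c)⁻¹ * h' with hn
    have h3 : n⁻¹ * q5 S α β γ δ ε * n = q5 S α β γ δ ε := conj_comm (hcq α β γ δ ε)
    calc (n * x * n⁻¹)⁻¹ * q5 S α β γ δ ε * (n * x * n⁻¹) = n * (x⁻¹ * (n⁻¹ * q5 S α β γ δ ε * n) * x) * n⁻¹ := by group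
      _ = n * q5 S a1 a2 a3 a4 a5 * n⁻¹ := by rw [h3, ha]
      _ = x⁻¹ * q5 S α β γ δ ε * x := by rw [(hcq a1 a2 a3 a4 a5).eq, ha]; group
  refine ⟨c, ⟨fun u => ?_, fun t => ?_, fun u => ?_, fun t => ?_, fun u => ?_, fun d => ?_, fun s => ?_, fun s => ?_,
    fun p u => ?_, fun p u => ?_, fun p u => ?_, fun p u => ?_, fun p u => ?_⟩, fun u => ?_⟩
  · rw [z7_eq]; exact hcq _ _ _ _ _
  · rw [o7_eq]; exact hcq _ _ _ _ _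
  · rw [z0_eq]; exact hcq _ _ _ _ _
  · rw [o0_eq]; exact hcq _ _ _ _ _
  · rw [z1_eq]; exact hcq _ _ _ _ _
  · exact (hc c d).inv_left.mul_left (P.dl d)
  · exact hd _ (k.le (k.o1 s))
  · exact hd _ (k.le (k.o6 s))
  · exact hd _ (k.le (k.e1 p u))
  · exact hd _ (k.le (k.e7 p u))
  · exact hd _ (k.le (k.e0 p u))
  · exact hd _ (k.e2 p u)
  · exact hd _ (k.e6 p u)
  · rw [z0_eq, hq, z0_eq, mul_zero]

/-- **from `h'` to the family** -/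
theorem exists_fam' {S : Sys σ G} {dl hx : Fˣ → G} {H Q A : Subgroup G} {h' : G} (P : Hp S dl H Q h') (k : KH S H Q)
    (D : Dl S dl) (I : Inv σ τ) (Hh : Hx S hx) (hc : ∀ x d, Commute (hx x) (dl d))
    (hH : ∀ c, ∀ x ∈ H, (hx c)⁻¹ * x * hx c ∈ H) (hA : ∀ r ∈ A, ∀ x, Commute r (hx x))
    (hAo : ∀ r ∈ A, ∀ a t, Commute r (S.o a t)) (hAe : ∀ r ∈ A, ∀ a p u, Commute r (S.e a p u))
    (hAr : ∀ r ∈ A, Commute r S.rot) {β : G → F} (hβ : ∀ r ∈ A, Commute h' (r * S.e 0 0 (β r)))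
    (hne : ∃ u, ¬ Commute h' (S.e 0 0 u)) {t : G} (ht0 : β t ≠ 0) :
    ∃ (e0 : F) (nn : ZMod 8 → F → G), Fam S A (fun r => β r / β t) τ e0 nn := by
  obtain ⟨c, N, hz⟩ := exists_n P k D I Hh hc hH
  set ρ : F := σ c * (c * c) with hρ
  have hρ0 : ρ ≠ 0 := mul_ne_zero ((map_ne_zero σ).mpr c.ne_zero) (mul_ne_zero c.ne_zero c.ne_zero)
  have hρ1 : 1 + ρ⁻¹ ≠ 0 := by
    intro h
    obtain ⟨u, hu⟩ := hne
    apply hu
    have h1 : ρ = 1 := by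
      have := eq_of_add h
      rw [← inv_inv ρ, ← this, inv_one]
    have h2 := hz u
    rw [h1, one_mul] at h2
    show h' * S.e 0 0 u = S.e 0 0 u * h'
    calc h' * S.e 0 0 u = (h' * S.e 0 0 u * h'⁻¹) * h' := by group
      _ = _ := by rw [h2]
  refine exists_fam N D I k.uniq Hh hA (w0 := (1 + ρ⁻¹) * β t) (mul_ne_zero hρ1 ht0) ?_ hAo hAe hAr
  intro r hr
  have h1 : r⁻¹ * h' * r = h' * S.e 0 0 ((1 + ρ⁻¹) * β r) := by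
    have h2 := (hβ r hr).eq
    have h3 : r⁻¹ * h' * r = S.e 0 0 (β r) * h' * (S.e 0 0 (β r))⁻¹ := by
      calc r⁻¹ * h' * r = r⁻¹ * (h' * (r * S.e 0 0 (β r))) * (S.e 0 0 (β r))⁻¹ := by group
        _ = _ := by rw [h2]; group
    have h4 : S.e 0 0 (β r) * h' = h' * S.e 0 0 (ρ⁻¹ * β r) := by
      have := hz (ρ⁻¹ * β r)
      rw [mul_inv_cancel_left₀ hρ0] at this
      rw [← this]; group
    rw [h3, h4, z_inv, mul_assoc, z_mul]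
    congr 2; ring
  have h2 : r⁻¹ * (hx c)⁻¹ = (hx c)⁻¹ * r⁻¹ := (hA r hr c).inv_inv.eq
  calc r⁻¹ * ((hx c)⁻¹ * h') * r = (r⁻¹ * (hx c)⁻¹) * h' * r := by group
    _ = (hx c)⁻¹ * (r⁻¹ * h' * r) := by rw [h2]; group
    _ = (hx c)⁻¹ * h' * S.e 0 0 ((1 + ρ⁻¹) * β r) := by rw [h1]; group
    _ = _ := by
      congr 2
      field_simp

end Cfsg.Agent.OddHalf.D4.TwF.Bone
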