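import Mathlib

/-!
# Weights for `²F₄(q)`

`F` a field of characteristic two with an endomorphism `σ`, `σ σ = Frobenius`. Additive maps `F → F` which are
homogeneous with respect to different powers are zero.
-/

set_option autoImplicit false
set_option linter.unusedSectionVars false

namespace Cfsg.Agent.OddHalf.D4.TwF.Field

variable {F : Type*} [Field F] [CharP F 2] {σ : F →+* F}

theorem add_self (x : F) : x + x = 0 := CharTwo.add_self_eq_zero x

theorem eq_of_add {x y : F} (h : x + y = 0) : x = y := by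
  have h1 : x = x + y + y := by rw [add_assoc, add_self, add_zero]
  rw [h1, h, zero_add]

/-- the fixed points of `σ` -/
theorem fix (hσ : ∀ x, σ (σ x) = x ^ 2) {x : F} (h : σ x = x) : x = 0 ∨ x = 1 := by
  have h1 := hσ x
  rw [h, h] at h1
  have h2 : x * (x - 1) = 0 := by ring_nf; rw [← h1]; ring
  rcases mul_eq_zero.mp h2 with h3 | h3
  · exact Or.inl h3
  · exact Or.inr (sub_eq_zero.mp h3)

/-- `σ` has an inverse `τ` -/
structure Inv (σ : F →+* F) (τ : F →+* F) : Prop where
  sq : ∀ x, σ (σ x) = x ^ 2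
  l : ∀ x, τ (σ x) = x
  r : ∀ x, σ (τ x) = x
  big : ∃ x : F, x ≠ 0 ∧ x ≠ 1

variable {τ : F →+* F}

/-- `τ (x²) = σ x` -/
theorem Inv.τ_sq (I : Inv σ τ) (x : F) : τ (x * x) = σ x := by
  rw [← pow_two, ← I.sq, I.l]

/-- `τ τ` is the inverse of Frobenius -/
theorem Inv.ττ (I : Inv σ τ) (x : F) : τ (τ x) ^ 2 = x := by
  rw [← I.sq, I.r, I.r]

/-- an additive map with `ψ (c x) = ψ x` for all `c ≠ 0` -/
theorem zero_of_inv (I : Inv σ τ) {ψ : F → F} (hadd : ∀ x y, ψ (x + y) = ψ x + ψ y)
    (h : ∀ x y, x ≠ 0 → y ≠ 0 → ψ x = ψ y) (x : F) : ψ x = 0 := by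
  have h0 : ψ 0 = 0 := by
    have := hadd 0 0
    rw [add_zero] at this
    exact left_eq_add.mp this
  by_cases hx : x = 0
  · rw [hx, h0]
  obtain ⟨y, hy0, hy1⟩ := I.big
  have h1 : (1 : F) + y ≠ 0 := fun h => hy1 (eq_of_add h).symm
  have h2 := hadd 1 y
  rw [h _ _ h1 hx, h _ _ one_ne_zero hx, h _ _ hy0 hx, add_self] at h2
  exact h2

/-- the equation of the end -/
theorem end_eq (I : Inv σ τ) {e0 b : F} (hb : b ≠ 0) {p' : F}
    (h : ∀ p, e0 * τ (b * (1 + e0) * p) = p * σ p' + p' * σ p) : e0 = 0 ∨ e0 = 1 := by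
  -- apply `σ`
  have h1 : ∀ p, σ e0 * (b * (1 + e0) * p) = σ p * (p' * p') + σ p' * (p * p) := by
    intro p
    have := congrArg σ (h p)
    rw [map_mul, I.r, map_add, map_mul, map_mul, I.sq, I.sq, pow_two, pow_two] at this
    rw [this]
  have h2 := h1 1
  rw [map_one, mul_one, one_mul, mul_one, mul_one] at h2
  have h3 : ∀ p, p' * p' * (p + σ p) = σ p' * (p + p * p) := by
    intro p
    have e1 := h1 p
    have e2 : σ e0 * (b * (1 + e0) * p) = (p' * p' + σ p') * p := by rw [← h2]; ring
    rw [e2] at e1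
    have e3 : (p' * p' + σ p') * p + (σ p * (p' * p') + σ p' * (p * p)) = 0 := by rw [← e1, add_self]
    have e4 : p' * p' * (p + σ p) + σ p' * (p + p * p) = 0 := by rw [← e3]; ring
    exact eq_of_add e4
  by_cases hp : p' = 0
  · have h4 : e0 * τ (b * (1 + e0)) = 0 := by
      have := h 1
      rwa [hp, map_zero, zero_mul, mul_zero, add_zero, mul_one] at this
    rcases mul_eq_zero.mp h4 with h5 | h5
    · exact Or.inl h5
    · have h6 : b * (1 + e0) = 0 := by
        have := congrArg σ h5
        rwa [I.r, map_zero] at this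
      exact Or.inr (eq_of_add ((mul_eq_zero.mp h6).resolve_left hb)).symm
  · exfalso
    obtain ⟨κ, hκ⟩ : ∃ κ, κ = σ p' / (p' * p') := ⟨_, rfl⟩
    have hpp : p' * p' ≠ 0 := mul_ne_zero hp hp
    have h4 : ∀ p, σ p = (1 + κ) * p + κ * (p * p) := by
      intro p
      have e1 := h3 p
      have e2 : p + σ p = κ * (p + p * p) := by
        rw [hκ, div_mul_eq_mul_div, eq_div_iff hpp, ← e1]; ring
      have e3 : σ p = (p + σ p) + p := by
        have := add_self p
        calc σ p = σ p + (p + p) := by rw [this, add_zero]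
          _ = (p + σ p) + p := by ring
      rw [e3, e2]; ring
    obtain ⟨x, hx0, hx1⟩ := I.big
    have two : (2 : F) = 0 := CharTwo.two_eq_zero
    have h5 : (κ + κ * κ) * (x * x * ((1 + x) * (1 + x))) = 0 := by
      have e1 := map_mul σ x x
      rw [h4 (x * x), h4 x] at e1
      linear_combination (-1) * e1 + (κ * x ^ 4) * two
    have hx2 : (1 : F) + x ≠ 0 := fun h => hx1 (eq_of_add h).symm
    have h6 : κ * (1 + κ) = 0 := by
      have := (mul_eq_zero.mp h5).resolve_right
        (mul_ne_zero (mul_ne_zero hx0 hx0) (mul_ne_zero hx2 hx2))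
      rw [← this]; ring
    rcases mul_eq_zero.mp h6 with h7 | h7
    · have h8 := h4 x
      rw [h7, add_zero, one_mul, zero_mul, add_zero] at h8
      rcases fix I.sq h8 with h9 | h9
      · exact hx0 h9
      · exact hx1 h9
    · have h8 : ∀ y, σ y = y * y := by
        intro y
        have := h4 y
        have hk : κ = 1 := (eq_of_add h7).symm
        rw [this, hk, add_self, zero_mul, zero_add, one_mul]
      have h9 := I.sq x
      rw [h8, h8] at h9
      have h10 : x * x * (x * x - 1) = 0 := by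
        have : x * x * (x * x) - x ^ 2 = 0 := sub_eq_zero.mpr h9
        rw [← this]; ring
      have h11 := (mul_eq_zero.mp h10).resolve_left (mul_ne_zero hx0 hx0)
      have h12 : (1 + x) * (1 + x) = 0 := by
        linear_combination h11 + (1 + x) * two
      exact (mul_ne_zero hx2 hx2) h12

/-- the conclusion of the end -/
theorem end_mu (I : Inv σ τ) {e0 μ : F} (he : e0 = 0 ∨ e0 = 1) (h : σ μ + e0 * τ μ + μ * (1 + e0) = 0) :
    μ = 0 ∨ μ = 1 := by
  have two : (2 : F) = 0 := CharTwo.two_eq_zero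
  rcases he with rfl | rfl
  · rw [zero_mul, add_zero, add_zero, mul_one] at h
    exact fix I.sq (eq_of_add h)
  · rw [one_mul, add_self, mul_zero, add_zero] at h
    have h1 : σ μ = τ μ := eq_of_add h
    have h2 := congrArg σ h1
    rw [I.sq, I.r] at h2
    have h3 : μ * (μ - 1) = 0 := by
      have := sub_eq_zero.mpr h2
      rw [← this]; ring
    rcases mul_eq_zero.mp h3 with h4 | h4
    · exact Or.inl h4
    · exact Or.inr (sub_eq_zero.mp h4)

end Cfsg.Agent.OddHalf.D4.TwF.Field
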