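import Cfsg.Agent.KFacts.TwF4.Sys
import Cfsg.Agent.OddHalf.D4.TwF.Field
import Cfsg.Agent.OddHalf.DblR.Basic

/-!
# ODD D4, `K = ²F₄(q)`, `q ≥ 8`: the end

`Fam`: elements `n a w` centralising `Q₂(a)` and acting on `A` by `r ↦ r z_a(μ r w)`. They lead to a contradiction if
`|A| ≥ 4`.
-/

set_option autoImplicit false
set_option linter.unusedSectionVars false

namespace Cfsg.Agent.OddHalf.D4.TwF.End

open Cfsg.Agent.KFacts.TwF4 Cfsg.Agent.OddHalf.D4.TwF.Field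

variable {F : Type*} [Field F] [CharP F 2] {σ τ : F →+* F} {G : Type*} [Group G]

/-! ### commutation in `Sys` -/

section sys

variable (S : Sys σ G)

theorem o_zero (a : ZMod 8) : S.o a 0 = 1 := by
  have := S.o_add a 0 0
  rw [add_zero] at this
  exact mul_eq_left.mp this

theorem e_zero (a : ZMod 8) : S.e a 0 0 = 1 := by
  have := S.e_mul a 0 0 0 0
  rw [zero_mul, add_zero, add_zero] at this
  exact mul_eq_left.mp this

theorem z_mul (a : ZMod 8) (u v : F) : S.e a 0 u * S.e a 0 v = S.e a 0 (u + v) := by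
  have := S.e_mul a 0 u 0 v
  rwa [zero_mul, add_zero, add_zero] at this

theorem z_sq (a : ZMod 8) (u : F) : S.e a 0 u * S.e a 0 u = 1 := by
  rw [z_mul, add_self, e_zero]

theorem z_inv (a : ZMod 8) (u : F) : (S.e a 0 u)⁻¹ = S.e a 0 u := inv_eq_of_mul_eq_one_left (z_sq S a u)

theorem o_sq (a : ZMod 8) (u : F) : S.o a u * S.o a u = 1 := by
  rw [S.o_add, add_self, o_zero]

theorem o_inv (a : ZMod 8) (u : F) : (S.o a u)⁻¹ = S.o a u := inv_eq_of_mul_eq_one_left (o_sq S a u)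

theorem z_ee (a : ZMod 8) (u q v : F) : Commute (S.e a 0 u) (S.e a q v) := by
  show S.e a 0 u * S.e a q v = S.e a q v * S.e a 0 u
  rw [S.e_mul, S.e_mul, zero_mul, map_zero, mul_zero]
  congr 1
  · ring
  · ring

/-- `Z_a` and `E_(a+1)` -/
theorem z_e1 (a : ZMod 8) (u q v : F) : Commute (S.e a 0 u) (S.e (a + 1) q v) := by
  have := S.e_e1 a 0 u q v
  rwa [zero_mul, o_zero, mul_one] at this

theorem e_z1 (a : ZMod 8) (p u v : F) : Commute (S.e a p u) (S.e (a + 1) 0 v) := by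
  have := S.e_e1 a p u 0 v
  rwa [mul_zero, o_zero, mul_one] at this

theorem e_e2' (a : ZMod 8) (p u q v : F) : Commute (S.e a p u) (S.e (a + 2) q v) := S.e_e2 a p u q v

theorem e_o0' (a : ZMod 8) (p u s : F) : Commute (S.e a p u) (S.o a s) := S.e_o0 a p u s

theorem o_e1' (a : ZMod 8) (t q v : F) : Commute (S.o a t) (S.e (a + 1) q v) := S.o_e1 a t q v

theorem o_o1' (a : ZMod 8) (t s : F) : Commute (S.o a t) (S.o (a + 1) s) := S.o_o1 a t s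

theorem o_o2' (a : ZMod 8) (t s : F) : Commute (S.o a t) (S.o (a + 2) s) := S.o_o2 a t s

theorem z_o1 (a : ZMod 8) (u s : F) : Commute (S.e a 0 u) (S.o (a + 1) s) := by
  have := S.e_o1 a 0 u s
  rwa [zero_mul, e_zero, mul_one] at this

theorem o_z2 (a : ZMod 8) (t v : F) : Commute (S.o a t) (S.e (a + 2) 0 v) := by
  have := S.o_e2 a t 0 v
  rwa [mul_zero, e_zero, mul_one] at this

theorem o_o (a : ZMod 8) (t s : F) : Commute (S.o a t) (S.o a s) := by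
  show S.o a t * S.o a s = S.o a s * S.o a t
  rw [S.o_add, S.o_add, add_comm]

/-- `z_a(u)` and `z_(a+3)(v)` -/
theorem z_z3 (a : ZMod 8) (u v : F) : S.e a 0 u * S.e (a + 3) 0 v =
    S.e (a + 3) 0 v * S.e a 0 u * (S.e (a + 1) 0 (σ u * v) * S.o (a + 1) (u * v) * S.e (a + 2) 0 (u * σ v)) := by
  have := S.e_e3 a 0 u 0 v
  simp only [map_zero, zero_mul, mul_zero, add_zero, zero_add, o_zero, mul_one] at this
  rw [this]
  simp only [mul_assoc]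

/-- `o_a(t)` and `z_(a+3)(v)` -/
theorem o_z3 (a : ZMod 8) (t v : F) : S.o a t * S.e (a + 3) 0 v =
    S.e (a + 3) 0 v * S.o a t * S.e (a + 2) 0 (t * v) := by
  have := S.o_e3 a t 0 v
  simpa only [map_zero, zero_mul, mul_zero, add_zero, zero_add, o_zero, e_zero, mul_one] using this

end sys

/-- The family `n a w`. -/
structure Fam (S : Sys σ G) (A : Subgroup G) (μ : G → F) (τ : F →+* F) (e0 : F) (n : ZMod 8 → F → G) : Prop where
  A_o : ∀ r ∈ A, ∀ a t, Commute r (S.o a t)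
  A_e : ∀ r ∈ A, ∀ a p u, Commute r (S.e a p u)
  act : ∀ a w, ∀ r ∈ A, r⁻¹ * n a w * r = n a w * S.e a 0 (μ r * w)
  c_z : ∀ a w u, Commute (n a w) (S.e a 0 u)
  c_o : ∀ a w t, Commute (n a w) (S.o a t)
  c_om : ∀ a w t, Commute (n (a + 1) w) (S.o a t)
  c_op : ∀ a w t, Commute (n a w) (S.o (a + 1) t)
  c_omm : ∀ a w t, Commute (n (a + 2) w) (S.o a t)
  c_ep : ∀ a w p u, Commute (n a w) (S.e (a + 1) p u)
  c_em : ∀ a w p u, Commute (n (a + 1) w) (S.e a p u)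
  zp : ∀ a w v, n a w * S.e (a + 2) 0 v * (n a w)⁻¹ = S.e (a + 2) 0 v * S.e (a + 1) 0 (e0 * τ (w * v))
  zm : ∀ a w v, n (a + 2) w * S.e a 0 v * (n (a + 2) w)⁻¹ = S.e a 0 v * S.e (a + 1) 0 (e0 * τ (w * v))
  ee : ∀ a w p u, n a w * S.e a p u * (n a w)⁻¹ = S.e a p u * S.e a 0 (e0 * τ (w * p))

namespace Fam

variable {S : Sys σ G} {A : Subgroup G} {μ : G → F} {e0 : F} {n : ZMod 8 → F → G}

/-- conjugating `n` by an element which it moves by a commuting factor -/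
theorem conj_of {G : Type*} [Group G] {n x k : G} (h : n * x * n⁻¹ = x * k) : x⁻¹ * n * x = k * n := by
  have h1 : n * x = x * k * n := by rw [← h]; group
  calc x⁻¹ * n * x = x⁻¹ * (n * x) := by group
    _ = k * n := by rw [h1]; group

theorem conj_mul' {G : Type*} [Group G] {a b x : G} : x⁻¹ * (a * b) * x = (x⁻¹ * a * x) * (x⁻¹ * b * x) := by group

/-- the element `f = n⁻¹ nˢ`, `n = n₇(u)`, `s = z₂(v)` -/
def f (S : Sys σ G) (n : ZMod 8 → F → G) (u v : F) : G :=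
  (n 7 u)⁻¹ * ((S.e 2 0 v)⁻¹ * n 7 u * S.e 2 0 v)

/-- `c = z₀ o₀ z₁` -/
def c (S : Sys σ G) (u v : F) : G := S.e 0 0 (σ u * v) * S.o 0 (u * v) * S.e 1 0 (u * σ v)

theorem s_conj (u v : F) : (S.e 2 0 v)⁻¹ * S.e 7 0 u * S.e 2 0 v = S.e 7 0 u * c S u v := by
  have h : S.e 7 0 u * S.e 2 0 v = S.e 2 0 v * S.e 7 0 u * c S u v := z_z3 S 7 u v
  calc (S.e 2 0 v)⁻¹ * S.e 7 0 u * S.e 2 0 v = (S.e 2 0 v)⁻¹ * (S.e 7 0 u * S.e 2 0 v) := by group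
    _ = _ := by rw [h]; group

theorem s_conj' (u v : F) : S.e 2 0 v * S.e 7 0 u * (S.e 2 0 v)⁻¹ = S.e 7 0 u * c S u v := by
  have h := s_conj (S := S) u v
  have h1 : (S.e 2 0 v)⁻¹ = S.e 2 0 v := z_inv S 2 v
  rwa [h1] at h ⊢

section

variable (D : Fam S A μ τ e0 n) (I : Inv σ τ)

include D

theorem cz0 (u x : F) : Commute (n 7 u) (S.e 0 0 x) := D.c_ep 7 u 0 x
theorem co0 (u x : F) : Commute (n 7 u) (S.o 0 x) := D.c_op 7 u x

theorem n7z1 (u b : F) : n 7 u * S.e 1 0 b * (n 7 u)⁻¹ = S.e 1 0 b * S.e 0 0 (e0 * τ (u * b)) := D.zp 7 u b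

/-- `c⁻¹ n c = n z₀` -/
theorem c_conj (u u' v : F) : (c S u' v)⁻¹ * n 7 u * c S u' v =
    n 7 u * S.e 0 0 (e0 * τ (u * (u' * σ v))) := by
  have h1 := conj_of (D.n7z1 u (u' * σ v))
  have h2 := D.cz0 u (σ u' * v)
  have h3 := D.co0 u (u' * v)
  have e1 : (c S u' v)⁻¹ * n 7 u * c S u' v = (S.e 1 0 (u' * σ v))⁻¹ * ((S.o 0 (u' * v))⁻¹ *
      ((S.e 0 0 (σ u' * v))⁻¹ * n 7 u * S.e 0 0 (σ u' * v)) * S.o 0 (u' * v)) * S.e 1 0 (u' * σ v) := by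
    unfold c; group
  have e2 : (S.e 0 0 (σ u' * v))⁻¹ * n 7 u * S.e 0 0 (σ u' * v) = n 7 u := by
    rw [mul_assoc, h2.eq]; group
  have e3 : (S.o 0 (u' * v))⁻¹ * n 7 u * S.o 0 (u' * v) = n 7 u := by
    rw [mul_assoc, h3.eq]; group
  rw [e1, e2, e3, h1, (D.cz0 u _).eq]

/-- `f^{z₇(b)}` -/
theorem f_z7 (u v b : F) : (S.e 7 0 b)⁻¹ * f S n u v * S.e 7 0 b =
    f S n u v * S.e 0 0 (e0 * τ (u * (b * σ v))) := by
  have hc := D.c_conj u b v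
  have h7 : (S.e 7 0 b)⁻¹ * n 7 u * S.e 7 0 b = n 7 u := by
    rw [mul_assoc, (D.c_z 7 u b).eq]; group
  have h7' : (S.e 7 0 b)⁻¹ * (n 7 u)⁻¹ * S.e 7 0 b = (n 7 u)⁻¹ := by
    have := congrArg (·⁻¹) h7
    simp only [mul_inv_rev, inv_inv] at this
    rw [← mul_assoc] at this
    exact this
  have hs : S.e 2 0 v * S.e 7 0 b = S.e 7 0 b * c S b v * S.e 2 0 v := by
    rw [← s_conj']; group
  have e1 : (S.e 7 0 b)⁻¹ * f S n u v * S.e 7 0 b = ((S.e 7 0 b)⁻¹ * (n 7 u)⁻¹ * S.e 7 0 b) *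
      ((S.e 2 0 v * S.e 7 0 b)⁻¹ * n 7 u * (S.e 2 0 v * S.e 7 0 b)) := by unfold f; group
  rw [e1, h7', hs]
  have e2 : (S.e 7 0 b * c S b v * S.e 2 0 v)⁻¹ * n 7 u * (S.e 7 0 b * c S b v * S.e 2 0 v) =
      (S.e 2 0 v)⁻¹ * ((c S b v)⁻¹ * ((S.e 7 0 b)⁻¹ * n 7 u * S.e 7 0 b) * c S b v) * S.e 2 0 v := by group
  rw [e2, h7, hc]
  have h02 : Commute (S.e 0 0 (e0 * τ (u * (b * σ v)))) (S.e 2 0 v) := e_e2' S 0 _ _ _ _
  unfold f
  calc (n 7 u)⁻¹ * ((S.e 2 0 v)⁻¹ * (n 7 u * S.e 0 0 (e0 * τ (u * (b * σ v)))) * S.e 2 0 v)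
      = (n 7 u)⁻¹ * ((S.e 2 0 v)⁻¹ * n 7 u * (S.e 0 0 (e0 * τ (u * (b * σ v))) * S.e 2 0 v)) := by group
    _ = _ := by rw [h02.eq]; group

/-- `f` commutes with `z₀`, `o₀`, `z₁`, `E₀` -/
theorem f_e0 (u v p x : F) : Commute (f S n u v) (S.e 0 p x) := by
  have h1 : Commute (n 7 u) (S.e 0 p x) := D.c_ep 7 u p x
  have h2 : Commute (S.e 2 0 v) (S.e 0 p x) := (e_e2' S 0 p x 0 v).symm
  unfold f
  exact h1.inv_left.mul_left ((h2.inv_left.mul_left h1).mul_left h2)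

theorem f_o0 (u v x : F) : Commute (f S n u v) (S.o 0 x) := by
  have h1 : Commute (n 7 u) (S.o 0 x) := D.c_op 7 u x
  have h2 : Commute (S.e 2 0 v) (S.o 0 x) := (o_z2 S 0 x v).symm
  unfold f
  exact h1.inv_left.mul_left ((h2.inv_left.mul_left h1).mul_left h2)

theorem f_z1 (u v b : F) : Commute (f S n u v) (S.e 1 0 b) := by
  have h0 := D.n7z1 u b
  have h1 := conj_of h0
  have h2 : Commute (S.e 2 0 v) (S.e 1 0 b) := (e_z1 S 1 0 b v).symm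
  have h3 : Commute (S.e 2 0 v) (S.e 0 0 (e0 * τ (u * b))) := (e_e2' S 0 0 _ 0 v).symm
  have h4 := D.cz0 u (e0 * τ (u * b))
  have e1 : (S.e 1 0 b)⁻¹ * f S n u v * S.e 1 0 b = f S n u v := by
    have g1 : (S.e 1 0 b)⁻¹ * S.e 2 0 v * S.e 1 0 b = S.e 2 0 v := by rw [mul_assoc, h2.eq]; group
    have g2 : (S.e 1 0 b)⁻¹ * (S.e 2 0 v)⁻¹ * S.e 1 0 b = (S.e 2 0 v)⁻¹ := by
      rw [mul_assoc, h2.inv_left.eq]; group
    have g3 : (S.e 1 0 b)⁻¹ * (n 7 u)⁻¹ * S.e 1 0 b = (n 7 u)⁻¹ * (S.e 0 0 (e0 * τ (u * b)))⁻¹ := by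
      have := congrArg (·⁻¹) h1
      simp only [mul_inv_rev, inv_inv] at this
      rw [← mul_assoc] at this
      exact this
    have e2 : (S.e 1 0 b)⁻¹ * f S n u v * S.e 1 0 b = ((S.e 1 0 b)⁻¹ * (n 7 u)⁻¹ * S.e 1 0 b) *
        (((S.e 1 0 b)⁻¹ * (S.e 2 0 v)⁻¹ * S.e 1 0 b) * ((S.e 1 0 b)⁻¹ * n 7 u * S.e 1 0 b) *
        ((S.e 1 0 b)⁻¹ * S.e 2 0 v * S.e 1 0 b)) := by unfold f; group
    rw [e2, g1, g2, g3, h1]
    unfold f
    have h5 := h3.inv_left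
    calc (n 7 u)⁻¹ * (S.e 0 0 (e0 * τ (u * b)))⁻¹ * ((S.e 2 0 v)⁻¹ * (S.e 0 0 (e0 * τ (u * b)) * n 7 u) * S.e 2 0 v)
        = (n 7 u)⁻¹ * (S.e 0 0 (e0 * τ (u * b)))⁻¹ * (((S.e 2 0 v)⁻¹ * S.e 0 0 (e0 * τ (u * b))) * n 7 u * S.e 2 0 v) := by
          group
      _ = _ := by rw [h5.eq]; group
  show f S n u v * S.e 1 0 b = S.e 1 0 b * f S n u v
  calc f S n u v * S.e 1 0 b = S.e 1 0 b * ((S.e 1 0 b)⁻¹ * f S n u v * S.e 1 0 b) := by group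
    _ = _ := by rw [e1]

/-- `f^{o₇(x)}` -/
theorem f_o7 (u v x : F) : (S.o 7 x)⁻¹ * f S n u v * S.o 7 x =
    f S n u v * S.e 0 0 (e0 * τ (u * (x * v))) := by
  have h7 : (S.o 7 x)⁻¹ * n 7 u * S.o 7 x = n 7 u := by
    rw [mul_assoc, (D.c_o 7 u x).eq]; group
  have h7' : (S.o 7 x)⁻¹ * (n 7 u)⁻¹ * S.o 7 x = (n 7 u)⁻¹ := by
    rw [mul_assoc, (D.c_o 7 u x).inv_left.eq]; group
  have ho : S.o 7 x * S.e 2 0 v = S.e 2 0 v * S.o 7 x * S.e 1 0 (x * v) := o_z3 S 7 x v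
  have hs : S.e 2 0 v * S.o 7 x = S.o 7 x * S.e 1 0 (x * v) * S.e 2 0 v := by
    have h21 : Commute (S.e 1 0 (x * v)) (S.e 2 0 v) := e_z1 S 1 0 _ v
    calc S.e 2 0 v * S.o 7 x = (S.e 2 0 v * S.o 7 x * S.e 1 0 (x * v)) * (S.e 1 0 (x * v))⁻¹ := by group
      _ = S.o 7 x * (S.e 2 0 v * (S.e 1 0 (x * v))⁻¹) := by rw [← ho]; group
      _ = S.o 7 x * ((S.e 1 0 (x * v))⁻¹ * S.e 2 0 v) := by rw [h21.inv_left.eq]
      _ = _ := by rw [z_inv]; group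
  have h1 := conj_of (D.n7z1 u (x * v))
  have e1 : (S.o 7 x)⁻¹ * f S n u v * S.o 7 x = ((S.o 7 x)⁻¹ * (n 7 u)⁻¹ * S.o 7 x) *
      ((S.e 2 0 v * S.o 7 x)⁻¹ * n 7 u * (S.e 2 0 v * S.o 7 x)) := by unfold f; group
  rw [e1, h7', hs]
  have e2 : (S.o 7 x * S.e 1 0 (x * v) * S.e 2 0 v)⁻¹ * n 7 u * (S.o 7 x * S.e 1 0 (x * v) * S.e 2 0 v) =
      (S.e 2 0 v)⁻¹ * ((S.e 1 0 (x * v))⁻¹ * ((S.o 7 x)⁻¹ * n 7 u * S.o 7 x) * S.e 1 0 (x * v)) * S.e 2 0 v := by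
    group
  rw [e2, h7, h1, ← (D.cz0 u _).eq]
  have h02 : Commute (S.e 0 0 (e0 * τ (u * (x * v)))) (S.e 2 0 v) := e_e2' S 0 _ _ _ _
  unfold f
  calc (n 7 u)⁻¹ * ((S.e 2 0 v)⁻¹ * (n 7 u * S.e 0 0 (e0 * τ (u * (x * v)))) * S.e 2 0 v)
      = (n 7 u)⁻¹ * ((S.e 2 0 v)⁻¹ * n 7 u * (S.e 0 0 (e0 * τ (u * (x * v))) * S.e 2 0 v)) := by group
    _ = _ := by rw [h02.eq]; group

/-- `A` on `f` -/
theorem f_act (u v : F) {r : G} (hr : r ∈ A) : r⁻¹ * f S n u v * r =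
    f S n u v * S.e 0 0 (e0 * τ (u * (μ r * u * σ v))) * c S (μ r * u) v := by
  have hs : r⁻¹ * S.e 2 0 v * r = S.e 2 0 v := by rw [mul_assoc, ← (D.A_e r hr 2 0 v).eq]; group
  have hs' : r⁻¹ * (S.e 2 0 v)⁻¹ * r = (S.e 2 0 v)⁻¹ := by
    rw [mul_assoc, ← (D.A_e r hr 2 0 v).inv_right.eq]; group
  have h1 := D.act 7 u r hr
  have h2 : r⁻¹ * (n 7 u)⁻¹ * r = (S.e 7 0 (μ r * u))⁻¹ * (n 7 u)⁻¹ := by
    have := congrArg (·⁻¹) h1
    simp only [mul_inv_rev, inv_inv] at this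
    rw [← mul_assoc] at this
    exact this
  have e1 : r⁻¹ * f S n u v * r = (r⁻¹ * (n 7 u)⁻¹ * r) * ((r⁻¹ * (S.e 2 0 v)⁻¹ * r) * (r⁻¹ * n 7 u * r) *
      (r⁻¹ * S.e 2 0 v * r)) := by unfold f; group
  have h3 := D.f_z7 u v (μ r * u)
  have h4 := s_conj (S := S) (μ r * u) v
  rw [e1, h1, h2, hs, hs']
  calc (S.e 7 0 (μ r * u))⁻¹ * (n 7 u)⁻¹ * ((S.e 2 0 v)⁻¹ * (n 7 u * S.e 7 0 (μ r * u)) * S.e 2 0 v)
      = (S.e 7 0 (μ r * u))⁻¹ * f S n u v * ((S.e 2 0 v)⁻¹ * S.e 7 0 (μ r * u) * S.e 2 0 v) := by unfold f; group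
    _ = ((S.e 7 0 (μ r * u))⁻¹ * f S n u v * S.e 7 0 (μ r * u)) * c S (μ r * u) v := by rw [h4]; group
    _ = _ := by rw [h3]

/-! ### `f g` -/

/-- `f g` with `g = n₁(u σ v)` -/
def fg (S : Sys σ G) (n : ZMod 8 → F → G) (u v : F) : G := f S n u v * n 1 (u * σ v)

theorem fg_e0 (u v p x : F) : Commute (fg S n u v) (S.e 0 p x) :=
  (D.f_e0 u v p x).mul_left (D.c_em 0 (u * σ v) p x)

theorem fg_o0 (u v x : F) : Commute (fg S n u v) (S.o 0 x) :=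
  (D.f_o0 u v x).mul_left (D.c_om 0 (u * σ v) x)

theorem fg_z1 (u v x : F) : Commute (fg S n u v) (S.e 1 0 x) :=
  (D.f_z1 u v x).mul_left (D.c_z 1 (u * σ v) x)

theorem fg_o7 (u v x : F) : (S.o 7 x)⁻¹ * fg S n u v * S.o 7 x =
    fg S n u v * S.e 0 0 (e0 * τ (u * (x * v))) := by
  have h1 : Commute (n 1 (u * σ v)) (S.o 7 x) := D.c_omm 7 (u * σ v) x
  have h2 : (S.o 7 x)⁻¹ * n 1 (u * σ v) * S.o 7 x = n 1 (u * σ v) := by rw [mul_assoc, h1.eq]; group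
  have h3 : Commute (n 1 (u * σ v)) (S.e 0 0 (e0 * τ (u * (x * v)))) := D.c_em 0 _ _ _
  unfold fg
  rw [conj_mul', D.f_o7, h2, mul_assoc, ← h3.eq, mul_assoc]

theorem fg_z7 (I : Inv σ τ) (u v b : F) : Commute (fg S n u v) (S.e 7 0 b) := by
  have h1 := conj_of (D.zm 7 (u * σ v) b)
  have h2 : (S.e 7 0 b)⁻¹ * n 1 (u * σ v) * S.e 7 0 b = S.e 0 0 (e0 * τ (u * σ v * b)) * n 1 (u * σ v) := h1
  have h3 : (S.e 7 0 b)⁻¹ * fg S n u v * S.e 7 0 b = fg S n u v := by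
    unfold fg
    rw [conj_mul', D.f_z7, h2]
    have e1 : u * σ v * b = u * (b * σ v) := by ring
    rw [e1]
    calc f S n u v * S.e 0 0 (e0 * τ (u * (b * σ v))) * (S.e 0 0 (e0 * τ (u * (b * σ v))) * n 1 (u * σ v))
        = f S n u v * (S.e 0 0 (e0 * τ (u * (b * σ v))) * S.e 0 0 (e0 * τ (u * (b * σ v)))) * n 1 (u * σ v) := by group
      _ = _ := by rw [z_sq, mul_one]
  show fg S n u v * S.e 7 0 b = S.e 7 0 b * fg S n u v
  calc fg S n u v * S.e 7 0 b = S.e 7 0 b * ((S.e 7 0 b)⁻¹ * fg S n u v * S.e 7 0 b) := by group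
    _ = _ := by rw [h3]

/-- `A` on `f g` -/
theorem fg_act (I : Inv σ τ) (u v : F) {r : G} (hr : r ∈ A) : r⁻¹ * fg S n u v * r =
    fg S n u v * S.e 0 0 (σ u * v * (σ (μ r) + e0 * τ (μ r))) * S.o 0 (μ r * (u * v)) := by
  have h1 := D.act 1 (u * σ v) r hr
  unfold fg
  rw [conj_mul', D.f_act u v hr, h1]
  have e1 : e0 * τ (u * (μ r * u * σ v)) = e0 * τ (μ r) * (σ u * v) := by
    have : u * (μ r * u * σ v) = μ r * (u * u) * σ v := by ring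
    rw [this, map_mul, map_mul, I.τ_sq, I.l]; ring
  have e2 : μ r * (u * σ v) = μ r * u * σ v := by ring
  have e3 : σ (μ r * u) * v = σ (μ r) * (σ u * v) := by rw [map_mul]; ring
  have e4 : μ r * u * v = μ r * (u * v) := by ring
  rw [e1, e2]
  unfold c
  rw [e3, e4]
  set x := S.e 0 0 (e0 * τ (μ r) * (σ u * v))
  set y := S.e 0 0 (σ (μ r) * (σ u * v)) with hy
  set o := S.o 0 (μ r * (u * v)) with ho
  set z := S.e 1 0 (μ r * u * σ v) with hz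
  set g := n 1 (u * σ v) with hg
  have c1 : Commute g z := D.c_z 1 _ _
  have c2 : Commute g o := D.c_om 0 _ _
  have c3 : Commute g (x * y) := by
    exact (D.c_em 0 _ _ _).mul_right (D.c_em 0 _ _ _)
  have e5 : S.e 0 0 (σ u * v * (σ (μ r) + e0 * τ (μ r))) = x * y := by
    show _ = S.e 0 0 (e0 * τ (μ r) * (σ u * v)) * S.e 0 0 (σ (μ r) * (σ u * v))
    rw [z_mul]; congr 1; ring
  rw [e5]
  have e6 : z * z = 1 := z_sq S 1 _
  calc f S n u v * x * (y * o * z) * (g * z) = f S n u v * (x * y) * o * (z * (g * z)) := by group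
    _ = f S n u v * (x * y) * o * g := by rw [c1.eq, ← mul_assoc z z g, e6, one_mul]
    _ = f S n u v * (x * y) * (g * o) := by rw [mul_assoc, ← c2.eq]
    _ = f S n u v * ((x * y) * g) * o := by group
    _ = f S n u v * g * (x * y) * o := by rw [← c3.eq]; group

/-! ### the element `y` -/

/-- two of these -/
def ff (S : Sys σ G) (n : ZMod 8 → F → G) (u v u' v' : F) : G := fg S n u v * fg S n u' v'

/-- the scalar -/
def bb (σ : F →+* F) (u v u' v' : F) : F := σ u * v + σ u' * v'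

theorem ff_act (I : Inv σ τ) {u v u' v' : F} (huv : u * v = u' * v') {r : G} (hr : r ∈ A) :
    r⁻¹ * ff S n u v u' v' * r = ff S n u v u' v' * S.e 0 0 (bb σ u v u' v' * (σ (μ r) + e0 * τ (μ r))) := by
  unfold ff
  rw [conj_mul', D.fg_act I u v hr, D.fg_act I u' v' hr, ← huv]
  set x := S.e 0 0 (σ u * v * (σ (μ r) + e0 * τ (μ r))) with hx
  set x' := S.e 0 0 (σ u' * v' * (σ (μ r) + e0 * τ (μ r))) with hx'
  set o := S.o 0 (μ r * (u * v)) with ho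
  have c1 : Commute (fg S n u' v') x := D.fg_e0 _ _ _ _
  have c2 : Commute (fg S n u' v') o := D.fg_o0 _ _ _
  have c3 : Commute x' o := e_o0' S 0 _ _ _
  have e1 : S.e 0 0 (bb σ u v u' v' * (σ (μ r) + e0 * τ (μ r))) = x * x' := by
    rw [hx, hx', z_mul]; congr 1; unfold bb; ring
  rw [e1]
  have e2 : o * o = 1 := o_sq S 0 _
  calc fg S n u v * x * o * (fg S n u' v' * x' * o) = fg S n u v * x * ((o * fg S n u' v') * (x' * o)) := by group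
    _ = fg S n u v * x * ((fg S n u' v' * o) * (o * x')) := by rw [← c2.eq, c3.eq]
    _ = fg S n u v * (x * fg S n u' v') * ((o * o) * x') := by group
    _ = fg S n u v * (fg S n u' v' * x) * x' := by rw [← c1.eq, e2, one_mul]
    _ = _ := by group

theorem ff_o7 {u v u' v' : F} (huv : u * v = u' * v') (x : F) : Commute (ff S n u v u' v') (S.o 7 x) := by
  have h3 : (S.o 7 x)⁻¹ * ff S n u v u' v' * S.o 7 x = ff S n u v u' v' := by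
    unfold ff
    rw [conj_mul', D.fg_o7, D.fg_o7]
    have e1 : u' * (x * v') = u * (x * v) := by
      calc u' * (x * v') = x * (u' * v') := by ring
        _ = _ := by rw [← huv]; ring
    rw [e1]
    have c1 : Commute (fg S n u' v') (S.e 0 0 (e0 * τ (u * (x * v)))) := D.fg_e0 _ _ _ _
    calc fg S n u v * S.e 0 0 (e0 * τ (u * (x * v))) * (fg S n u' v' * S.e 0 0 (e0 * τ (u * (x * v))))
        = fg S n u v * (S.e 0 0 (e0 * τ (u * (x * v))) * fg S n u' v') * S.e 0 0 (e0 * τ (u * (x * v))) := by group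
      _ = fg S n u v * fg S n u' v' * (S.e 0 0 (e0 * τ (u * (x * v))) * S.e 0 0 (e0 * τ (u * (x * v)))) := by
          rw [← c1.eq]; group
      _ = _ := by rw [z_sq, mul_one]
  show ff S n u v u' v' * S.o 7 x = S.o 7 x * ff S n u v u' v'
  calc ff S n u v u' v' * S.o 7 x = S.o 7 x * ((S.o 7 x)⁻¹ * ff S n u v u' v' * S.o 7 x) := by group
    _ = _ := by rw [h3]

/-- **the element `y`** -/
theorem exists_y (I : Inv σ τ) : ∃ (y : G) (b : F), b ≠ 0 ∧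
    (∀ r ∈ A, r⁻¹ * y * r = y * S.e 0 0 (b * (σ (μ r) + e0 * τ (μ r) + μ r * (1 + e0)))) ∧
    (∀ x, Commute y (S.e 7 0 x)) ∧ (∀ x, Commute y (S.o 7 x)) ∧ (∀ x, Commute y (S.e 0 0 x)) ∧
    (∀ x, Commute y (S.o 0 x)) ∧ (∀ x, Commute y (S.e 1 0 x)) ∧
    ∀ p x, y * S.e 0 p x * y⁻¹ = S.e 0 p x * S.e 0 0 (e0 * τ (b * (1 + e0) * p)) := by
  obtain ⟨l, hl0, hl1⟩ := I.big
  set b := bb σ 1 1 l l⁻¹ with hb
  have huv : (1 : F) * 1 = l * l⁻¹ := by rw [mul_inv_cancel₀ hl0, one_mul]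
  have hb0 : b ≠ 0 := by
    intro h
    have h1 : (1 : F) + σ l * l⁻¹ = 0 := by
      rw [hb] at h; unfold bb at h; rwa [map_one, one_mul] at h
    have h2 := eq_of_add h1
    have h3 : σ l = l := by
      calc σ l = (σ l * l⁻¹) * l := by rw [mul_assoc, inv_mul_cancel₀ hl0, mul_one]
        _ = l := by rw [← h2, one_mul]
    rcases fix I.sq h3 with h4 | h4
    · exact hl0 h4
    · exact hl1 h4
  set w := b * (1 + e0) with hw
  have ce : ∀ p x, Commute (ff S n 1 1 l l⁻¹) (S.e 0 p x) := fun p x =>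
    (D.fg_e0 _ _ p x).mul_left (D.fg_e0 _ _ p x)
  have co : ∀ x, Commute (ff S n 1 1 l l⁻¹) (S.o 0 x) := fun x =>
    (D.fg_o0 _ _ x).mul_left (D.fg_o0 _ _ x)
  have cz1 : ∀ x, Commute (ff S n 1 1 l l⁻¹) (S.e 1 0 x) := fun x =>
    (D.fg_z1 _ _ x).mul_left (D.fg_z1 _ _ x)
  have cz7 : ∀ x, Commute (ff S n 1 1 l l⁻¹) (S.e 7 0 x) := fun x =>
    (D.fg_z7 I _ _ x).mul_left (D.fg_z7 I _ _ x)
  refine ⟨ff S n 1 1 l l⁻¹ * (n 0 w)⁻¹, b, hb0, ?_, fun x => ?_, fun x => ?_, fun x => ?_, fun x => ?_, fun x => ?_,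
    fun p x => ?_⟩
  · intro r hr
    have h1 := D.act 0 w r hr
    have h2 : r⁻¹ * (n 0 w)⁻¹ * r = (S.e 0 0 (μ r * w))⁻¹ * (n 0 w)⁻¹ := by
      have := congrArg (·⁻¹) h1
      simp only [mul_inv_rev, inv_inv] at this
      rw [← mul_assoc] at this
      exact this
    rw [conj_mul', D.ff_act I huv hr, h2, z_inv]
    have c1 : Commute (n 0 w)⁻¹ (S.e 0 0 (b * (σ (μ r) + e0 * τ (μ r) + μ r * (1 + e0)))) := (D.c_z 0 w _).inv_left
    have e1 : S.e 0 0 (b * (σ (μ r) + e0 * τ (μ r) + μ r * (1 + e0))) =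
        S.e 0 0 (b * (σ (μ r) + e0 * τ (μ r))) * S.e 0 0 (μ r * w) := by
      rw [z_mul]; congr 1; rw [hw]; ring
    calc ff S n 1 1 l l⁻¹ * S.e 0 0 (b * (σ (μ r) + e0 * τ (μ r))) * (S.e 0 0 (μ r * w) * (n 0 w)⁻¹)
        = ff S n 1 1 l l⁻¹ * ((S.e 0 0 (b * (σ (μ r) + e0 * τ (μ r))) * S.e 0 0 (μ r * w)) * (n 0 w)⁻¹) := by group
      _ = _ := by rw [← e1, ← c1.eq]; group
  · exact (cz7 x).mul_left (D.c_em 7 w 0 x).inv_left
  · exact (D.ff_o7 huv x).mul_left (D.c_om 7 w x).inv_left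
  · exact (ce 0 x).mul_left (D.c_z 0 w x).inv_left
  · exact (co x).mul_left (D.c_o 0 w x).inv_left
  · exact (cz1 x).mul_left (D.c_ep 0 w 0 x).inv_left
  · have h1 := D.ee 0 w p x
    have h2 : (n 0 w)⁻¹ * S.e 0 p x * n 0 w = S.e 0 p x * S.e 0 0 (e0 * τ (w * p)) := by
      have h3 := D.c_z 0 w (e0 * τ (w * p))
      have h4 : S.e 0 p x * S.e 0 0 (e0 * τ (w * p)) * S.e 0 0 (e0 * τ (w * p)) = S.e 0 p x := by
        rw [mul_assoc, z_sq, mul_one]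
      calc (n 0 w)⁻¹ * S.e 0 p x * n 0 w
          = (n 0 w)⁻¹ * (S.e 0 p x * S.e 0 0 (e0 * τ (w * p)) * S.e 0 0 (e0 * τ (w * p))) * n 0 w := by rw [h4]
        _ = (n 0 w)⁻¹ * ((n 0 w * S.e 0 p x * (n 0 w)⁻¹) * S.e 0 0 (e0 * τ (w * p))) * n 0 w := by rw [h1]
        _ = S.e 0 p x * (n 0 w)⁻¹ * (S.e 0 0 (e0 * τ (w * p)) * n 0 w) := by group
        _ = _ := by rw [← h3.eq]; group
    have h5 : Commute (ff S n 1 1 l l⁻¹) (S.e 0 p x * S.e 0 0 (e0 * τ (w * p))) := (ce p x).mul_right (ce 0 _)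
    calc ff S n 1 1 l l⁻¹ * (n 0 w)⁻¹ * S.e 0 p x * (ff S n 1 1 l l⁻¹ * (n 0 w)⁻¹)⁻¹
        = ff S n 1 1 l l⁻¹ * ((n 0 w)⁻¹ * S.e 0 p x * n 0 w) * (ff S n 1 1 l l⁻¹)⁻¹ := by group
      _ = _ := by rw [h2, h5.eq, mul_assoc, mul_inv_cancel, mul_one]

end

/-- **THE END.** -/
theorem mu_eq {K : Subgroup G} (D : Fam S A μ τ e0 n) (I : Inv σ τ) (B : DblR.Amb K A) (hK : ∀ a p u, S.e a p u ∈ K)
    {t : G} (ht : t ∈ A) (ht1 : t ≠ 1) (hμ : μ t = 1)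
    (hin : ∀ y : G, (∀ r ∈ A, Commute y r) → (∀ x, Commute y (S.e 7 0 x)) → (∀ x, Commute y (S.o 7 x)) →
      (∀ x, Commute y (S.e 0 0 x)) → (∀ x, Commute y (S.o 0 x)) → (∀ x, Commute y (S.e 1 0 x)) →
      ∀ ψ : F → F, (∀ p x, y * S.e 0 p x * y⁻¹ = S.e 0 p x * S.e 0 0 (ψ p)) → ∃ p', ∀ p, ψ p = p * σ p' + p' * σ p) :
    ∀ r ∈ A, μ r = 0 ∨ μ r = 1 := by
  obtain ⟨y, b, hb, hact, h1, h2, h3, h4, h5, h6⟩ := D.exists_y I
  have hAinv : ∀ r ∈ A, r⁻¹ = r := fun r hr => B.inv_eq hr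
  have hz : ∀ r ∈ A, σ (μ r) + e0 * τ (μ r) + μ r * (1 + e0) = 0 → Commute y r := by
    intro r hr h
    have := hact r hr
    rw [h, mul_zero, e_zero, mul_one] at this
    show y * r = r * y
    calc y * r = r * (r⁻¹ * y * r) := by group
      _ = r * y := by rw [this]
  have hyt : Commute y t := by
    apply hz t ht
    rw [hμ, map_one, map_one, mul_one, one_mul]
    exact add_self _
  have hyA : ∀ r ∈ A, Commute y r := by
    intro r hr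
    have key := B.tight ht ht1 hyt.eq (fun a ha => ?_) r hr
    · exact key
    · unfold DblR.br
      have e1 : a * y * a⁻¹ = a⁻¹ * y * a := by rw [hAinv a ha]
      rw [e1, hact a ha, inv_mul_cancel_left]
      exact hK 0 0 _
  obtain ⟨p', hp'⟩ := hin y hyA h1 h2 h3 h4 h5 _ h6
  have he := end_eq I hb hp'
  intro r hr
  apply end_mu I he
  have h7 := hact r hr
  have h8 : r⁻¹ * y * r = y := by rw [mul_assoc, (hyA r hr).eq]; group
  rw [h8] at h7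
  have h9 : S.e 0 0 (b * (σ (μ r) + e0 * τ (μ r) + μ r * (1 + e0))) = 1 := (mul_eq_left.mp h7.symm)
  rw [← e_zero S 0] at h9
  have h10 := (S.injE 0 _ _ _ _ h9).2
  exact (mul_eq_zero.mp h10).resolve_left hb

/-- `A` has at most two elements -/
theorem eq_one_or_eq {K : Subgroup G} (D : Fam S A μ τ e0 n) (I : Inv σ τ) (B : DblR.Amb K A)
    (hK : ∀ a p u, S.e a p u ∈ K) {t : G} (ht : t ∈ A) (ht1 : t ≠ 1) (hμ : μ t = 1)
    (hinj : ∀ r ∈ A, ∀ s ∈ A, μ r = μ s → r = s) (h0 : μ 1 = 0)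
    (hin : ∀ y : G, (∀ r ∈ A, Commute y r) → (∀ x, Commute y (S.e 7 0 x)) → (∀ x, Commute y (S.o 7 x)) →
      (∀ x, Commute y (S.e 0 0 x)) → (∀ x, Commute y (S.o 0 x)) → (∀ x, Commute y (S.e 1 0 x)) →
      ∀ ψ : F → F, (∀ p x, y * S.e 0 p x * y⁻¹ = S.e 0 p x * S.e 0 0 (ψ p)) → ∃ p', ∀ p, ψ p = p * σ p' + p' * σ p) :
    ∀ r ∈ A, r = 1 ∨ r = t := by
  intro r hr
  rcases D.mu_eq I B hK ht ht1 hμ hin r hr with h | h
  · exact Or.inl (hinj r hr 1 (one_mem A) (by rw [h, h0]))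
  · exact Or.inr (hinj r hr t ht (by rw [h, hμ]))

end Fam

end Cfsg.Agent.OddHalf.D4.TwF.End
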