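import Cfsg.Agent.OddHalf.D4.TwF.KSide
import Cfsg.Agent.KFacts.TwF4.SylU
import Cfsg.Agent.OddHalf.D4.Basic
import Cfsg.Agent.OddHalf.D4.CommConj
import Cfsg.Agent.S0001

/-!
# ODD D4, `K = ²F₄(q)`: normalising the conjugating element

An element of `G` normalising `H = PL` may be changed by an element of `H` to normalise `U` and the torus `T_4` of the
Levi factor.
-/

set_option autoImplicit false
set_option linter.unusedSectionVars false

namespace Cfsg.Agent.OddHalf.D4.TwF.Gnorm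

open Subgroup Cfsg.Agent.OddHalf.D4.Basic
open Cfsg.Agent.OddHalf.D4.CommConj (cj mem_cj cj_mul card_cj mem_cj_mul)

/-! ### abstract part -/

section abs

variable {G : Type*} [Group G] [Finite G]

open Pointwise in
/-- complements of a normal 2-subgroup are conjugate -/
theorem exists_conj_compl {Q H H' : Subgroup G} (hQ : IsPGroup 2 Q)
    (hH : Odd (Nat.card H)) (hHQ : ∀ h ∈ H, ∀ q ∈ Q, h * q * h⁻¹ ∈ Q) (hcard : Nat.card H' = Nat.card H)
    (hH' : ∀ k ∈ H', ∃ h ∈ H, ∃ q ∈ Q, k = h * q) :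
    ∃ q ∈ Q, ∀ k ∈ H', q * k * q⁻¹ ∈ H := by
  classical
  set Γ : Subgroup G := Q ⊔ H with hΓ
  have hQΓ : Q ≤ Γ := le_sup_left
  have hHΓ : H ≤ Γ := le_sup_right
  have hle : Γ ≤ Subgroup.normalizer (Q : Set G) := by
    rw [hΓ, sup_le_iff]
    refine ⟨Subgroup.le_normalizer, ?_⟩
    intro h hh
    rw [Subgroup.mem_normalizer_iff]
    intro q
    constructor
    · exact hHQ h hh q
    · intro hq
      have := hHQ h⁻¹ (inv_mem hh) _ hq
      have e : h⁻¹ * (h * q * h⁻¹) * h⁻¹⁻¹ = q := by group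
      rwa [e] at this
  have hKΓ : H' ≤ Γ := by
    intro k hk
    obtain ⟨h, hh, q, hq, rfl⟩ := hH' k hk
    exact mul_mem (hHΓ hh) (hQΓ hq)
  let N : Subgroup Γ := Q.subgroupOf Γ
  have hN : N.Normal := Subgroup.normal_subgroupOf_iff_le_normalizer hQΓ |>.2 hle
  have cN : Nat.card N = Nat.card Q := Nat.card_congr (Subgroup.subgroupOfEquivOfLe hQΓ).toEquiv
  have cH : Nat.card (H.subgroupOf Γ) = Nat.card H := Nat.card_congr (Subgroup.subgroupOfEquivOfLe hHΓ).toEquiv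
  have cK : Nat.card (H'.subgroupOf Γ) = Nat.card H' :=
    Nat.card_congr (Subgroup.subgroupOfEquivOfLe hKΓ).toEquiv
  obtain ⟨m, hm⟩ := (IsPGroup.iff_card).1 hQ
  have hcop : (Nat.card N).Coprime (Nat.card H) := by
    rw [cN, hm]; exact (Nat.coprime_two_left.2 hH).pow_left m
  have dH : Nat.Coprime (Nat.card N) (Nat.card (H.subgroupOf Γ)) := by rw [cH]; exact hcop
  have dK : Nat.Coprime (Nat.card N) (Nat.card (H'.subgroupOf Γ)) := by rw [cK, hcard]; exact hcop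
  have compH : Subgroup.IsComplement' N (H.subgroupOf Γ) := by
    apply Subgroup.isComplement'_of_disjoint_and_mul_eq_univ (Subgroup.disjoint_of_coprime_natCard dH)
    rw [← Subgroup.normal_mul, ← Subgroup.subgroupOf_sup hQΓ hHΓ, Subgroup.subgroupOf_self]
    rfl
  have compK : Subgroup.IsComplement' N (H'.subgroupOf Γ) := by
    apply Subgroup.isComplement'_of_coprime _ dK
    rw [← compH.card_mul_card, cK, cH, hcard]
  have hi : N.index = Nat.card H := by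
    rw [compH.symm.index_eq_card, cH]
  have := hQ.isNilpotent
  obtain ⟨g, hg⟩ := Cfsg.Agent.S0001.result N (by rw [hi]; exact hcop)
    (Or.inl (by
      have : Group.IsSolvable Q := inferInstance
      exact Group.isSolvable_of_isSolvable_injective (f := (Subgroup.subgroupOfEquivOfLe hQΓ).toMonoidHom)
        (Subgroup.subgroupOfEquivOfLe hQΓ).injective)) _ _ compK compH
  obtain ⟨⟨⟨h0, hh0⟩, ⟨q0, hq0⟩⟩, hgh⟩ := compH.symm.2 g
  have hq0' : (q0 : G) ∈ Q := hq0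
  have hh0' : (h0 : G) ∈ H := hh0
  refine ⟨q0, hq0', fun k hk => ?_⟩
  have h1 : (⟨k, hKΓ hk⟩ : Γ) ∈ H'.subgroupOf Γ := hk
  have h2 := Subgroup.smul_mem_pointwise_smul _ (MulAut.conj g) _ h1
  rw [hg] at h2
  have h3 : (g : G) * k * (g : G)⁻¹ ∈ H := h2
  have h4 : (g : G) = h0 * q0 := by rw [← hgh]; rfl
  rw [h4] at h3
  have h5 := mul_mem (mul_mem (inv_mem hh0') h3) hh0'
  have e : (h0 : G)⁻¹ * (h0 * q0 * k * (h0 * q0 : G)⁻¹) * h0 = q0 * k * (q0 : G)⁻¹ := by group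
  rwa [e] at h5

/-- a map of a finite subgroup into itself is onto -/
theorem conj_inv_mem {U : Subgroup G} {g : G} (h : ∀ x ∈ U, g * x * g⁻¹ ∈ U) : ∀ x ∈ U, g⁻¹ * x * g ∈ U := by
  have h1 : cj g U ≤ U := by
    intro x hx
    have h2 := h _ (mem_cj.1 hx)
    have e : g * (g⁻¹ * x * g) * g⁻¹ = x := by group
    rwa [e] at h2
  have h3 : cj g U = U := eq_of_le_of_card_ge h1 (by rw [card_cj])
  intro x hx
  rw [← h3] at hx
  exact mem_cj.1 hx

/-- **normalisation of `g`** -/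
theorem normalise {H U T : Subgroup G} (hU : IsSyl U H) (hT : T ≤ H) (hTU : ∀ t ∈ T, ∀ u ∈ U, t * u * t⁻¹ ∈ U)
    (hodd : Odd (Nat.card T)) (hN : ∀ x ∈ H, (∀ u ∈ U, x * u * x⁻¹ ∈ U) → ∃ u ∈ U, ∃ t ∈ T, x = u * t)
    {g : G} (hg : ∀ x ∈ H, g * x * g⁻¹ ∈ H) :
    ∃ y ∈ H, (∀ x ∈ U, (y * g) * x * (y * g)⁻¹ ∈ U) ∧ ∀ x ∈ T, (y * g) * x * (y * g)⁻¹ ∈ T := by
  have h2 : IsPGroup 2 ↥(cj g U) := hU.two.map _
  have h3 : cj g U ≤ H := by
    intro x hx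
    have h4 := hg _ (hU.le (mem_cj.1 hx))
    have e : g * (g⁻¹ * x * g) * g⁻¹ = x := by group
    rwa [e] at h4
  obtain ⟨m, hm, hmU⟩ := hU.conj_into h2 h3
  set g1 := m * g with hg1
  have h1U : ∀ x ∈ U, g1 * x * g1⁻¹ ∈ U := by
    intro x hx
    have := hmU _ (mem_cj_mul (g := g) hx)
    have e : m * (g * x * g⁻¹) * m⁻¹ = g1 * x * g1⁻¹ := by rw [hg1]; group
    rwa [e] at this
  have h1U' := conj_inv_mem h1U
  have h1H : ∀ x ∈ H, g1 * x * g1⁻¹ ∈ H := by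
    intro x hx
    have e : g1 * x * g1⁻¹ = m * (g * x * g⁻¹) * m⁻¹ := by rw [hg1]; group
    rw [e]
    exact H.mul_mem (H.mul_mem hm (hg x hx)) (H.inv_mem hm)
  obtain ⟨q, hq, hqT⟩ := exists_conj_compl (H' := cj g1 T) hU.two hodd hTU (card_cj _ _) (by
    intro k hk
    have hk' := mem_cj.1 hk
    set t := g1⁻¹ * k * g1 with ht
    have hkt : k = g1 * t * g1⁻¹ := by rw [ht]; group
    obtain ⟨u, hu, t', ht', e⟩ := hN k (by rw [hkt]; exact h1H _ (hT hk')) (by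
      intro u hu
      have e2 : k * u * k⁻¹ = g1 * (t * (g1⁻¹ * u * g1) * t⁻¹) * g1⁻¹ := by rw [hkt]; group
      rw [e2]
      exact h1U _ (hTU _ hk' _ (h1U' u hu)))
    refine ⟨t', ht', t'⁻¹ * u * t', ?_, by rw [e]; group⟩
    have := hTU t'⁻¹ (T.inv_mem ht') u hu
    rwa [inv_inv] at this)
  refine ⟨q * m, H.mul_mem (hU.le hq) hm, fun x hx => ?_, fun x hx => ?_⟩
  · have e : q * m * g * x * (q * m * g)⁻¹ = q * (g1 * x * g1⁻¹) * q⁻¹ := by rw [hg1]; group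
    rw [e]
    exact U.mul_mem (U.mul_mem hq (h1U x hx)) (U.inv_mem hq)
  · have e : q * m * g * x * (q * m * g)⁻¹ = q * (g1 * x * g1⁻¹) * q⁻¹ := by rw [hg1]; group
    rw [e]
    exact hqT _ (mem_cj_mul hx)

end abs

/-! ### the parabolic subgroup -/

open Cfsg.Agent.KFacts.TwF4 Cfsg.Agent.OddHalf.D4.TwF.KSide
open Cfsg.Agent.SplitTwo Cfsg.Agent.SplitTwo.ZS Cfsg.Agent.TitsThree.RankTwoZ Cfsg.Agent.TitsThree.RankTwoRGD
open Cfsg.Agent.SplitTwo.RootSysZ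

universe u

variable {F : Type*} [Field F] [CharP F 2] {σ : F →+* F} {X : Type u} [Group X] (S : Full σ X)

/-- `tdl` as a homomorphism -/
def tdlM : Fˣ →* X where
  toFun := tdl S
  map_one' := by
    unfold tdl
    rw [inv_one, map_one]; exact S.h_one
  map_mul' a b := by
    unfold tdl
    rw [S.h_mul, mul_inv, map_mul]

/-- the torus `T_4` -/
def T4 : Subgroup X := (tdlM S).range

theorem mem_T4 {x : X} : x ∈ T4 S ↔ ∃ d, tdl S d = x := Iff.rfl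

theorem T4_le_T : T4 S ≤ S.T := by
  rintro x ⟨d, rfl⟩
  exact S.mem_T.2 ⟨_, _, rfl⟩

theorem odd_units [Finite F] : Odd (Nat.card Fˣ) := by
  have := Fintype.ofFinite F
  classical
  rw [Nat.card_eq_fintype_card, Fintype.card_units]
  have h1 : Even (Fintype.card F) := by
    obtain ⟨n, hn⟩ := FiniteField.card F 2
    rw [hn.2]
    exact (Nat.even_pow.2 ⟨even_two, n.ne_zero⟩)
  exact Nat.Even.sub_odd Fintype.card_pos h1 odd_one

theorem odd_T4 [Finite F] : Odd (Nat.card (T4 S)) :=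
  Odd.of_dvd_nat odd_units (Subgroup.card_range_dvd (tdlM S))

/-- an element of the torus in `PL` lies in `T_4` -/
theorem T4_of_PL {t : X} (ht : t ∈ S.T) (hP : t ∈ S.PL) : t ∈ T4 S := by
  obtain ⟨c, d, rfl⟩ := S.mem_T.1 ht
  have h1 : S.h c d * S.e 2 0 1 = S.e 2 0 1 * S.h c d := S.comm_PL hP ⟨1, rfl⟩
  have h2 : S.h c d * S.e 2 0 1 * (S.h c d)⁻¹ = S.e 2 0 1 := by rw [h1]; group
  rw [S.h_e, mul_zero, mul_one] at h2
  have h3 := (S.injE 2 _ _ _ _ h2).2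
  have h4 : chE σ 2 c d * Units.map (σ : F →* F) (chE σ 2 c d) = 1 := Units.ext h3
  have h5 := S.unit_eq_one h4
  rw [chE_two, div_eq_one] at h5
  refine ⟨d⁻¹, ?_⟩
  show S.h (Units.map (σ : F →* F) d⁻¹⁻¹) d⁻¹⁻¹ = _
  rw [inv_inv, h5]

theorem T4_le_PL [Finite F] : T4 S ≤ S.PL := by
  rintro x ⟨d, rfl⟩
  exact S.h_mem_PL d⁻¹

theorem U_le_PL : J S.XZ 1 8 ≤ S.PL := J_mono (by norm_num) le_rfl

/-- the normaliser of `U` in `PL` -/
theorem norm_U_PL [Finite F] [Finite X] (hF : ∃ c : Fˣ, c ≠ 1) (hR : S.R.p = 2) {x : X} (hx : x ∈ S.PL)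
    (h : ∀ u ∈ J S.XZ 1 8, x * u * x⁻¹ ∈ J S.XZ 1 8) : ∃ u ∈ J S.XZ 1 8, ∃ t ∈ T4 S, x = u * t := by
  have h' := conj_inv_mem h
  obtain ⟨b, hb, t, ht, e⟩ := SylU.norm_U S hF hR (g := x) (fun y => ⟨h y, fun hy => by
    have := h' _ hy
    have e : x⁻¹ * (x * y * x⁻¹) * x = y := by group
    rwa [e] at this⟩)
  refine ⟨b, hb, t, T4_of_PL S ht ?_, e⟩
  have e2 : t = b⁻¹ * x := by rw [e]; group
  rw [e2]
  exact mul_mem (inv_mem (U_le_PL S hb)) hx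

theorem two_U [Finite F] [Finite X] (hF : ∃ c : Fˣ, c ≠ 1) (hR : S.R.p = 2) : IsPGroup 2 ↥(J S.XZ 1 8) := by
  obtain ⟨P, hP⟩ := SylU.exists_sylow S hF hR
  rw [← hP]; exact P.2

section map

variable {G : Type*} [Group G] [Finite G] {j : X →* G} (hj : Function.Injective j)

include hj

omit [CharP F 2] [Finite G] in
/-- the image of a Sylow subgroup -/
theorem isSyl_range (P : Sylow 2 X) : IsSyl ((P : Subgroup X).map j) j.range := by
  refine ⟨P.2.map _, ?_, ?_⟩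
  · rintro _ ⟨x, -, rfl⟩; exact ⟨x, rfl⟩
  intro V hV hUV hVP
  have h1 : IsPGroup 2 ↥(V.comap j) := hV.comap_of_injective j hj
  have h2 : (P : Subgroup X) ≤ V.comap j := fun x hx => hUV ⟨x, hx, rfl⟩
  have h3 := P.3 h1 h2
  intro v hv
  obtain ⟨x, rfl⟩ := hVP hv
  refine ⟨x, ?_, rfl⟩
  rw [← h3]; exact hv

omit [Finite G] in
/-- `U` is a Sylow subgroup of `K` -/
theorem syl_U_range [Finite F] [Finite X] (hF : ∃ c : Fˣ, c ≠ 1) (hR : S.R.p = 2) :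
    IsSyl ((J S.XZ 1 8).map j) j.range := by
  obtain ⟨P, hP⟩ := SylU.exists_sylow S hF hR
  rw [← hP]
  exact isSyl_range hj P

omit [Finite G] in
/-- `U` is a Sylow subgroup of `PL` -/
theorem syl_U [Finite F] [Finite X] (hF : ∃ c : Fˣ, c ≠ 1) (hR : S.R.p = 2) :
    IsSyl ((J S.XZ 1 8).map j) (S.PL.map j) :=
  (syl_U_range S hj hF hR).mono (map_mono (U_le_PL S)) (by rintro _ ⟨x, -, rfl⟩; exact ⟨x, rfl⟩)

/-- **normalisation of `g`** -/
theorem exists_norm [Finite F] [Finite X] (hF : ∃ c : Fˣ, c ≠ 1) (hR : S.R.p = 2) {g : G}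
    (hg : ∀ x ∈ S.PL.map j, g * x * g⁻¹ ∈ S.PL.map j) :
    ∃ y ∈ S.PL.map j, (∀ x ∈ (J S.XZ 1 8).map j, (y * g) * x * (y * g)⁻¹ ∈ (J S.XZ 1 8).map j) ∧
      ∀ x ∈ (T4 S).map j, (y * g) * x * (y * g)⁻¹ ∈ (T4 S).map j := by
  refine normalise (syl_U S hj hF hR) (map_mono (T4_le_PL S)) ?_ ?_ ?_ hg
  · rintro _ ⟨t, ht, rfl⟩ _ ⟨u, hu, rfl⟩
    refine ⟨t * u * t⁻¹, S.T_conj_J (T4_le_T S ht) hu, by simp⟩
  · rw [Subgroup.card_map_of_injective hj]
    exact odd_T4 S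
  · rintro _ ⟨x, hx, rfl⟩ h
    obtain ⟨u, hu, t, ht, e⟩ := norm_U_PL S hF hR hx (fun u hu => by
      obtain ⟨v, hv, e⟩ := h (j u) ⟨u, hu, rfl⟩
      have e2 : v = x * u * x⁻¹ := hj (by rw [e]; simp)
      rw [← e2]; exact hv)
    exact ⟨j u, ⟨u, hu, rfl⟩, j t, ⟨t, ht, rfl⟩, by rw [e, map_mul]⟩

end map

end Cfsg.Agent.OddHalf.D4.TwF.Gnorm
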