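import Cfsg.Agent.OddHalf.D4.TwF.Bone
import Cfsg.Agent.KFacts.TwF4.Perf
import Cfsg.Agent.KFacts.TwF4.CentR
import Cfsg.Agent.KFacts.TwF4.TorFix

/-!
# ODD D4, `K = ²F₄(q)`: the facts on the parabolic `PL` in the form `KH`
-/

set_option autoImplicit false
set_option linter.unusedSectionVars false

namespace Cfsg.Agent.OddHalf.D4.TwF.KSide

open Cfsg.Agent.KFacts.TwF4 Cfsg.Agent.OddHalf.D4.TwF.Field Cfsg.Agent.OddHalf.D4.TwF.End
open Cfsg.Agent.OddHalf.D4.TwF.QTwo Cfsg.Agent.OddHalf.D4.TwF.Mir Cfsg.Agent.OddHalf.D4.TwF.Norm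
open Cfsg.Agent.OddHalf.D4.TwF.MkFam Cfsg.Agent.OddHalf.D4.TwF.Bone
open Cfsg.Agent.SplitTwo Cfsg.Agent.SplitTwo.ZS Cfsg.Agent.TitsThree.RankTwoZ Cfsg.Agent.TitsThree.RankTwoRGD
open Cfsg.Agent.SplitTwo.RootSysZ
open scoped commutatorElement

universe u

/-! ### facts on `Lin` -/

section lin

variable {F : Type*} [Field F] [CharP F 2] {σ : F →+* F} {G : Type*} [Group G] {S : Sys σ G}

theorem Lin.mul {x y : G} (hx : Lin S x) (hy : Lin S y) : Lin S (x * y) := by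
  obtain ⟨a1, a2, a3, a4, ha⟩ := hx
  obtain ⟨b1, b2, b3, b4, hb⟩ := hy
  refine ⟨a1 + b1, a2 + b2, a3 + b3, a4 + b4, fun α β γ δ ε => ?_⟩
  have : (x * y)⁻¹ * q5 S α β γ δ ε * (x * y) = y⁻¹ * (x⁻¹ * q5 S α β γ δ ε * x) * y := by group
  rw [this, ha, hb]
  congr 1; ring

theorem Lin.inv {x : G} (hx : Lin S x) : Lin S x⁻¹ := by
  obtain ⟨a1, a2, a3, a4, ha⟩ := hx
  refine ⟨a1, a2, a3, a4, fun α β γ δ ε => ?_⟩
  have h1 := ha α β (γ + α * a1 + β * a2 + δ * a3 + ε * a4) δ ε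
  have e : γ + α * a1 + β * a2 + δ * a3 + ε * a4 + α * a1 + β * a2 + δ * a3 + ε * a4 =
      γ + ((α * a1 + α * a1) + (β * a2 + β * a2) + (δ * a3 + δ * a3) + (ε * a4 + ε * a4)) := by ring
  rw [e] at h1
  simp only [add_self, add_zero] at h1
  rw [← h1]; group

theorem Lin.of_comm {x : G} (hx : ∀ α β γ δ ε, Commute x (q5 S α β γ δ ε)) : Lin S x :=
  ⟨0, 0, 0, 0, fun α β γ δ ε => by rw [conj_comm (hx α β γ δ ε)]; congr 1; ring⟩

theorem Lin.one : Lin S (1 : G) := Lin.of_comm fun _ _ _ _ _ => Commute.one_left _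

theorem Lin.q5 (α β γ δ ε : F) : Lin S (QTwo.q5 S α β γ δ ε) := Lin.of_comm fun _ _ _ _ _ => q5_comm S _ _ _ _ _ _ _ _ _ _

theorem q5_e7 (α β γ δ ε p u : F) : (S.e 7 p u)⁻¹ * QTwo.q5 S α β γ δ ε * S.e 7 p u = QTwo.q5 S α β (γ + δ * p) δ ε := by
  obtain ⟨S', M⟩ := exists_mirror S
  rw [← M.e1, ← M.q5, q5_e1, M.q5]

/-- the elements acting linearly, as a subgroup -/
def LinG (S : Sys σ G) : Subgroup G where
  carrier := {x | Lin S x}
  one_mem' := Lin.one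
  mul_mem' := Lin.mul
  inv_mem' := Lin.inv

/-- `Q₂` as a subgroup -/
def InQG (S : Sys σ G) : Subgroup G where
  carrier := {x | InQ S x}
  one_mem' := InQ.one S
  mul_mem' := InQ.mul
  inv_mem' := by
    rintro x ⟨a, b, c, d, e, rfl⟩
    exact ⟨a, b, c, d, e, q5_inv S a b c d e⟩

end lin

variable {F : Type*} [Field F] [CharP F 2] {σ τ : F →+* F} {X : Type u} [Group X] (S : Full σ X)

/-- the coordinates with centre `X_4` -/
def sh : Sys σ X := mapS S.toSys (MulAut.conj (S.rot * S.rot)).toMonoidHom (MulAut.conj (S.rot * S.rot)).injective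

theorem sh_o (a b : ZMod 8) (h : a + 2 = b) (t : F) : (sh S).o a t = S.o b t := by
  have : (sh S).o a t = S.rot * S.rot * S.o a t * (S.rot * S.rot)⁻¹ := rfl
  rw [this]
  have e : S.rot * S.rot * S.o a t * (S.rot * S.rot)⁻¹ = S.rot * (S.rot * S.o a t * S.rot⁻¹) * S.rot⁻¹ := by group
  rw [e, S.rot_o, S.rot_o, ← h]
  congr 1; ring

theorem sh_e (a b : ZMod 8) (h : a + 2 = b) (p u : F) : (sh S).e a p u = S.e b p u := by
  have : (sh S).e a p u = S.rot * S.rot * S.e a p u * (S.rot * S.rot)⁻¹ := rfl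
  rw [this]
  have e : S.rot * S.rot * S.e a p u * (S.rot * S.rot)⁻¹ = S.rot * (S.rot * S.e a p u * S.rot⁻¹) * S.rot⁻¹ := by group
  rw [e, S.rot_e, S.rot_e, ← h]
  congr 1; ring

theorem so0 (t : F) : (sh S).o 0 t = S.o 2 t := sh_o S 0 2 rfl t
theorem so1 (t : F) : (sh S).o 1 t = S.o 3 t := sh_o S 1 3 rfl t
theorem so6 (t : F) : (sh S).o 6 t = S.o 0 t := sh_o S 6 0 rfl t
theorem so7 (t : F) : (sh S).o 7 t = S.o 1 t := sh_o S 7 1 rfl t
theorem se0 (p u : F) : (sh S).e 0 p u = S.e 2 p u := sh_e S 0 2 rfl p u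
theorem se1 (p u : F) : (sh S).e 1 p u = S.e 3 p u := sh_e S 1 3 rfl p u
theorem se2 (p u : F) : (sh S).e 2 p u = S.e 4 p u := sh_e S 2 4 rfl p u
theorem se6 (p u : F) : (sh S).e 6 p u = S.e 0 p u := sh_e S 6 0 rfl p u
theorem se7 (p u : F) : (sh S).e 7 p u = S.e 1 p u := sh_e S 7 1 rfl p u

theorem q5_eq (α β γ δ ε : F) : q5 (sh S) α β γ δ ε = S.e 1 0 α * S.o 1 β * S.e 2 0 γ * S.o 2 δ * S.e 3 0 ε := by
  unfold q5
  rw [se7, so7, se0, so0, se1]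

theorem mX0 (p u : F) : S.e 0 p u ∈ S.XZ 0 := (S.mem_XZ_even 0 _).2 ⟨p, u, rfl⟩

/-! ### uniqueness -/

theorem q5_one {α β γ δ ε : F} (h : q5 (sh S) α β γ δ ε = 1) : α = 0 ∧ β = 0 ∧ γ = 0 ∧ δ = 0 ∧ ε = 0 := by
  have Z8 := S.zsys8
  rw [q5_eq] at h
  have m3 : ∀ {k : ℤ} {x : X}, x ∈ S.XZ k → ∀ {a b : ℤ}, a ≤ k → k ≤ b → x ∈ J S.XZ a b := fun hx _ _ h1 h2 => mem_J hx h1 h2
  have h1 : S.e 1 0 α = 1 := by
    apply Z8.inter 2 _ (S.mX2 0 α)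
    have e : S.e 1 0 α = (S.o 1 β * S.e 2 0 γ * S.o 2 δ * S.e 3 0 ε)⁻¹ := by
      rw [eq_inv_iff_mul_eq_one, ← h]; group
    rw [e]
    exact inv_mem (mul_mem (mul_mem (mul_mem (m3 (S.mX3 β) (by norm_num) (by norm_num))
      (m3 (S.mX4 0 γ) (by norm_num) (by norm_num))) (m3 (S.mX5 δ) (by norm_num) (by norm_num)))
      (m3 (S.mX6 0 ε) (by norm_num) (by norm_num)))
  rw [h1, one_mul] at h
  have h2 : S.o 1 β = 1 := by
    apply Z8.inter 3 _ (S.mX3 β)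
    have e : S.o 1 β = (S.e 2 0 γ * S.o 2 δ * S.e 3 0 ε)⁻¹ := by
      rw [eq_inv_iff_mul_eq_one, ← h]; group
    rw [e]
    exact inv_mem (mul_mem (mul_mem (m3 (S.mX4 0 γ) (by norm_num) (by norm_num))
      (m3 (S.mX5 δ) (by norm_num) (by norm_num))) (m3 (S.mX6 0 ε) (by norm_num) (by norm_num)))
  rw [h2, one_mul] at h
  have h3 : S.e 2 0 γ = 1 := by
    apply Z8.inter 4 _ (S.mX4 0 γ)
    have e : S.e 2 0 γ = (S.o 2 δ * S.e 3 0 ε)⁻¹ := by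
      rw [eq_inv_iff_mul_eq_one, ← h]; group
    rw [e]
    exact inv_mem (mul_mem (m3 (S.mX5 δ) (by norm_num) (by norm_num)) (m3 (S.mX6 0 ε) (by norm_num) (by norm_num)))
  rw [h3, one_mul] at h
  have h4 : S.o 2 δ = 1 := by
    apply Z8.inter 5 _ (S.mX5 δ)
    have e : S.o 2 δ = (S.e 3 0 ε)⁻¹ := by
      rw [eq_inv_iff_mul_eq_one, ← h]
    rw [e]
    exact inv_mem (m3 (S.mX6 0 ε) (by norm_num) (by norm_num))
  rw [h4, one_mul] at h
  exact ⟨(S.e_eq_one h1).2, S.o_eq_one h2, (S.e_eq_one h3).2, S.o_eq_one h4, (S.e_eq_one h).2⟩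

theorem uniq : Uniq (sh S) := by
  intro α β γ δ ε α' β' γ' δ' ε' h
  have h1 : q5 (sh S) (α + α') (β + β') (γ + γ') (δ + δ') (ε + ε') = 1 := by
    rw [← q5_mul, h, q5_sq]
  obtain ⟨h1, h2, h3, h4, h5⟩ := q5_one S h1
  exact ⟨eq_of_add h1, eq_of_add h2, eq_of_add h3, eq_of_add h4, eq_of_add h5⟩

theorem e0n (p u : F) (h : InQ (sh S) ((sh S).e 0 p u)) : p = 0 := by
  obtain ⟨α, β, γ, δ, ε, h⟩ := h
  have Z8 := S.zsys8
  rw [q5_eq, se0] at h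
  have m3 : ∀ {k : ℤ} {x : X}, x ∈ S.XZ k → ∀ {a b : ℤ}, a ≤ k → k ≤ b → x ∈ J S.XZ a b := fun hx _ _ h1 h2 => mem_J hx h1 h2
  have h1 : S.e 1 0 α = 1 := by
    apply Z8.inter 2 _ (S.mX2 0 α)
    have e : S.e 1 0 α = S.e 2 p u * (S.o 1 β * S.e 2 0 γ * S.o 2 δ * S.e 3 0 ε)⁻¹ := by
      rw [eq_mul_inv_iff_mul_eq, h]; group
    rw [e]
    exact mul_mem (m3 (S.mX4 p u) (by norm_num) (by norm_num)) (inv_mem (mul_mem (mul_mem (mul_mem
      (m3 (S.mX3 β) (by norm_num) (by norm_num))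
      (m3 (S.mX4 0 γ) (by norm_num) (by norm_num))) (m3 (S.mX5 δ) (by norm_num) (by norm_num)))
      (m3 (S.mX6 0 ε) (by norm_num) (by norm_num))))
  rw [h1, one_mul] at h
  have h2 : S.o 1 β = 1 := by
    apply Z8.inter 3 _ (S.mX3 β)
    have e : S.o 1 β = S.e 2 p u * (S.e 2 0 γ * S.o 2 δ * S.e 3 0 ε)⁻¹ := by
      rw [eq_mul_inv_iff_mul_eq, h]; group
    rw [e]
    exact mul_mem (m3 (S.mX4 p u) (by norm_num) (by norm_num)) (inv_mem (mul_mem (mul_mem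
      (m3 (S.mX4 0 γ) (by norm_num) (by norm_num)) (m3 (S.mX5 δ) (by norm_num) (by norm_num)))
      (m3 (S.mX6 0 ε) (by norm_num) (by norm_num))))
  rw [h2, one_mul] at h
  have h3 : (S.e 2 0 γ)⁻¹ * S.e 2 p u = 1 := by
    apply Z8.inter 4 _ (mul_mem (inv_mem (S.mX4 0 γ)) (S.mX4 p u))
    have e : (S.e 2 0 γ)⁻¹ * S.e 2 p u = S.o 2 δ * S.e 3 0 ε := by rw [h]; group
    rw [e]
    exact mul_mem (m3 (S.mX5 δ) (by norm_num) (by norm_num)) (m3 (S.mX6 0 ε) (by norm_num) (by norm_num))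
  rw [inv_mul_eq_one] at h3
  exact (S.injE 2 _ _ _ _ h3).1.symm

/-! ### `Q₂` -/

theorem inQ_iff {x : X} : InQ (sh S) x ↔ x ∈ S.Q2 := by
  constructor
  · rintro ⟨α, β, γ, δ, ε, rfl⟩
    rw [q5_eq]
    exact mul_mem (mul_mem (mul_mem (mul_mem (S.q2_1 α) (S.q2_2 β)) (S.q2_3 γ)) (S.q2_4 δ)) (S.q2_5 ε)
  · intro hx
    have : S.Q2 ≤ InQG (sh S) := by
      apply S.Q2_le
      · intro u
        refine ⟨u, 0, 0, 0, 0, ?_⟩
        rw [← se7, z7_eq]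
      · intro t
        refine ⟨0, t, 0, 0, 0, ?_⟩
        rw [← so7, o7_eq]
      · intro u
        refine ⟨0, 0, u, 0, 0, ?_⟩
        rw [← se0, z0_eq]
      · intro t
        refine ⟨0, 0, 0, t, 0, ?_⟩
        rw [← so0, o0_eq]
      · intro u
        refine ⟨0, 0, 0, 0, u, ?_⟩
        rw [← se1, z1_eq]
    exact this hx

theorem lin_Q {y : X} (hy : y ∈ S.Q) : Lin (sh S) y := by
  have : S.Q ≤ LinG (sh S) := by
    refine J_le fun k h1 h2 x hx => ?_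
    show Lin (sh S) x
    interval_cases k
    · obtain ⟨t, rfl⟩ := S.X1 hx
      rw [← so6]
      refine ⟨0, 0, 0, t, fun α β γ δ ε => ?_⟩
      rw [Nn.q5_o6]; congr 1; ring
    · obtain ⟨p, u, rfl⟩ := S.X2 hx
      rw [← se7]
      refine ⟨0, 0, p, 0, fun α β γ δ ε => ?_⟩
      rw [q5_e7]; congr 1; ring
    · obtain ⟨t, rfl⟩ := S.X3 hx
      rw [← so7, o7_eq]; exact Lin.q5 _ _ _ _ _
    · obtain ⟨p, u, rfl⟩ := S.X4 hx
      rw [← se0]
      exact Lin.of_comm fun _ _ _ _ _ => q5_e0 _ _ _ _ _ _ _ _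
    · obtain ⟨t, rfl⟩ := S.X5 hx
      rw [← so0, o0_eq]; exact Lin.q5 _ _ _ _ _
    · obtain ⟨p, u, rfl⟩ := S.X6 hx
      rw [← se1]
      refine ⟨0, p, 0, 0, fun α β γ δ ε => ?_⟩
      rw [q5_e1]; congr 1; ring
    · obtain ⟨t, rfl⟩ := S.X7 hx
      rw [← so1]
      refine ⟨t, 0, 0, 0, fun α β γ δ ε => ?_⟩
      rw [q5_o1]; congr 1; ring
  exact this hy

/-- the elements with `[E₀, y] ≤ Q₂` -/
def EcG : Subgroup X where
  carrier := {y | y ∈ S.PL ∧ ∀ p u, InQ (sh S) ((S.e 2 p u)⁻¹ * (y⁻¹ * S.e 2 p u * y))}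
  one_mem' := ⟨one_mem _, fun p u => by
    have : (S.e 2 p u)⁻¹ * (1⁻¹ * S.e 2 p u * 1) = 1 := by group
    rw [this]; exact InQ.one _⟩
  mul_mem' := by
    rintro y z ⟨hy, hy'⟩ ⟨hz, hz'⟩
    refine ⟨mul_mem hy hz, fun p u => ?_⟩
    have e : (S.e 2 p u)⁻¹ * ((y * z)⁻¹ * S.e 2 p u * (y * z)) = ((S.e 2 p u)⁻¹ * (z⁻¹ * S.e 2 p u * z)) *
        (z⁻¹ * ((S.e 2 p u)⁻¹ * (y⁻¹ * S.e 2 p u * y)) * z) := by group
    rw [e]
    refine (hz' p u).mul ((inQ_iff S).2 ?_)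
    have := (Subgroup.mem_normalizer_iff''.1 (S.Q2_norm hz) _).1 ((inQ_iff S).1 (hy' p u))
    exact this
  inv_mem' := by
    rintro y ⟨hy, hy'⟩
    refine ⟨inv_mem hy, fun p u => ?_⟩
    have e2 : (S.e 2 p u)⁻¹ * (y⁻¹⁻¹ * S.e 2 p u * y⁻¹) =
        y * (y⁻¹ * (S.e 2 p u)⁻¹ * y * S.e 2 p u) * y⁻¹ := by group
    have e3 : y⁻¹ * (S.e 2 p u)⁻¹ * y * S.e 2 p u = ((S.e 2 p u)⁻¹ * (y⁻¹ * S.e 2 p u * y))⁻¹ := by group
    rw [e2, e3]
    refine (inQ_iff S).2 ((Subgroup.mem_normalizer_iff.1 (S.Q2_norm hy) _).1 (inv_mem ((inQ_iff S).1 (hy' p u))))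

theorem e0c_PL {y : X} (hy : y ∈ S.PL) (p u : F) : InQ (sh S) ((S.e 2 p u)⁻¹ * (y⁻¹ * S.e 2 p u * y)) := by
  have : S.PL ≤ EcG S := by
    refine J_le fun k h1 h2 x hx => ⟨mem_J hx h1 h2, fun p u => ?_⟩
    have hz : ∀ {x : X}, Commute x (S.e 2 p u) → InQ (sh S) ((S.e 2 p u)⁻¹ * (x⁻¹ * S.e 2 p u * x)) := by
      intro x hx
      rw [conj_comm hx, inv_mul_cancel]; exact InQ.one _
    interval_cases k
    · obtain ⟨q, v, rfl⟩ := (S.mem_XZ_even 0 x).1 hx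
      exact hz (e_e2' S.toSys 0 q v p u)
    · obtain ⟨t, rfl⟩ := S.X1 hx
      have h := Hp.o6_e0 (S := sh S) t p u
      rw [so6, se0, se7] at h
      rw [h, inv_mul_cancel_left, ← se7, z7_eq]
      exact InQ.q5 _ _ _ _ _ _
    · obtain ⟨q, v, rfl⟩ := S.X2 hx
      have h : S.e 1 q v * S.e 2 p u = S.e 2 p u * S.e 1 q v * S.o 1 (q * p) := S.e_e1 1 q v p u
      have h' : (S.e 1 q v)⁻¹ * S.e 2 p u * S.e 1 q v = S.e 2 p u * S.o 1 (q * p) := by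
        have c1 := e_o0' S.toSys 1 q v (q * p)
        have h3 : S.e 2 p u * S.e 1 q v = S.e 1 q v * S.e 2 p u * S.o 1 (q * p) := by
          rw [h]
          have : S.o 1 (q * p) * S.o 1 (q * p) = 1 := End.o_sq S.toSys 1 _
          rw [mul_assoc, this, mul_one]
        calc (S.e 1 q v)⁻¹ * S.e 2 p u * S.e 1 q v = (S.e 1 q v)⁻¹ * (S.e 2 p u * S.e 1 q v) := by group
          _ = _ := by rw [h3]; group
      rw [h', inv_mul_cancel_left, ← so7, o7_eq]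
      exact InQ.q5 _ _ _ _ _ _
    · obtain ⟨t, rfl⟩ := S.X3 hx
      exact hz (o_e1' S.toSys 1 t p u)
    · obtain ⟨q, v, rfl⟩ := S.X4 hx
      have h : S.e 2 p u * S.e 2 q v = S.e 2 q v * S.e 2 p u * S.e 2 0 (p * σ q + q * σ p) := by
        rw [S.e_mul, S.e_mul, S.e_mul, map_zero, mul_zero, add_zero, add_zero, add_comm q p]
        congr 1
        have : v + u + q * σ p + (p * σ q + q * σ p) = u + v + p * σ q + (q * σ p + q * σ p) := by ring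
        rw [this, Field.add_self, add_zero]
      have h' : (S.e 2 q v)⁻¹ * S.e 2 p u * S.e 2 q v = S.e 2 p u * S.e 2 0 (p * σ q + q * σ p) := by
        calc (S.e 2 q v)⁻¹ * S.e 2 p u * S.e 2 q v = (S.e 2 q v)⁻¹ * (S.e 2 p u * S.e 2 q v) := by group
          _ = _ := by rw [h]; group
      rw [h', inv_mul_cancel_left, ← se0, z0_eq]
      exact InQ.q5 _ _ _ _ _ _
    · obtain ⟨t, rfl⟩ := S.X5 hx
      exact hz (e_o0' S.toSys 2 p u t).symm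
    · obtain ⟨q, v, rfl⟩ := S.X6 hx
      have h : S.e 2 p u * S.e 3 q v = S.e 3 q v * S.e 2 p u * S.o 2 (p * q) := S.e_e1 2 p u q v
      have h' : (S.e 3 q v)⁻¹ * S.e 2 p u * S.e 3 q v = S.e 2 p u * S.o 2 (p * q) := by
        calc (S.e 3 q v)⁻¹ * S.e 2 p u * S.e 3 q v = (S.e 3 q v)⁻¹ * (S.e 2 p u * S.e 3 q v) := by group
          _ = _ := by rw [h]; group
      rw [h', inv_mul_cancel_left, ← so0, o0_eq]
      exact InQ.q5 _ _ _ _ _ _
    · obtain ⟨t, rfl⟩ := S.X7 hx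
      have h := Hp.o1_e0 (S := sh S) t p u
      rw [so1, se0, se1] at h
      rw [h, inv_mul_cancel_left, ← se1, z1_eq]
      exact InQ.q5 _ _ _ _ _ _
    · obtain ⟨q, v, rfl⟩ := S.X8 hx
      exact hz (e_e2' S.toSys 2 p u q v).symm
  exact (this hy).2 p u

/-- **the facts `KH`** -/
theorem kh [Finite F] [Finite X] (hF : ∃ c : Fˣ, c ≠ 1) : KH (sh S) S.PL S.Q where
  uniq := uniq S
  le := J_mono (by norm_num) (by norm_num)
  o1 t := by rw [so1]; exact mem_J (S.mX7 t) (by norm_num) (by norm_num)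
  o6 t := by rw [so6]; exact mem_J (S.mX1 t) (by norm_num) (by norm_num)
  o0 t := by rw [so0]; exact mem_J (S.mX5 t) (by norm_num) (by norm_num)
  o7 t := by rw [so7]; exact mem_J (S.mX3 t) (by norm_num) (by norm_num)
  e0 p u := by rw [se0]; exact mem_J (S.mX4 p u) (by norm_num) (by norm_num)
  e1 p u := by rw [se1]; exact mem_J (S.mX6 p u) (by norm_num) (by norm_num)
  e7 p u := by rw [se7]; exact mem_J (S.mX2 p u) (by norm_num) (by norm_num)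
  e2 p u := by rw [se2]; exact mem_J (S.mX8 p u) (by norm_num) (by norm_num)
  e6 p u := by rw [se6]; exact mem_J (mX0 S p u) (by norm_num) (by norm_num)
  cen y _ h := by
    have h1 : y ∈ S.Q1 := by
      rw [← S.centralizer_Q2, Subgroup.mem_centralizer_iff]
      intro x hx
      obtain ⟨α, β, γ, δ, ε, rfl⟩ := (inQ_iff S).2 hx
      exact (h α β γ δ ε).eq.symm
    have h2 : y ∈ S.XZ 4 ⊔ S.Q2 := h1
    obtain ⟨a, ha, b, hb, rfl⟩ := mem_sup_of_norm (A := S.XZ 4) (B := S.Q2) (fun a ha b hb => by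
      have := S.Q1_comm (Subgroup.mem_sup_left ha) hb
      have e : a * b * a⁻¹ = b := by rw [this]; group
      rw [e]; exact hb) h2
    obtain ⟨p, u, rfl⟩ := S.X4 ha
    refine ⟨p, u, ?_⟩
    rw [se0, inv_mul_cancel_left]
    exact (inQ_iff S).2 hb
  nor y hy x hx := (inQ_iff S).2 ((Subgroup.mem_normalizer_iff.1 (S.Q2_norm hy) _).1 ((inQ_iff S).1 hx))
  lin y hy := lin_Q S hy
  e0c y hy p u := by
    rw [se0, commutatorElement_def]
    have e : (S.e 2 p u)⁻¹ * y⁻¹ * (S.e 2 p u)⁻¹⁻¹ * y⁻¹⁻¹ = (S.e 2 p u)⁻¹ * (y⁻¹ * S.e 2 p u * y) := by group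
    rw [e]; exact e0c_PL S hy p u
  e0n := e0n S
  perf := Perf.PL_perfect S hF

/-! ### the torus -/

/-- the torus of the Levi factor -/
def tdl (d : Fˣ) : X := S.h (Units.map (σ : F →* F) d⁻¹) d⁻¹

/-- the torus centralising the Levi factor -/
def thx (x : Fˣ) : X := S.h 1 x

theorem dl_aux (d : Fˣ) : (∀ t, tdl S d * S.o 2 t * (tdl S d)⁻¹ = S.o 2 (d * t)) ∧
    (∀ t, tdl S d * S.o 1 t * (tdl S d)⁻¹ = S.o 1 ((d⁻¹ : Fˣ) * t)) ∧
    (∀ t, tdl S d * S.o 3 t * (tdl S d)⁻¹ = S.o 3 (d * σ d * t)) ∧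
    (∀ t, tdl S d * S.o 0 t * (tdl S d)⁻¹ = S.o 0 ((d⁻¹ : Fˣ) * σ (d⁻¹ : Fˣ) * t)) := by
  have c1 : chE σ 1 (Units.map (σ : F →* F) d⁻¹) d⁻¹ = d⁻¹ := chE_one _ _ _
  have c0 : chE σ 0 (Units.map (σ : F →* F) d⁻¹) d⁻¹ = Units.map (σ : F →* F) d⁻¹ := chE_zero _ _ _
  have c2 : chE σ 2 (Units.map (σ : F →* F) d⁻¹) d⁻¹ = 1 := by rw [chE_two, div_self']
  have c3 : chE σ 3 (Units.map (σ : F →* F) d⁻¹) d⁻¹ = d := by
    rw [chE_three, map_map σ S.sq]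
    rw [pow_two, div_eq_mul_inv, mul_inv_rev, inv_inv]; group
  have c4 : chE σ 4 (Units.map (σ : F →* F) d⁻¹) d⁻¹ = Units.map (σ : F →* F) d := by
    rw [chE_four, map_inv, inv_inv]
  refine ⟨fun t => ?_, fun t => ?_, fun t => ?_, fun t => ?_⟩
  · unfold tdl
    rw [S.h_o]
    have : chO σ 2 (Units.map (σ : F →* F) d⁻¹) d⁻¹ = d := by
      show chE σ 2 _ _ * chE σ 3 _ _ = d
      rw [c2, c3, one_mul]
    rw [this]
  · unfold tdl
    rw [S.h_o]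
    have : chO σ 1 (Units.map (σ : F →* F) d⁻¹) d⁻¹ = d⁻¹ := by
      show chE σ 1 _ _ * chE σ 2 _ _ = d⁻¹
      rw [c2, c1, mul_one]
    rw [this]
  · unfold tdl
    rw [S.h_o]
    have : chO σ 3 (Units.map (σ : F →* F) d⁻¹) d⁻¹ = d * Units.map (σ : F →* F) d := by
      show chE σ 3 _ _ * chE σ 4 _ _ = _
      rw [c3, c4]
    rw [this]; rfl
  · unfold tdl
    rw [S.h_o]
    have : chO σ 0 (Units.map (σ : F →* F) d⁻¹) d⁻¹ = d⁻¹ * Units.map (σ : F →* F) d⁻¹ := by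
      show chE σ 0 _ _ * chE σ 1 _ _ = _
      rw [c0, c1, mul_comm]
    rw [this]; rfl

theorem dl_aux' (d : Fˣ) : (∀ p u, tdl S d * S.e 2 p u * (tdl S d)⁻¹ = S.e 2 p u) ∧
    (∀ p u, tdl S d * S.e 1 p u * (tdl S d)⁻¹ = S.e 1 ((d⁻¹ : Fˣ) * p) ((d⁻¹ : Fˣ) * σ (d⁻¹ : Fˣ) * u)) ∧
    (∀ p u, tdl S d * S.e 3 p u * (tdl S d)⁻¹ = S.e 3 (d * p) (d * σ d * u)) ∧
    (∀ v, tdl S d * S.e 4 0 v * (tdl S d)⁻¹ = S.e 4 0 (σ d * (d * d) * v)) ∧
    (∀ v, tdl S d * S.e 0 0 v * (tdl S d)⁻¹ = S.e 0 0 (σ (d⁻¹ : Fˣ) * ((d⁻¹ : Fˣ) * (d⁻¹ : Fˣ)) * v)) := by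
  have c1 : chE σ 1 (Units.map (σ : F →* F) d⁻¹) d⁻¹ = d⁻¹ := chE_one _ _ _
  have c0 : chE σ 0 (Units.map (σ : F →* F) d⁻¹) d⁻¹ = Units.map (σ : F →* F) d⁻¹ := chE_zero _ _ _
  have c2 : chE σ 2 (Units.map (σ : F →* F) d⁻¹) d⁻¹ = 1 := by rw [chE_two, div_self']
  have c3 : chE σ 3 (Units.map (σ : F →* F) d⁻¹) d⁻¹ = d := by
    rw [chE_three, map_map σ S.sq]
    rw [pow_two, div_eq_mul_inv, mul_inv_rev, inv_inv]; group
  have c4 : chE σ 4 (Units.map (σ : F →* F) d⁻¹) d⁻¹ = Units.map (σ : F →* F) d := by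
    rw [chE_four, map_inv, inv_inv]
  unfold tdl
  refine ⟨fun p u => ?_, fun p u => ?_, fun p u => ?_, fun v => ?_, fun v => ?_⟩
  · rw [S.h_e, c2, Units.val_one, map_one, one_mul, one_mul, one_mul]
  · rw [S.h_e, c1]
  · rw [S.h_e, c3]
  · rw [S.h_e, c4, mul_zero]
    show S.e 4 0 (σ (d : F) * σ (σ (d : F)) * v) = _
    rw [S.sq, pow_two]
  · rw [S.h_e, c0, mul_zero]
    show S.e 0 0 (σ ((d⁻¹ : Fˣ) : F) * σ (σ ((d⁻¹ : Fˣ) : F)) * v) = _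
    rw [S.sq, pow_two]

theorem dlF : Dl (sh S) (tdl S) where
  e0 d p u := by rw [se0]; exact (dl_aux' S d).1 p u
  o0 d t := by rw [so0, so0]; exact (dl_aux S d).1 t
  o7 d t := by rw [so7, so7]; exact (dl_aux S d).2.1 t
  e1 d p u := by rw [se1, se1]; exact (dl_aux' S d).2.2.1 p u
  e7 d p u := by rw [se7, se7]; exact (dl_aux' S d).2.1 p u
  o1 d t := by rw [so1, so1]; exact (dl_aux S d).2.2.1 t
  o6 d t := by rw [so6, so6]; exact (dl_aux S d).2.2.2 t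
  z2 d v := by rw [se2, se2]; exact (dl_aux' S d).2.2.2.1 v
  z6 d v := by rw [se6, se6]; exact (dl_aux' S d).2.2.2.2 v

theorem hxF : Hx (sh S) (thx S) := by
  have c0 : ∀ x : Fˣ, chE σ 0 1 x = 1 := fun x => chE_zero _ _ _
  have c1 : ∀ x : Fˣ, chE σ 1 1 x = x := fun x => chE_one _ _ _
  have c2 : ∀ x : Fˣ, chE σ 2 1 x = Units.map (σ : F →* F) x := fun x => by rw [chE_two, div_one]
  have c3 : ∀ x : Fˣ, chE σ 3 1 x = x := fun x => by rw [chE_three, map_one, div_one]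
  have c4 : ∀ x : Fˣ, chE σ 4 1 x = 1 := fun x => by rw [chE_four, inv_one]
  have o0 : ∀ x : Fˣ, chO σ 0 1 x = x := fun x => by
    show chE σ 0 _ _ * chE σ 1 _ _ = _
    rw [c0, c1, one_mul]
  have o1 : ∀ x : Fˣ, chO σ 1 1 x = x * Units.map (σ : F →* F) x := fun x => by
    show chE σ 1 _ _ * chE σ 2 _ _ = _
    rw [c1, c2]
  have o2 : ∀ x : Fˣ, chO σ 2 1 x = x * Units.map (σ : F →* F) x := fun x => by
    show chE σ 2 _ _ * chE σ 3 _ _ = _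
    rw [c2, c3, mul_comm]
  have o3 : ∀ x : Fˣ, chO σ 3 1 x = x := fun x => by
    show chE σ 3 _ _ * chE σ 4 _ _ = _
    rw [c3, c4, mul_one]
  unfold thx
  refine ⟨fun x p u => ?_, fun x t => ?_, fun x t => ?_, fun x t => ?_, fun x t => ?_, fun x p u => ?_, fun x p u => ?_,
    fun x p u => ?_, fun x p u => ?_⟩
  · rw [se0, se0, S.h_e, c2]
    show S.e 2 (σ (x : F) * p) (σ (x : F) * σ (σ (x : F)) * u) = _
    rw [S.sq, pow_two]
  · rw [so0, so0, S.h_o, o2]; rfl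
  · rw [so7, so7, S.h_o, o1]; rfl
  · rw [so1, so1, S.h_o, o3]
  · rw [so6, so6, S.h_o, o0]
  · rw [se1, se1, S.h_e, c3]
  · rw [se7, se7, S.h_e, c1]
  · rw [se2, S.h_e, c4, Units.val_one, map_one, one_mul, one_mul, one_mul]
  · rw [se6, S.h_e, c0, Units.val_one, map_one, one_mul, one_mul, one_mul]

theorem comm_hx_dl (x d : Fˣ) : Commute (thx S x) (tdl S d) := by
  unfold thx tdl
  show _ * _ = _ * _
  rw [S.h_mul, S.h_mul, mul_comm (1 : Fˣ), mul_comm x]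

theorem thx_mem (x : Fˣ) : thx S x ∈ S.T := S.mem_T.2 ⟨1, x, rfl⟩

/-- `hx` acts trivially on `PL / Q` -/
theorem mod_Q (x : Fˣ) {y : X} (hy : y ∈ S.PL) : dlt (thx S x) y ∈ S.Q := by
  let D : Subgroup X :=
    { carrier := {y | y ∈ S.PL ∧ dlt (thx S x) y ∈ S.Q}
      one_mem' := ⟨one_mem _, by
        have : dlt (thx S x) 1 = 1 := by unfold dlt; group
        rw [this]; exact one_mem _⟩
      mul_mem' := by
        rintro y z ⟨hy, hy'⟩ ⟨hz, hz'⟩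
        refine ⟨mul_mem hy hz, ?_⟩
        rw [dlt_mul]
        have := Perf.Q_norm S (inv_mem hz) hy'
        rw [inv_inv] at this
        exact mul_mem this hz'
      inv_mem' := by
        rintro y ⟨hy, hy'⟩
        refine ⟨inv_mem hy, ?_⟩
        have e : dlt (thx S x) y⁻¹ = y * (dlt (thx S x) y)⁻¹ * y⁻¹ := by unfold dlt; group
        rw [e]
        exact Perf.Q_norm S hy (inv_mem hy') }
  have : S.PL ≤ D := by
    refine J_le fun k h1 h2 y hy => ⟨mem_J hy h1 h2, ?_⟩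
    rcases eq_or_lt_of_le h1 with h3 | h3
    · subst h3
      obtain ⟨p, u, rfl⟩ := (S.mem_XZ_even 0 y).1 hy
      have : dlt (thx S x) (S.e 0 p u) = 1 := by
        unfold dlt
        have := (hxF S).e6 x p u
        rw [se6] at this
        rw [this, inv_mul_cancel]
      have e : S.e (((0 : ℤ) : ZMod 8)) p u = S.e 0 p u := by norm_num
      rw [e, this]; exact one_mem _
    · rcases eq_or_lt_of_le h2 with h4 | h4
      · subst h4
        obtain ⟨p, u, rfl⟩ := S.X8 hy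
        have : dlt (thx S x) (S.e 4 p u) = 1 := by
          unfold dlt
          have := (hxF S).e2 x p u
          rw [se2] at this
          rw [this, inv_mul_cancel]
        rw [this]; exact one_mem _
      · have h5 := S.T_conj (thx_mem S x) k hy
        exact mul_mem (inv_mem (mem_J hy (by omega) (by omega))) (mem_J h5 (by omega) (by omega))
  exact (this hy).2

/-- an element of the torus moving `Z_4` -/
theorem hx_move (hF : ∃ c : Fˣ, c ≠ 1) : ∃ x : Fˣ, ∃ u : F, thx S x * S.e 2 0 u * (thx S x)⁻¹ ≠ S.e 2 0 u := by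
  obtain ⟨x, hx⟩ := hF
  refine ⟨x, 1, fun h => ?_⟩
  have h1 := (hxF S).e0 x 0 1
  rw [se0, se0, mul_zero, mul_one] at h1
  rw [h1] at h
  have h2 := (S.injE 2 _ _ _ _ h).2
  -- `σ x * x² = 1`
  have h3 : Units.map (σ : F →* F) x * (x * x) = 1 := Units.ext h2
  apply hx
  have h4 : x * (x * Units.map (σ : F →* F) x) = 1 := by
    rw [← h3]
    rw [← mul_assoc, mul_comm]
  exact S.unit_eq_one' h4

end Cfsg.Agent.OddHalf.D4.TwF.KSide
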