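import Cfsg.Agent.OddHalf.D4.TwF.Gnorm
import Cfsg.Agent.KFacts.TwF4.Layers

/-!
# ODD D4, `K = ²F₄(q)`: an element `g` normalising `PL`, with `gAg⁻¹ ≤ A Z_4`, gives `|A| ≤ 2`
-/

set_option autoImplicit false
set_option linter.unusedSectionVars false

namespace Cfsg.Agent.OddHalf.D4.TwF.Kill

open Subgroup Cfsg.Agent.KFacts.TwF4 Cfsg.Agent.OddHalf.D4.TwF.Field Cfsg.Agent.OddHalf.D4.TwF.End
open Cfsg.Agent.OddHalf.D4.TwF.QTwo Cfsg.Agent.OddHalf.D4.TwF.Mir Cfsg.Agent.OddHalf.D4.TwF.Norm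
open Cfsg.Agent.OddHalf.D4.TwF.MkFam Cfsg.Agent.OddHalf.D4.TwF.Bone Cfsg.Agent.OddHalf.D4.TwF.KSide
open Cfsg.Agent.OddHalf.D4.TwF.Gnorm Cfsg.Agent.OddHalf.D4.Basic
open Cfsg.Agent.SplitTwo Cfsg.Agent.SplitTwo.ZS Cfsg.Agent.TitsThree.RankTwoZ Cfsg.Agent.TitsThree.RankTwoRGD
open Cfsg.Agent.SplitTwo.RootSysZ
open Cfsg.Agent.OddHalf.D4.CommConj (cj mem_cj cj_mul card_cj mem_cj_mul)
open scoped commutatorElement

universe u

/-! ### transport by an injective homomorphism -/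

section map

variable {F : Type*} [Field F] [CharP F 2] {σ τ : F →+* F} {X G : Type*} [Group X] [Group G]
variable {S : Sys σ X} {j : X →* G} (hj : Function.Injective j)

theorem q5_map (α β γ δ ε : F) : q5 (mapS S j hj) α β γ δ ε = j (q5 S α β γ δ ε) := by
  unfold q5
  simp only [mapS_e, mapS_o, map_mul]

theorem inQ_map {x : X} : InQ (mapS S j hj) (j x) ↔ InQ S x := by
  constructor
  · rintro ⟨a, b, c, d, e, h⟩
    rw [q5_map] at h
    exact ⟨a, b, c, d, e, hj h⟩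
  · rintro ⟨a, b, c, d, e, rfl⟩
    exact ⟨a, b, c, d, e, (q5_map hj a b c d e).symm⟩

theorem exists_of_inQ {y : G} (h : InQ (mapS S j hj) y) : ∃ x, InQ S x ∧ y = j x := by
  obtain ⟨a, b, c, d, e, rfl⟩ := h
  exact ⟨_, ⟨a, b, c, d, e, rfl⟩, q5_map hj a b c d e⟩

theorem kh_map {H Q : Subgroup X} (k : KH S H Q) : KH (mapS S j hj) (H.map j) (Q.map j) where
  uniq := by
    intro α β γ δ ε α' β' γ' δ' ε' h
    rw [q5_map, q5_map] at h
    exact k.uniq _ _ _ _ _ _ _ _ _ _ (hj h)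
  le := map_mono k.le
  o1 t := ⟨_, k.o1 t, rfl⟩
  o6 t := ⟨_, k.o6 t, rfl⟩
  o0 t := ⟨_, k.o0 t, rfl⟩
  o7 t := ⟨_, k.o7 t, rfl⟩
  e0 p u := ⟨_, k.e0 p u, rfl⟩
  e1 p u := ⟨_, k.e1 p u, rfl⟩
  e7 p u := ⟨_, k.e7 p u, rfl⟩
  e2 p u := ⟨_, k.e2 p u, rfl⟩
  e6 p u := ⟨_, k.e6 p u, rfl⟩
  cen := by
    rintro _ ⟨y, hy, rfl⟩ h
    obtain ⟨p, u, h1⟩ := k.cen y hy (fun α β γ δ ε => by
      have := h α β γ δ ε
      rw [q5_map] at this
      show y * _ = _ * y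
      apply hj
      rw [map_mul, map_mul]; exact this.eq)
    refine ⟨p, u, ?_⟩
    rw [mapS_e, ← map_inv, ← map_mul]
    exact (inQ_map hj).2 h1
  nor := by
    rintro _ ⟨y, hy, rfl⟩ x hx
    obtain ⟨x, hx', rfl⟩ := exists_of_inQ hj hx
    have := (inQ_map hj).2 (k.nor y hy x hx')
    rwa [map_mul, map_mul, map_inv] at this
  lin := by
    rintro _ ⟨y, hy, rfl⟩
    obtain ⟨l1, l2, l3, l4, h⟩ := k.lin y hy
    refine ⟨l1, l2, l3, l4, fun α β γ δ ε => ?_⟩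
    rw [q5_map, q5_map, ← h, map_mul, map_mul, map_inv]
  e0c := by
    rintro _ ⟨y, hy, rfl⟩ p u
    have := (inQ_map hj).2 (k.e0c y hy p u)
    rw [commutatorElement_def] at this ⊢
    simpa only [map_mul, map_inv, mapS_e] using this
  e0n p u h := k.e0n p u ((inQ_map hj).1 h)
  perf := by rw [← map_commutator, k.perf]

theorem dl_map {dl : Fˣ → X} (D : Dl S dl) : Dl (mapS S j hj) (fun d => j (dl d)) where
  e0 d p u := by simp only [mapS_e, ← map_mul, ← map_inv, D.e0]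
  o0 d t := by simp only [mapS_o, ← map_mul, ← map_inv, D.o0]
  o7 d t := by simp only [mapS_o, ← map_mul, ← map_inv, D.o7]
  e1 d p u := by simp only [mapS_e, ← map_mul, ← map_inv, D.e1]
  e7 d p u := by simp only [mapS_e, ← map_mul, ← map_inv, D.e7]
  o1 d t := by simp only [mapS_o, ← map_mul, ← map_inv, D.o1]
  o6 d t := by simp only [mapS_o, ← map_mul, ← map_inv, D.o6]
  z2 d v := by simp only [mapS_e, ← map_mul, ← map_inv, D.z2]
  z6 d v := by simp only [mapS_e, ← map_mul, ← map_inv, D.z6]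

theorem hx_map {hx : Fˣ → X} (D : Hx S hx) : Hx (mapS S j hj) (fun d => j (hx d)) where
  e0 d p u := by simp only [mapS_e, ← map_mul, ← map_inv, D.e0]
  o0 d t := by simp only [mapS_o, ← map_mul, ← map_inv, D.o0]
  o7 d t := by simp only [mapS_o, ← map_mul, ← map_inv, D.o7]
  o1 d t := by simp only [mapS_o, ← map_mul, ← map_inv, D.o1]
  o6 d t := by simp only [mapS_o, ← map_mul, ← map_inv, D.o6]
  e1 d p u := by simp only [mapS_e, ← map_mul, ← map_inv, D.e1]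
  e7 d p u := by simp only [mapS_e, ← map_mul, ← map_inv, D.e7]
  e2 d p u := by simp only [mapS_e, ← map_mul, ← map_inv, D.e2]
  e6 d p u := by simp only [mapS_e, ← map_mul, ← map_inv, D.e6]

end map

/-- the inverse of `σ` -/
theorem exists_inv {F : Type*} [Field F] [Finite F] {σ : F →+* F} (hσ : ∀ x, σ (σ x) = x ^ 2)
    (hF : ∃ c : Fˣ, c ≠ 1) : ∃ τ : F →+* F, Inv σ τ := by
  have hb : Function.Bijective σ := Finite.injective_iff_bijective.1 σ.injective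
  obtain ⟨c, hc⟩ := hF
  refine ⟨((RingEquiv.ofBijective σ hb).symm : F →+* F), hσ, fun x => ?_, fun x => ?_, c, c.ne_zero,
    fun h => hc (Units.ext h)⟩
  · exact (RingEquiv.ofBijective σ hb).symm_apply_apply x
  · exact (RingEquiv.ofBijective σ hb).apply_symm_apply x

/-! ### inner automorphisms -/

theorem aut_apply {X G : Type*} [Group X] [Group G] {j : X →* G} (hj : Function.Injective j) {y : G}
    (hy : y ∈ normalizer (j.range : Set G)) (x : X) :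
    j ((MulAut.congr (MonoidHom.ofInjective hj).symm (j.range.normalizerMonoidHom ⟨y, hy⟩)) x) = y * j x * y⁻¹ := by
  have h1 : ∀ k : ↥j.range, j ((MonoidHom.ofInjective hj).symm k) = k := by
    intro k
    have := (MonoidHom.ofInjective hj).apply_symm_apply k
    exact congrArg Subtype.val this
  show j ((MonoidHom.ofInjective hj).symm ((j.range.normalizerMonoidHom ⟨y, hy⟩) (MonoidHom.ofInjective hj x))) = _
  rw [h1]
  rfl

/-- a 2-element normalising `K` lies in `K C(K)`, if the automorphisms of 2-power order are inner -/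
theorem inner_of {X G : Type*} [Group X] [Group G] {j : X →* G} (hj : Function.Injective j)
    (hin : ∀ (α : MulAut X) (n : ℕ), α ^ 2 ^ n = 1 → ∃ x, α = MulAut.conj x) {y : G}
    (hy : y ∈ normalizer (j.range : Set G)) {n : ℕ} (hn : y ^ 2 ^ n = 1) :
    y ∈ j.range ⊔ centralizer (j.range : Set G) := by
  obtain ⟨x, hx⟩ := hin (MulAut.congr (MonoidHom.ofInjective hj).symm (j.range.normalizerMonoidHom ⟨y, hy⟩)) n (by
    rw [← map_pow, ← map_pow]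
    have : (⟨y, hy⟩ : ↥(normalizer (j.range : Set G))) ^ 2 ^ n = 1 := Subtype.ext hn
    rw [this, map_one, map_one])
  have h1 : (j x)⁻¹ * y ∈ centralizer (j.range : Set G) := by
    rw [mem_centralizer_iff]
    rintro _ ⟨z, rfl⟩
    have h2 := aut_apply hj hy z
    rw [hx, MulAut.conj_apply, map_mul, map_mul, map_inv] at h2
    calc j z * ((j x)⁻¹ * y) = (j x)⁻¹ * (j x * j z * (j x)⁻¹) * y := by group
      _ = (j x)⁻¹ * y * j z := by rw [h2]; group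
  have e : y = j x * ((j x)⁻¹ * y) := by group
  rw [e]
  exact mul_mem_sup ⟨x, rfl⟩ h1

/-! ### the conjugating element -/

section kill

variable {F : Type*} [Field F] [CharP F 2] [Finite F] {σ : F →+* F} {X : Type u} [Group X] [Finite X] (S : Full σ X)
variable {G : Type*} [Group G] {j : X →* G} (hj : Function.Injective j)

include hj

/-- normal 2-subgroups of `H` -/
theorem O2_G (hF : ∃ c : Fˣ, c ≠ 1) (hR : S.R.p = 2) {N : Subgroup G} (hN : N ≤ S.PL.map j)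
    (h2 : IsPGroup 2 ↥N) (hn : ∀ g ∈ S.PL.map j, ∀ x ∈ N, g * x * g⁻¹ ∈ N) : N ≤ S.Q.map j := by
  have h1 : N.comap j ≤ S.Q := by
    apply Perf.O2_PL S hF hR
    · intro x hx
      obtain ⟨y, hy, e⟩ := hN hx
      rw [← hj e]; exact hy
    · exact h2.comap_of_injective j hj
    · intro g hg x hx
      rw [mem_comap] at hx ⊢
      rw [map_mul, map_mul, map_inv]
      exact hn _ ⟨g, hg, rfl⟩ _ hx
  intro x hx
  obtain ⟨y, hy, rfl⟩ := hN hx
  exact ⟨y, h1 hx, rfl⟩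

variable [Finite G] {g : G}

theorem g_Q (hF : ∃ c : Fˣ, c ≠ 1) (hR : S.R.p = 2) (hg : ∀ x ∈ S.PL.map j, g * x * g⁻¹ ∈ S.PL.map j) :
    ∀ x ∈ S.Q.map j, g * x * g⁻¹ ∈ S.Q.map j := by
  have hg' := conj_inv_mem hg
  have h1 : cj g (S.Q.map j) ≤ S.Q.map j := by
    have hQ : S.Q ≤ S.PL := J_mono (by norm_num) (by norm_num)
    apply O2_G S hj hF hR
    · intro x hx
      have := hg _ (map_mono hQ (mem_cj.1 hx))
      have e : g * (g⁻¹ * x * g) * g⁻¹ = x := by group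
      rwa [e] at this
    · exact ((Perf.two_Q S hR).map j).map _
    · intro h hh x hx
      rw [mem_cj] at hx ⊢
      have h2 := hg' h hh
      have e : g⁻¹ * (h * x * h⁻¹) * g = (g⁻¹ * h * g) * (g⁻¹ * x * g) * (g⁻¹ * h * g)⁻¹ := by group
      rw [e]
      obtain ⟨a, ha, ea⟩ := h2
      obtain ⟨b, hb, eb⟩ := hx
      rw [← ea, ← eb]
      exact ⟨a * b * a⁻¹, Perf.Q_norm S ha hb, by simp⟩
  intro x hx
  exact h1 (mem_cj_mul hx)

omit [Finite G] in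
theorem g_Q2 (hQ : ∀ x ∈ S.Q.map j, g * x * g⁻¹ ∈ S.Q.map j) : ∀ x ∈ S.Q2.map j, g * x * g⁻¹ ∈ S.Q2.map j := by
  have h1 : S.Q2.map j = ⁅S.Q.map j, S.Q.map j⁆ := by rw [← map_commutator, Layers.comm_Q S]
  have h2 : ⁅S.Q.map j, S.Q.map j⁆ ≤ (⁅S.Q.map j, S.Q.map j⁆).comap (MulAut.conj g).toMonoidHom := by
    rw [commutator_le]
    intro a ha b hb
    rw [mem_comap]
    show g * ⁅a, b⁆ * g⁻¹ ∈ _
    have e : g * ⁅a, b⁆ * g⁻¹ = ⁅g * a * g⁻¹, g * b * g⁻¹⁆ := by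
      rw [commutatorElement_def, commutatorElement_def]; group
    rw [e]
    exact commutator_mem_commutator (hQ a ha) (hQ b hb)
  intro x hx
  rw [h1] at hx ⊢
  exact h2 hx

theorem g_Zc (hQ : ∀ x ∈ S.Q.map j, g * x * g⁻¹ ∈ S.Q.map j) (hg : ∀ x ∈ S.PL.map j, g * x * g⁻¹ ∈ S.PL.map j) :
    ∀ x ∈ (S.Zc 2).map j, g * x * g⁻¹ ∈ (S.Zc 2).map j := by
  have hQ' := conj_inv_mem hQ
  rintro _ ⟨z, hz, rfl⟩
  have hz' : z ∈ S.PL := by
    obtain ⟨u, rfl⟩ := hz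
    exact mem_J (S.mX4 0 u) (by norm_num) (by norm_num)
  obtain ⟨y, hy, e⟩ := hg _ ⟨z, hz', rfl⟩
  refine ⟨y, ?_, e⟩
  show y ∈ S.Zc 2
  rw [← S.centralizer_Q, mem_centralizer_iff]
  intro q hq
  apply hj
  rw [map_mul, map_mul, e]
  obtain ⟨q', hq', e'⟩ := hQ' _ ⟨q, hq, rfl⟩
  have h1 : j q' * j z = j z * j q' := by
    rw [← map_mul, ← map_mul]
    have hq'' : q' ∈ S.PL := (J_mono (by norm_num) (by norm_num) : S.Q ≤ S.PL) hq'
    rw [S.comm_PL hq'' hz]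
  have h2 : j q = g * j q' * g⁻¹ := by rw [e']; group
  calc j q * (g * j z * g⁻¹) = g * (j q' * j z) * g⁻¹ := by rw [h2]; group
    _ = g * j z * g⁻¹ * j q := by rw [h1, h2]; group

/-- **the element `h'`** -/
theorem hp (hF : ∃ c : Fˣ, c ≠ 1) (hR : S.R.p = 2) (hg : ∀ x ∈ S.PL.map j, g * x * g⁻¹ ∈ S.PL.map j)
    (hgT : ∀ x ∈ (T4 S).map j, g * x * g⁻¹ ∈ (T4 S).map j) (x0 : Fˣ) :
    Hp (mapS (sh S) j hj) (fun d => j (tdl S d)) (S.PL.map j) (S.Q.map j) (g * j (thx S x0) * g⁻¹) := by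
  have hQ := g_Q S hj hF hR hg
  have hQ2 := g_Q2 S hj hQ
  have hZ := g_Zc S hj hQ hg
  have hg' := conj_inv_mem hg
  have hQ' := conj_inv_mem hQ
  have hQ2' := conj_inv_mem hQ2
  have hZ' := conj_inv_mem hZ
  have hgT' := conj_inv_mem hgT
  have hT := thx_mem S x0
  have e1 : ∀ y : G, (g * j (thx S x0) * g⁻¹) * y * (g * j (thx S x0) * g⁻¹)⁻¹ =
      g * (j (thx S x0) * (g⁻¹ * y * g) * (j (thx S x0))⁻¹) * g⁻¹ := fun y => by group
  have hiff : ∀ y : G, InQ (mapS (sh S) j hj) y ↔ y ∈ S.Q2.map j := by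
    intro y
    constructor
    · intro h
      obtain ⟨x, hx, rfl⟩ := exists_of_inQ hj h
      exact ⟨x, (inQ_iff S).1 hx, rfl⟩
    · rintro ⟨x, hx, rfl⟩
      exact (inQ_map hj).2 ((inQ_iff S).2 hx)
  have hTJ : ∀ {a b : ℤ} (y : G), y ∈ (J S.XZ a b).map j → j (thx S x0) * y * (j (thx S x0))⁻¹ ∈ (J S.XZ a b).map j := by
    rintro a b _ ⟨y, hy, rfl⟩
    exact ⟨thx S x0 * y * (thx S x0)⁻¹, S.T_conj_J hT hy, by simp⟩
  refine ⟨fun y hy => ?_, fun u => ?_, fun d => ?_, fun y hy => ?_, fun y hy => ?_, fun y hy => ?_⟩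
  · rw [e1]
    rw [hiff] at hy ⊢
    apply hQ2
    obtain ⟨z, hz, e⟩ := hQ2' y hy
    rw [← e]
    have h3 : thx S x0 ∈ S.T := hT
    obtain ⟨a, b, c, d, e', hz'⟩ := (inQ_iff S).2 hz
    refine ⟨thx S x0 * z * (thx S x0)⁻¹, ?_, by simp⟩
    rw [hz']
    refine (inQ_iff S).1 ?_
    have hH := hxF S
    have e7 : (sh S).e 7 0 (x0 * σ x0 * a) = thx S x0 * (sh S).e 7 0 a * (thx S x0)⁻¹ := by rw [hH.e7, mul_zero]
    have e0 : (sh S).e 0 0 (σ x0 * (x0 * x0) * c) = thx S x0 * (sh S).e 0 0 c * (thx S x0)⁻¹ := by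
      rw [hH.e0, mul_zero]
    have e1 : (sh S).e 1 0 (x0 * σ x0 * e') = thx S x0 * (sh S).e 1 0 e' * (thx S x0)⁻¹ := by rw [hH.e1, mul_zero]
    refine ⟨x0 * σ x0 * a, x0 * σ x0 * b, σ x0 * (x0 * x0) * c, x0 * σ x0 * d, x0 * σ x0 * e', ?_⟩
    unfold q5
    rw [e7, e0, e1, ← hH.o7, ← hH.o0]; group
  · rw [e1]
    obtain ⟨z, hz, e⟩ := hZ' (j (S.e 2 0 u)) ⟨_, ⟨u, rfl⟩, rfl⟩
    have h2 : (mapS (sh S) j hj).e 0 0 u = j (S.e 2 0 u) := by rw [mapS_e, se0]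
    rw [h2, ← e]
    have h3 := hZ _ (show j (thx S x0) * j z * (j (thx S x0))⁻¹ ∈ (S.Zc 2).map j from
      ⟨thx S x0 * z * (thx S x0)⁻¹, S.T_conj_Zc hT hz, by simp⟩)
    obtain ⟨w, ⟨v, rfl⟩, ew⟩ := h3
    exact ⟨v, by rw [mapS_e, se0, ew]⟩
  · obtain ⟨t, ⟨d', rfl⟩, e⟩ := hgT' (j (tdl S d)) ⟨_, ⟨d, rfl⟩, rfl⟩
    have h1 : j (tdl S d) = g * j (tdl S d') * g⁻¹ := by
      have : j (tdl S d') = g⁻¹ * j (tdl S d) * g := e
      rw [this]; group
    have h2 := (comm_hx_dl S x0 d').eq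
    show g * j (thx S x0) * g⁻¹ * j (tdl S d) = j (tdl S d) * (g * j (thx S x0) * g⁻¹)
    rw [h1]
    calc g * j (thx S x0) * g⁻¹ * (g * j (tdl S d') * g⁻¹) = g * j (thx S x0 * tdl S d') * g⁻¹ := by
          rw [map_mul]; group
      _ = _ := by rw [h2, map_mul]; group
  · rw [e1]
    exact hg _ (hTJ _ (hg' y hy))
  · have e2 : dlt (g * j (thx S x0) * g⁻¹) y = g * dlt (j (thx S x0)) (g⁻¹ * y * g) * g⁻¹ := by
      unfold dlt; group
    rw [e2]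
    apply hQ
    obtain ⟨z, hz, e⟩ := hg' y hy
    rw [← e]
    exact ⟨dlt (thx S x0) z, mod_Q S x0 hz, by unfold dlt; simp⟩
  · rw [e1]
    exact hQ _ (hTJ _ (hQ' y hy))

omit [Finite F] [Finite X] in
/-- an element commuting with `A` and `Q₂` acts on `E₀` as an inner automorphism does -/
theorem hin {A : Subgroup G} (B : DblR.Amb j.range A) {t : G} (ht : t ∈ A) (ht1 : t ≠ 1)
    (hinn : ∀ (α : MulAut X) (n : ℕ), α ^ 2 ^ n = 1 → ∃ x, α = MulAut.conj x) (k : ∀ y : X,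
      (∀ α β γ δ ε, Commute y (q5 (sh S) α β γ δ ε)) → ∃ p u, InQ (sh S) (((sh S).e 0 p u)⁻¹ * y))
    (y : G) (hyA : ∀ r ∈ A, Commute y r) (h1 : ∀ x, Commute y ((mapS (sh S) j hj).e 7 0 x))
    (h2 : ∀ x, Commute y ((mapS (sh S) j hj).o 7 x)) (h3 : ∀ x, Commute y ((mapS (sh S) j hj).e 0 0 x))
    (h4 : ∀ x, Commute y ((mapS (sh S) j hj).o 0 x)) (h5 : ∀ x, Commute y ((mapS (sh S) j hj).e 1 0 x))
    (ψ : F → F) (hψ : ∀ p x, y * (mapS (sh S) j hj).e 0 p x * y⁻¹ =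
      (mapS (sh S) j hj).e 0 p x * (mapS (sh S) j hj).e 0 0 (ψ p)) : ∃ p', ∀ p, ψ p = p * σ p' + p' * σ p := by
  set S0 := mapS (sh S) j hj with hS0
  -- the 2-part of `y`
  have hy2 : ∀ p x, y ^ 2 * S0.e 0 p x = S0.e 0 p x * y ^ 2 := by
    intro p x
    have e1 : y * S0.e 0 p x = S0.e 0 p x * S0.e 0 0 (ψ p) * y := by rw [← hψ]; group
    have e2 : y * S0.e 0 0 (ψ p) = S0.e 0 0 (ψ p) * y := (h3 _).eq
    have e3 : S0.e 0 0 (ψ p) * S0.e 0 0 (ψ p) = 1 := End.z_sq S0 0 _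
    calc y ^ 2 * S0.e 0 p x = y * (y * S0.e 0 p x) := by rw [pow_two]; group
      _ = y * (S0.e 0 p x * S0.e 0 0 (ψ p) * y) := by rw [e1]
      _ = (y * S0.e 0 p x) * (S0.e 0 0 (ψ p) * y) := by group
      _ = (S0.e 0 p x * S0.e 0 0 (ψ p) * y) * (S0.e 0 0 (ψ p) * y) := by rw [e1]
      _ = S0.e 0 p x * S0.e 0 0 (ψ p) * (y * S0.e 0 0 (ψ p)) * y := by group
      _ = S0.e 0 p x * S0.e 0 0 (ψ p) * (S0.e 0 0 (ψ p) * y) * y := by rw [e2]
      _ = S0.e 0 p x * (S0.e 0 0 (ψ p) * S0.e 0 0 (ψ p)) * (y * y) := by simp only [mul_assoc]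
      _ = _ := by rw [e3, mul_one, pow_two]
  obtain ⟨a, m, hm, ham⟩ : ∃ a m : ℕ, Odd m ∧ y ^ (2 ^ a * m) = 1 := by
    have hpos : orderOf y ≠ 0 := (orderOf_pos y).ne'
    obtain ⟨a, m, hm, e⟩ := Nat.exists_eq_two_pow_mul_odd hpos
    exact ⟨a, m, hm, by rw [← e, pow_orderOf_eq_one]⟩
  obtain ⟨l, hl⟩ := hm
  set w := y ^ m with hw
  have hw2 : w ^ 2 ^ a = 1 := by rw [hw, ← pow_mul, mul_comm, ham]
  have hwe : ∀ p x, w * S0.e 0 p x * w⁻¹ = S0.e 0 p x * S0.e 0 0 (ψ p) := by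
    intro p x
    have e1 : w = y * (y ^ 2) ^ l := by rw [hw, hl, ← pow_mul, ← pow_succ']
    have c1 : Commute ((y ^ 2) ^ l) (S0.e 0 p x) := (show Commute (y ^ 2) (S0.e 0 p x) from hy2 p x).pow_left l
    calc w * S0.e 0 p x * w⁻¹ = y * ((y ^ 2) ^ l * S0.e 0 p x) * ((y ^ 2) ^ l)⁻¹ * y⁻¹ := by rw [e1]; group
      _ = y * S0.e 0 p x * y⁻¹ := by rw [c1.eq]; group
      _ = _ := hψ p x
  have hwn : w ∈ normalizer (j.range : Set G) := by
    have h6 : ∀ k ∈ j.range, w * k * w⁻¹ ∈ j.range :=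
      B.nor t ht ht1 w ((hyA t ht).pow_left m).eq
    rw [mem_normalizer_iff]
    intro x
    refine ⟨h6 x, fun hx => ?_⟩
    have := conj_inv_mem (U := j.range) h6 _ hx
    have e : w⁻¹ * (w * x * w⁻¹) * w = x := by group
    rwa [e] at this
  have h7 := inner_of hj hinn hwn hw2
  obtain ⟨k0, ⟨x, rfl⟩, c, hc, e⟩ : ∃ k0 ∈ j.range, ∃ c ∈ centralizer (j.range : Set G), w = k0 * c := by
    have h8 : w ∈ ((j.range ⊔ centralizer (j.range : Set G) : Subgroup G) : Set G) := h7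
    rw [coe_mul_of_right_le_normalizer_left] at h8
    · obtain ⟨k, hk, c, hc, e⟩ := h8
      exact ⟨k, hk, c, hc, e.symm⟩
    · exact centralizer_le_normalizer _
  have hcx : ∀ z : X, c * j z = j z * c := fun z => (mem_centralizer_iff.1 hc (j z) ⟨z, rfl⟩).symm
  have hact : ∀ z : X, w * j z * w⁻¹ = j (x * z * x⁻¹) := by
    intro z
    rw [e, map_mul, map_mul, map_inv]
    calc j x * c * j z * (j x * c)⁻¹ = j x * (c * j z) * c⁻¹ * (j x)⁻¹ := by group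
      _ = _ := by rw [hcx]; group
  have hcq : ∀ α β γ δ ε, Commute x (q5 (sh S) α β γ δ ε) := by
    intro α β γ δ ε
    have hyq : Commute y (q5 S0 α β γ δ ε) := by
      unfold q5
      exact ((((h1 α).mul_right (h2 β)).mul_right (h3 γ)).mul_right (h4 δ)).mul_right (h5 ε)
    have hwq : Commute w (q5 S0 α β γ δ ε) := hyq.pow_left m
    have h9 := hact (q5 (sh S) α β γ δ ε)
    rw [← q5_map hj, ← hS0, hwq.eq, mul_inv_cancel_right, hS0, q5_map hj] at h9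
    have h10 := hj h9
    show x * _ = _ * x
    calc x * q5 (sh S) α β γ δ ε = (x * q5 (sh S) α β γ δ ε * x⁻¹) * x := by group
      _ = _ := by rw [← h10]
  obtain ⟨p', u', a1, a2, a3, a4, a5, ha⟩ := k x hcq
  refine ⟨p', fun p => ?_⟩
  have hx : x = (sh S).e 0 p' u' * q5 (sh S) a1 a2 a3 a4 a5 := by rw [← ha]; group
  have h8 := hwe p 0
  have h9 := hact ((sh S).e 0 p 0)
  have h10 : j ((sh S).e 0 p 0) = S0.e 0 p 0 := rfl
  rw [h10, h8] at h9
  have h11 : S0.e 0 p 0 * S0.e 0 0 (ψ p) = j ((sh S).e 0 p 0 * (sh S).e 0 0 (ψ p)) := by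
    rw [map_mul]; rfl
  rw [h11] at h9
  have h12 := hj h9
  have h13 : (sh S).e 0 p' u' * q5 (sh S) a1 a2 a3 a4 a5 * (sh S).e 0 p 0 * ((sh S).e 0 p' u' * q5 (sh S) a1 a2 a3 a4 a5)⁻¹ =
      (sh S).e 0 p' u' * (sh S).e 0 p 0 * ((sh S).e 0 p' u')⁻¹ := by
    have c1 := (q5_e0 (sh S) a1 a2 a3 a4 a5 p 0).eq
    calc _ = (sh S).e 0 p' u' * (q5 (sh S) a1 a2 a3 a4 a5 * (sh S).e 0 p 0) * (q5 (sh S) a1 a2 a3 a4 a5)⁻¹ *
          ((sh S).e 0 p' u')⁻¹ := by group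
      _ = _ := by rw [← c1]; group
  rw [hx, h13] at h12
  have h14 : (sh S).e 0 p 0 * (sh S).e 0 0 (ψ p) * (sh S).e 0 p' u' = (sh S).e 0 p' u' * (sh S).e 0 p 0 := by
    rw [h12]; group
  rw [(sh S).e_mul, (sh S).e_mul, (sh S).e_mul, map_zero, mul_zero, add_zero, add_zero, add_zero, zero_add] at h14
  have h15 := ((sh S).injE 0 _ _ _ _ h14).2
  -- `ψ p + u' + p σ p' = u' + p' σ p`
  have h16 : ψ p = p * σ p' + p' * σ p := by
    have e1 : ψ p + (u' + p * σ p' + (u' + p * σ p')) = (u' + p' * σ p) + (u' + p * σ p') := by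
      rw [← h15]; ring
    rw [Field.add_self, add_zero] at e1
    rw [e1]
    have : u' + p' * σ p + (u' + p * σ p') = (u' + u') + (p * σ p' + p' * σ p) := by ring
    rw [this, Field.add_self, zero_add]
  exact h16

/-- **KILL** -/
theorem kill (hF : ∃ c : Fˣ, c ≠ 1) (hR : S.R.p = 2)
    (hinn : ∀ (α : MulAut X) (n : ℕ), α ^ 2 ^ n = 1 → ∃ x, α = MulAut.conj x) {A : Subgroup G}
    (B : DblR.Amb j.range A) (hg : ∀ x ∈ S.PL.map j, g * x * g⁻¹ ∈ S.PL.map j)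
    (hW : ∀ r ∈ A, ∃ b, r * j (S.e 2 0 b) ∈ cj g A) (hWA : ∀ r ∈ A, r ∈ cj g A → r = 1)
    (hWK : ∀ b, j (S.e 2 0 b) ∈ cj g A → b = 0) {t : G} (ht : t ∈ A) (ht1 : t ≠ 1) : ∀ r ∈ A, r = 1 ∨ r = t := by
  obtain ⟨y, hy, -, hyT⟩ := exists_norm S hj hF hR hg
  obtain ⟨τ, I⟩ := exists_inv S.sq hF
  obtain ⟨x0, u0, hx0⟩ := hx_move S hF
  have hg1 : ∀ x ∈ S.PL.map j, (y * g) * x * (y * g)⁻¹ ∈ S.PL.map j := by
    intro x hx
    have e : (y * g) * x * (y * g)⁻¹ = y * (g * x * g⁻¹) * y⁻¹ := by group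
    rw [e]
    exact mul_mem (mul_mem hy (hg x hx)) (inv_mem hy)
  have hyK : y ∈ j.range := by
    obtain ⟨z, -, rfl⟩ := hy
    exact ⟨z, rfl⟩
  have hyw : ∀ r ∈ A, ∀ b, y * (r * j (S.e 2 0 b)) * y⁻¹ = r * j (S.e 2 0 b) := by
    intro r hr b
    have h1 := B.comm r hr y hyK
    have h2 : y * j (S.e 2 0 b) = j (S.e 2 0 b) * y := by
      obtain ⟨z, hz, rfl⟩ := hy
      rw [← map_mul, ← map_mul, S.comm_PL hz ⟨b, rfl⟩]
    calc y * (r * j (S.e 2 0 b)) * y⁻¹ = (y * r) * j (S.e 2 0 b) * y⁻¹ := by group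
      _ = r * (y * j (S.e 2 0 b)) * y⁻¹ := by rw [← h1]; group
      _ = _ := by rw [h2]; group
  choose! β hβ using hW
  set S0 := mapS (sh S) j hj with hS0
  have hSz : ∀ b, S0.e 0 0 b = j (S.e 2 0 b) := by
    intro b
    rw [hS0, mapS_e, se0]
  have hAK : ∀ r ∈ A, ∀ x : X, Commute r (j x) := fun r hr x => B.comm r hr _ ⟨x, rfl⟩
  have hβ1 : β 1 = 0 := by
    apply hWK
    have := hβ 1 (one_mem A)
    rwa [one_mul] at this
  have hβinj : ∀ r ∈ A, ∀ s ∈ A, β r = β s → r = s := by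
    intro r hr s hs h
    have h1 := mul_mem (hβ r hr) (inv_mem (hβ s hs))
    have h2 : r * j (S.e 2 0 (β r)) * (s * j (S.e 2 0 (β s)))⁻¹ = r * s⁻¹ := by rw [h]; group
    rw [h2] at h1
    have h3 := hWA _ (mul_mem hr (inv_mem hs)) h1
    exact mul_inv_eq_one.1 h3
  have hβt : β t ≠ 0 := fun h => ht1 (hβinj t ht 1 (one_mem A) (by rw [h, hβ1]))
  have hH : ∀ c, ∀ x ∈ S.PL.map j, (j (thx S c))⁻¹ * x * j (thx S c) ∈ S.PL.map j := by
    rintro c _ ⟨x, hx, rfl⟩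
    refine ⟨(thx S c)⁻¹ * x * thx S c, ?_, by simp⟩
    have := S.T_conj_J (inv_mem (thx_mem S c)) hx
    rwa [inv_inv] at this
  obtain ⟨e0, nn, Dfam⟩ := exists_fam' (hp S hj hF hR hg1 hyT x0) (kh_map hj (kh S hF)) (dl_map hj (dlF S)) I
    (hx_map hj (hxF S)) (fun x d => (comm_hx_dl S x d).map j) hH (A := A) (fun r hr x => hAK r hr _)
    (fun r hr a t => hAK r hr _) (fun r hr a p u => hAK r hr _) (fun r hr => hAK r hr _) (β := β) (t := t)
    (by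
      intro r hr
      rw [← hS0, hSz]
      have h1 := hβ r hr
      rw [mem_cj] at h1
      set a := g⁻¹ * (r * j (S.e 2 0 (β r))) * g with ha
      have h2 : r * j (S.e 2 0 (β r)) = (y * g) * a * (y * g)⁻¹ := by
        have : (y * g) * a * (y * g)⁻¹ = y * (r * j (S.e 2 0 (β r))) * y⁻¹ := by rw [ha]; group
        rw [this, hyw r hr]
      have h3 := (hAK a h1 (thx S x0)).eq
      rw [h2]
      show y * g * j (thx S x0) * (y * g)⁻¹ * (y * g * a * (y * g)⁻¹) = _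
      calc y * g * j (thx S x0) * (y * g)⁻¹ * (y * g * a * (y * g)⁻¹) = y * g * (j (thx S x0) * a) * (y * g)⁻¹ := by group
        _ = _ := by rw [← h3]; group)
    (by
      -- `h'` moves an element of `Z_4`
      have hQ := g_Q S hj hF hR hg1
      have hZ := g_Zc S hj hQ hg1
      obtain ⟨z, ⟨v, rfl⟩, ev⟩ := hZ (j (S.e 2 0 u0)) ⟨_, ⟨u0, rfl⟩, rfl⟩
      refine ⟨v, fun hcm => hx0 ?_⟩
      rw [← hS0, hSz] at hcm
      have h1 : j (S.e 2 0 v) = y * g * j (S.e 2 0 u0) * (y * g)⁻¹ := ev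
      rw [h1] at hcm
      have h2 : j (thx S x0) * j (S.e 2 0 u0) = j (S.e 2 0 u0) * j (thx S x0) := by
        have h3 := hcm.eq
        have h4 : y * g * j (thx S x0) * (y * g)⁻¹ * (y * g * j (S.e 2 0 u0) * (y * g)⁻¹) =
            y * g * (j (thx S x0) * j (S.e 2 0 u0)) * (y * g)⁻¹ := by group
        have h5 : y * g * j (S.e 2 0 u0) * (y * g)⁻¹ * (y * g * j (thx S x0) * (y * g)⁻¹) =
            y * g * (j (S.e 2 0 u0) * j (thx S x0)) * (y * g)⁻¹ := by group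
        rw [h4, h5] at h3
        exact mul_left_cancel (mul_right_cancel h3)
      rw [← map_mul, ← map_mul] at h2
      rw [hj h2]; group) hβt
  have hfin := Dfam.eq_one_or_eq I B (fun a p u => ⟨_, rfl⟩) ht ht1 (div_self hβt)
    (fun r hr s hs h => hβinj r hr s hs (by
      have h' : β r / β t = β s / β t := h
      rwa [div_left_inj' hβt] at h'))
    (show β 1 / β t = 0 by rw [hβ1, zero_div])
    (hin S hj B ht ht1 hinn (fun y h => by
      -- `C(Q₂) = Q₁`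
      have h1 : y ∈ S.Q1 := by
        rw [← S.centralizer_Q2, Subgroup.mem_centralizer_iff]
        intro x hx
        obtain ⟨α, β, γ, δ, ε, rfl⟩ := (inQ_iff S).2 hx
        exact (h α β γ δ ε).eq.symm
      have h2 : y ∈ S.PL := J_mono (by norm_num) (by norm_num) (S.Q1_le_J h1)
      exact (kh S hF).cen y h2 h))
  exact hfin

end kill

end Cfsg.Agent.OddHalf.D4.TwF.Kill
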