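import Cfsg.Agent.OddHalf.D4.TwF.QTwo

/-!
# ODD D4, `K = ²F₄(q)`: images and the mirror image of a coordinate system
-/

set_option autoImplicit false
set_option linter.unusedSectionVars false

namespace Cfsg.Agent.OddHalf.D4.TwF.Mir

open Cfsg.Agent.Octagon.Pkg
open Cfsg.Agent.KFacts.TwF4 Cfsg.Agent.OddHalf.D4.TwF.Field Cfsg.Agent.OddHalf.D4.TwF.End
open Cfsg.Agent.OddHalf.D4.TwF.QTwo

section map

variable {F : Type*} [Field F] {σ : F →+* F} {G H : Type*} [Group G] [Group H]

theorem rel_map {x1 x3 x5 x7 : F → G} {x2 x4 x6 x8 : F → F → G} (h : OctRel σ x1 x3 x5 x7 x2 x4 x6 x8) (f : G →* H) :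
    OctRel σ (fun t => f (x1 t)) (fun t => f (x3 t)) (fun t => f (x5 t)) (fun t => f (x7 t))
      (fun p u => f (x2 p u)) (fun p u => f (x4 p u)) (fun p u => f (x6 p u)) (fun p u => f (x8 p u)) where
  m1 t s := by rw [← map_mul, h.m1]
  m3 t s := by rw [← map_mul, h.m3]
  m5 t s := by rw [← map_mul, h.m5]
  m7 t s := by rw [← map_mul, h.m7]
  m2 p u q v := by rw [← map_mul, h.m2]
  m4 p u q v := by rw [← map_mul, h.m4]
  m6 p u q v := by rw [← map_mul, h.m6]
  m8 p u q v := by rw [← map_mul, h.m8]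
  r12 t q v := by simp only [← map_mul]; rw [h.r12]
  r13 t s := by simp only [← map_mul]; rw [h.r13]
  r14 t q v := by simp only [← map_mul]; rw [h.r14]
  r15 t s := by simp only [← map_mul]; rw [h.r15]
  r16 t q v := by simp only [← map_mul]; rw [h.r16]
  r17 t s := by simp only [← map_mul]; rw [h.r17]
  r18 t q v := by simp only [← map_mul]; rw [h.r18]
  r23 p u s := by simp only [← map_mul]; rw [h.r23]
  r24 p u q v := by simp only [← map_mul]; rw [h.r24]
  r25 p u s := by simp only [← map_mul]; rw [h.r25]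
  r26 p u q v := by simp only [← map_mul]; rw [h.r26]
  r27 p u s := by simp only [← map_mul]; rw [h.r27]
  r28 p u q v := by simp only [← map_mul]; rw [h.r28]
  r34 t q v := by simp only [← map_mul]; rw [h.r34]
  r35 t s := by simp only [← map_mul]; rw [h.r35]
  r36 t q v := by simp only [← map_mul]; rw [h.r36]
  r37 t s := by simp only [← map_mul]; rw [h.r37]
  r38 t q v := by simp only [← map_mul]; rw [h.r38]
  r45 p u s := by simp only [← map_mul]; rw [h.r45]
  r46 p u q v := by simp only [← map_mul]; rw [h.r46]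
  r47 p u s := by simp only [← map_mul]; rw [h.r47]
  r48 p u q v := by simp only [← map_mul]; rw [h.r48]
  r56 t q v := by simp only [← map_mul]; rw [h.r56]
  r57 t s := by simp only [← map_mul]; rw [h.r57]
  r58 t q v := by simp only [← map_mul]; rw [h.r58]
  r67 p u s := by simp only [← map_mul]; rw [h.r67]
  r68 p u q v := by simp only [← map_mul]; rw [h.r68]
  r78 t q v := by simp only [← map_mul]; rw [h.r78]

/-- the image of a coordinate system -/
def mapS (S : Sys σ G) (f : G →* H) (hf : Function.Injective f) : Sys σ H where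
  o a t := f (S.o a t)
  e a p u := f (S.e a p u)
  rot := f S.rot
  n1 := f S.n1
  n2 := f S.n2
  rel := rel_map S.rel f
  injO a := hf.comp (S.injO a)
  injE a p u q v h := S.injE a p u q v (hf h)
  rot_o a t := by rw [← map_mul, ← map_inv, ← map_mul, S.rot_o]
  rot_e a p u := by rw [← map_mul, ← map_inv, ← map_mul, S.rot_e]
  n1_o a t := by rw [← map_mul, ← map_inv, ← map_mul, S.n1_o]
  n1_e a p u := by rw [← map_mul, ← map_inv, ← map_mul, S.n1_e]
  n2_o a t := by rw [← map_mul, ← map_inv, ← map_mul, S.n2_o]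
  n2_e a p u := by rw [← map_mul, ← map_inv, ← map_mul, S.n2_e]

theorem mapS_o (S : Sys σ G) (f : G →* H) (hf : Function.Injective f) (a : ZMod 8) (t : F) :
    (mapS S f hf).o a t = f (S.o a t) := rfl
theorem mapS_e (S : Sys σ G) (f : G →* H) (hf : Function.Injective f) (a : ZMod 8) (p u : F) :
    (mapS S f hf).e a p u = f (S.e a p u) := rfl

end map

variable {F : Type*} [Field F] [CharP F 2] {σ τ : F →+* F} {G : Type*} [Group G]

/-- mirror images -/
structure Mirror (S S' : Sys σ G) : Prop where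
  e : ∀ a p u, S'.e a p u = S.e (-a) p u
  o : ∀ a t, S'.o a t = S.o (7 - a) t

theorem Mirror.symm {S S' : Sys σ G} (M : Mirror S S') : Mirror S' S :=
  ⟨fun a p u => by rw [M.e, neg_neg], fun a t => by rw [M.o, sub_sub_cancel]⟩

/-- the mirror image -/
theorem exists_mirror (S : Sys σ G) : ∃ S' : Sys σ G, Mirror S S' := by
  let w : G := S.rot * (S.rot * (S.rot * (S.rot * S.n2)))
  have hc : ∀ x : G, (MulAut.conj w).toMonoidHom x =
      S.rot * (S.rot * (S.rot * (S.rot * (S.n2 * x * S.n2⁻¹) * S.rot⁻¹) * S.rot⁻¹) * S.rot⁻¹) * S.rot⁻¹ := by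
    intro x
    show w * x * w⁻¹ = _
    simp only [w]
    group
  have hi : Function.Injective (MulAut.conj w).toMonoidHom := (MulAut.conj w).injective
  refine ⟨mapS S (MulAut.conj w).toMonoidHom hi, ?_, ?_⟩
  · intro a p u
    refine (mapS_e S _ hi a p u).trans ?_
    rw [hc, S.n2_e, S.rot_e, S.rot_e, S.rot_e, S.rot_e]
    have : (4 - a + 1 + 1 + 1 + 1 : ZMod 8) = -a := by
      revert a; decide
    rw [this]
  · intro a t
    refine (mapS_o S _ hi a t).trans ?_
    rw [hc, S.n2_o, S.rot_o, S.rot_o, S.rot_o, S.rot_o]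
    have : (3 - a + 1 + 1 + 1 + 1 : ZMod 8) = 7 - a := by
      revert a; decide
    rw [this]

section mirror

variable {S S' : Sys σ G}

theorem Mirror.e7 (M : Mirror S S') (p u : F) : S'.e 7 p u = S.e 1 p u := M.e 7 p u
theorem Mirror.e1 (M : Mirror S S') (p u : F) : S'.e 1 p u = S.e 7 p u := M.e 1 p u
theorem Mirror.e0 (M : Mirror S S') (p u : F) : S'.e 0 p u = S.e 0 p u := M.e 0 p u
theorem Mirror.e2 (M : Mirror S S') (p u : F) : S'.e 2 p u = S.e 6 p u := M.e 2 p u
theorem Mirror.e6 (M : Mirror S S') (p u : F) : S'.e 6 p u = S.e 2 p u := M.e 6 p u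
theorem Mirror.o0 (M : Mirror S S') (t : F) : S'.o 0 t = S.o 7 t := M.o 0 t
theorem Mirror.o7 (M : Mirror S S') (t : F) : S'.o 7 t = S.o 0 t := M.o 7 t
theorem Mirror.o1 (M : Mirror S S') (t : F) : S'.o 1 t = S.o 6 t := M.o 1 t
theorem Mirror.o6 (M : Mirror S S') (t : F) : S'.o 6 t = S.o 1 t := M.o 6 t

theorem Mirror.q5 (M : Mirror S S') (α β γ δ ε : F) : QTwo.q5 S' α β γ δ ε = QTwo.q5 S ε δ γ β α := by
  have h1 : QTwo.q5 S' α β γ δ ε = S.e 1 0 α * S.o 0 β * S.e 0 0 γ * S.o 7 δ * S.e 7 0 ε := by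
    unfold QTwo.q5
    rw [M.e7, M.e1, M.e0, M.o0, M.o7]
  rw [h1, z1_eq, o0_eq, z0_eq, o7_eq, z7_eq, q5_mul, q5_mul, q5_mul, q5_mul]
  simp

theorem Mirror.uniq (M : Mirror S S') (hU : Uniq S) : Uniq S' := by
  intro α β γ δ ε α' β' γ' δ' ε' h
  rw [M.q5, M.q5] at h
  obtain ⟨h1, h2, h3, h4, h5⟩ := hU _ _ _ _ _ _ _ _ _ _ h
  exact ⟨h5, h4, h3, h2, h1⟩

end mirror

end Cfsg.Agent.OddHalf.D4.TwF.Mir
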