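import Cfsg.Agent.OddHalf.D4.TwF.Norm

/-!
# ODD D4, `K = ²F₄(q)`: from one element `n` to the family `Fam`
-/

set_option autoImplicit false
set_option linter.unusedSectionVars false

namespace Cfsg.Agent.OddHalf.D4.TwF.MkFam

open Cfsg.Agent.KFacts.TwF4 Cfsg.Agent.OddHalf.D4.TwF.Field Cfsg.Agent.OddHalf.D4.TwF.End
open Cfsg.Agent.OddHalf.D4.TwF.QTwo Cfsg.Agent.OddHalf.D4.TwF.Mir Cfsg.Agent.OddHalf.D4.TwF.Norm

variable {F : Type*} [Field F] [CharP F 2] {σ τ : F →+* F} {G : Type*} [Group G]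

/-- the torus centralising the Levi factor -/
structure Hx (S : Sys σ G) (hx : Fˣ → G) : Prop where
  e0 : ∀ x p u, hx x * S.e 0 p u * (hx x)⁻¹ = S.e 0 (σ x * p) (σ x * (x * x) * u)
  o0 : ∀ x t, hx x * S.o 0 t * (hx x)⁻¹ = S.o 0 (x * σ x * t)
  o7 : ∀ x t, hx x * S.o 7 t * (hx x)⁻¹ = S.o 7 (x * σ x * t)
  o1 : ∀ x t, hx x * S.o 1 t * (hx x)⁻¹ = S.o 1 (x * t)
  o6 : ∀ x t, hx x * S.o 6 t * (hx x)⁻¹ = S.o 6 (x * t)
  e1 : ∀ x p u, hx x * S.e 1 p u * (hx x)⁻¹ = S.e 1 (x * p) (x * σ x * u)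
  e7 : ∀ x p u, hx x * S.e 7 p u * (hx x)⁻¹ = S.e 7 (x * p) (x * σ x * u)
  e2 : ∀ x p u, hx x * S.e 2 p u * (hx x)⁻¹ = S.e 2 p u
  e6 : ∀ x p u, hx x * S.e 6 p u * (hx x)⁻¹ = S.e 6 p u

theorem commute_conj {G : Type*} [Group G] {n y : G} (h : G) (hc : Commute n y) :
    Commute (h * n * h⁻¹) (h * y * h⁻¹) := by
  show h * n * h⁻¹ * (h * y * h⁻¹) = h * y * h⁻¹ * (h * n * h⁻¹)
  calc h * n * h⁻¹ * (h * y * h⁻¹) = h * (n * y) * h⁻¹ := by group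
    _ = h * (y * n) * h⁻¹ := by rw [hc.eq]
    _ = _ := by group

theorem dlt_conj' {G : Type*} [Group G] (h n y : G) : dlt (h * n * h⁻¹) (h * y * h⁻¹) = h * dlt n y * h⁻¹ := by
  unfold dlt; group

/-- `m` behaves as `n₀(w)` -/
structure Bs (S : Sys σ G) (A : Subgroup G) (μ : G → F) (τ : F →+* F) (e0 w : F) (m : G) : Prop where
  z0 : ∀ u, Commute m (S.e 0 0 u)
  o0 : ∀ t, Commute m (S.o 0 t)
  o7 : ∀ t, Commute m (S.o 7 t)
  o1 : ∀ t, Commute m (S.o 1 t)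
  o6 : ∀ t, Commute m (S.o 6 t)
  e1 : ∀ p u, Commute m (S.e 1 p u)
  e7 : ∀ p u, Commute m (S.e 7 p u)
  z2 : ∀ v, dlt m (S.e 2 0 v) = S.e 1 0 (e0 * τ (w * v))
  z6 : ∀ v, dlt m (S.e 6 0 v) = S.e 7 0 (e0 * τ (w * v))
  ee : ∀ p u, dlt m (S.e 0 p u) = S.e 0 0 (e0 * τ (w * p))
  act : ∀ r ∈ A, r⁻¹ * m * r = m * S.e 0 0 (μ r * w)

theorem bs_zero (S : Sys σ G) (A : Subgroup G) (μ : G → F) (τ : F →+* F) (e0 : F) : Bs S A μ τ e0 0 1 where
  z0 _ := Commute.one_left _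
  o0 _ := Commute.one_left _
  o7 _ := Commute.one_left _
  o1 _ := Commute.one_left _
  o6 _ := Commute.one_left _
  e1 _ _ := Commute.one_left _
  e7 _ _ := Commute.one_left _
  z2 v := by rw [zero_mul, map_zero, mul_zero, e_zero, dlt_eq_one (Commute.one_left _)]
  z6 v := by rw [zero_mul, map_zero, mul_zero, e_zero, dlt_eq_one (Commute.one_left _)]
  ee p u := by rw [zero_mul, map_zero, mul_zero, e_zero, dlt_eq_one (Commute.one_left _)]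
  act r _ := by rw [mul_zero, e_zero]; group

/-- conjugation by the torus -/
theorem bs_conj {S : Sys σ G} {A : Subgroup G} {μ : G → F} {e w0 : F} {n : G} {hx : Fˣ → G} (N : Nf S τ e n)
    (I : Inv σ τ) (Hh : Hx S hx) (hA : ∀ r ∈ A, ∀ x, Commute r (hx x)) (hw0 : w0 ≠ 0)
    (act : ∀ r ∈ A, r⁻¹ * n * r = n * S.e 0 0 (μ r * w0)) (x : Fˣ) {w : F} (hw : σ x * (x * x) * w0 = w) :
    Bs S A μ τ (e / τ w0) w (hx x * n * (hx x)⁻¹) := by
  have hx0 : (x : F) ≠ 0 := x.ne_zero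
  have hσx : σ (x : F) ≠ 0 := (map_ne_zero σ).mpr hx0
  have hτ : τ w0 ≠ 0 := (map_ne_zero τ).mpr hw0
  have hτw : ∀ v, e / τ w0 * τ (w * v) = x * σ x * (e * τ v) := by
    intro v
    rw [← hw, map_mul, map_mul, map_mul, I.l, I.τ_sq]
    field_simp
  have k1 : ∀ t, S.o 1 t = hx x * S.o 1 ((x : F)⁻¹ * t) * (hx x)⁻¹ := by
    intro t; rw [Hh.o1, mul_inv_cancel_left₀ hx0]
  have k6 : ∀ t, S.o 6 t = hx x * S.o 6 ((x : F)⁻¹ * t) * (hx x)⁻¹ := by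
    intro t; rw [Hh.o6, mul_inv_cancel_left₀ hx0]
  have hxx : (x : F) * σ x ≠ 0 := mul_ne_zero hx0 hσx
  have k0 : ∀ t, S.o 0 t = hx x * S.o 0 (((x : F) * σ x)⁻¹ * t) * (hx x)⁻¹ := by
    intro t; rw [Hh.o0, mul_inv_cancel_left₀ hxx]
  have k7 : ∀ t, S.o 7 t = hx x * S.o 7 (((x : F) * σ x)⁻¹ * t) * (hx x)⁻¹ := by
    intro t; rw [Hh.o7, mul_inv_cancel_left₀ hxx]
  have l1 : ∀ p u, S.e 1 p u = hx x * S.e 1 ((x : F)⁻¹ * p) (((x : F) * σ x)⁻¹ * u) * (hx x)⁻¹ := by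
    intro p u; rw [Hh.e1, mul_inv_cancel_left₀ hx0, mul_inv_cancel_left₀ hxx]
  have l7 : ∀ p u, S.e 7 p u = hx x * S.e 7 ((x : F)⁻¹ * p) (((x : F) * σ x)⁻¹ * u) * (hx x)⁻¹ := by
    intro p u; rw [Hh.e7, mul_inv_cancel_left₀ hx0, mul_inv_cancel_left₀ hxx]
  have hx2 : σ (x : F) * (x * x) ≠ 0 := mul_ne_zero hσx (mul_ne_zero hx0 hx0)
  have l0 : ∀ p u, S.e 0 p u = hx x * S.e 0 ((σ (x : F))⁻¹ * p) ((σ (x : F) * (x * x))⁻¹ * u) * (hx x)⁻¹ := by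
    intro p u; rw [Hh.e0, mul_inv_cancel_left₀ hσx, mul_inv_cancel_left₀ hx2]
  refine ⟨fun u => ?_, fun t => ?_, fun t => ?_, fun t => ?_, fun t => ?_, fun p u => ?_, fun p u => ?_, fun v => ?_,
    fun v => ?_, fun p u => ?_, fun r hr => ?_⟩
  · rw [l0, mul_zero]; exact commute_conj _ (N.z0 _)
  · rw [k0]; exact commute_conj _ (N.o0 _)
  · rw [k7]; exact commute_conj _ (N.o7 _)
  · rw [k1]; exact commute_conj _ (N.o1 _)
  · rw [k6]; exact commute_conj _ (N.o6 _)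
  · rw [l1]; exact commute_conj _ (N.e1 _ _)
  · rw [l7]; exact commute_conj _ (N.e7 _ _)
  · rw [hτw]
    have : S.e 2 0 v = hx x * S.e 2 0 v * (hx x)⁻¹ := (Hh.e2 x 0 v).symm
    rw [this, dlt_conj', N.z2, Hh.e1, mul_zero]
  · rw [hτw]
    have : S.e 6 0 v = hx x * S.e 6 0 v * (hx x)⁻¹ := (Hh.e6 x 0 v).symm
    rw [this, dlt_conj', N.z6, Hh.e7, mul_zero]
  · rw [hτw, l0, dlt_conj', N.ee, Hh.e0, mul_zero]
    congr 1
    rw [map_mul, map_inv₀, I.l]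
    field_simp
  · have h1 := hA r hr x
    have h2 : r⁻¹ * hx x = hx x * r⁻¹ := h1.inv_left.eq
    have h3 : (hx x)⁻¹ * r = r * (hx x)⁻¹ := h1.inv_right.eq.symm
    calc r⁻¹ * (hx x * n * (hx x)⁻¹) * r = (r⁻¹ * hx x) * n * ((hx x)⁻¹ * r) := by group
      _ = hx x * (r⁻¹ * n * r) * (hx x)⁻¹ := by rw [h2, h3]; group
      _ = hx x * n * (hx x)⁻¹ * (hx x * S.e 0 0 (μ r * w0) * (hx x)⁻¹) := by rw [act r hr]; group
      _ = _ := by
        rw [Hh.e0, mul_zero, ← hw]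
        congr 2
        ring

/-! ### rotation -/

theorem rotn_o (S : Sys σ G) (n : ℕ) : ∀ (a : ZMod 8) (t : F), S.rot ^ n * S.o a t * (S.rot ^ n)⁻¹ = S.o (a + n) t := by
  induction n with
  | zero => intro a t; simp
  | succ n ih =>
    intro a t
    have : S.rot ^ (n + 1) * S.o a t * (S.rot ^ (n + 1))⁻¹ = S.rot ^ n * (S.rot * S.o a t * S.rot⁻¹) * (S.rot ^ n)⁻¹ := by
      rw [pow_succ]; group
    rw [this, S.rot_o, ih]
    congr 1
    push_cast; ring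

theorem rotn_e (S : Sys σ G) (n : ℕ) : ∀ (a : ZMod 8) (p u : F), S.rot ^ n * S.e a p u * (S.rot ^ n)⁻¹ = S.e (a + n) p u := by
  induction n with
  | zero => intro a p u; simp
  | succ n ih =>
    intro a p u
    have : S.rot ^ (n + 1) * S.e a p u * (S.rot ^ (n + 1))⁻¹ =
        S.rot ^ n * (S.rot * S.e a p u * S.rot⁻¹) * (S.rot ^ n)⁻¹ := by
      rw [pow_succ]; group
    rw [this, S.rot_e, ih]
    congr 1
    push_cast; ring

/-- rotation by `a` -/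
def rp (S : Sys σ G) (a : ZMod 8) : G := S.rot ^ a.val

theorem rp_o (S : Sys σ G) (a b c : ZMod 8) (h : b + a = c) (t : F) : rp S a * S.o b t * (rp S a)⁻¹ = S.o c t := by
  unfold rp
  rw [rotn_o, ZMod.natCast_zmod_val, h]

theorem rp_e (S : Sys σ G) (a b c : ZMod 8) (h : b + a = c) (p u : F) : rp S a * S.e b p u * (rp S a)⁻¹ = S.e c p u := by
  unfold rp
  rw [rotn_e, ZMod.natCast_zmod_val, h]

/-- **the family** -/
theorem fam_of_base {S : Sys σ G} {A : Subgroup G} {μ : G → F} {e0 : F} {m : F → G}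
    (hm : ∀ w, Bs S A μ τ e0 w (m w)) (hAo : ∀ r ∈ A, ∀ a t, Commute r (S.o a t))
    (hAe : ∀ r ∈ A, ∀ a p u, Commute r (S.e a p u)) (hAr : ∀ r ∈ A, Commute r S.rot) :
    Fam S A μ τ e0 (fun a w => rp S a * m w * (rp S a)⁻¹) where
  A_o := hAo
  A_e := hAe
  act a w r hr := by
    have h1 : Commute r (rp S a) := (hAr r hr).pow_right _
    have h2 : r⁻¹ * rp S a = rp S a * r⁻¹ := h1.inv_left.eq
    have h3 : (rp S a)⁻¹ * r = r * (rp S a)⁻¹ := h1.inv_right.eq.symm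
    calc r⁻¹ * (rp S a * m w * (rp S a)⁻¹) * r = (r⁻¹ * rp S a) * m w * ((rp S a)⁻¹ * r) := by group
      _ = rp S a * (r⁻¹ * m w * r) * (rp S a)⁻¹ := by rw [h2, h3]; group
      _ = rp S a * m w * (rp S a)⁻¹ * (rp S a * S.e 0 0 (μ r * w) * (rp S a)⁻¹) := by rw [(hm w).act r hr]; group
      _ = _ := by rw [rp_e S a 0 a (zero_add a)]
  c_z a w u := by
    rw [← rp_e S a 0 a (zero_add a)]; exact commute_conj _ ((hm w).z0 u)
  c_o a w t := by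
    rw [← rp_o S a 0 a (zero_add a)]; exact commute_conj _ ((hm w).o0 t)
  c_om a w t := by
    rw [← rp_o S (a + 1) 7 a (by revert a; decide)]; exact commute_conj _ ((hm w).o7 t)
  c_op a w t := by
    rw [← rp_o S a 1 (a + 1) (add_comm 1 a)]; exact commute_conj _ ((hm w).o1 t)
  c_omm a w t := by
    rw [← rp_o S (a + 2) 6 a (by revert a; decide)]; exact commute_conj _ ((hm w).o6 t)
  c_ep a w p u := by
    rw [← rp_e S a 1 (a + 1) (add_comm 1 a)]; exact commute_conj _ ((hm w).e1 p u)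
  c_em a w p u := by
    rw [← rp_e S (a + 1) 7 a (by revert a; decide)]; exact commute_conj _ ((hm w).e7 p u)
  zp a w v := by
    rw [Norm.conj_eq]
    congr 1
    rw [← rp_e S a 2 (a + 2) (add_comm 2 a), dlt_conj', (hm w).z2, rp_e S a 1 (a + 1) (add_comm 1 a)]
  zm a w v := by
    rw [Norm.conj_eq]
    congr 1
    rw [← rp_e S (a + 2) 6 a (by revert a; decide), dlt_conj', (hm w).z6,
      rp_e S (a + 2) 7 (a + 1) (by revert a; decide)]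
  ee a w p u := by
    rw [Norm.conj_eq]
    congr 1
    rw [← rp_e S a 0 a (zero_add a), dlt_conj', (hm w).ee, rp_e S a 0 a (zero_add a)]

/-- **the family, from one element** -/
theorem exists_fam {S : Sys σ G} {A : Subgroup G} {μ : G → F} {dl hx : Fˣ → G} {n : G} {w0 : F} (N : Nn S dl n)
    (D : Dl S dl) (I : Inv σ τ) (hU : Uniq S) (Hh : Hx S hx) (hA : ∀ r ∈ A, ∀ x, Commute r (hx x)) (hw0 : w0 ≠ 0)
    (act : ∀ r ∈ A, r⁻¹ * n * r = n * S.e 0 0 (μ r * w0)) (hAo : ∀ r ∈ A, ∀ a t, Commute r (S.o a t))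
    (hAe : ∀ r ∈ A, ∀ a p u, Commute r (S.e a p u)) (hAr : ∀ r ∈ A, Commute r S.rot) :
    ∃ (e0 : F) (nn : ZMod 8 → F → G), Fam S A μ τ e0 nn := by
  obtain ⟨c, e, N'⟩ := N.norm_form D I hU
  have act' : ∀ r ∈ A, r⁻¹ * (S.e 0 c 0 * n) * r = S.e 0 c 0 * n * S.e 0 0 (μ r * w0) := by
    intro r hr
    have h1 : r⁻¹ * S.e 0 c 0 = S.e 0 c 0 * r⁻¹ := (hAe r hr 0 c 0).inv_left.eq
    calc r⁻¹ * (S.e 0 c 0 * n) * r = (r⁻¹ * S.e 0 c 0) * n * r := by group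
      _ = S.e 0 c 0 * (r⁻¹ * n * r) := by rw [h1]; group
      _ = _ := by rw [act r hr]; group
  have hm : ∀ w, ∃ m, Bs S A μ τ (e / τ w0) w m := by
    intro w
    by_cases hw : w = 0
    · rw [hw]; exact ⟨1, bs_zero S A μ τ _⟩
    · obtain ⟨x, hx1⟩ := exists_two I (div_ne_zero hw hw0)
      exact ⟨_, bs_conj N' I Hh hA hw0 act' x (by rw [hx1, div_mul_cancel₀ _ hw0])⟩
  choose m hm using hm
  exact ⟨_, _, fam_of_base hm hAo hAe hAr⟩

end Cfsg.Agent.OddHalf.D4.TwF.MkFam
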