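import Cfsg.Agent.OddHalf.D4.TwF.Mir

/-!
# ODD D4, `K = ²F₄(q)`: the elements commuting with `Q₂` and the torus of the Levi factor

`Nn S dl n`: `n` commutes with `Q₂` and with the torus `dl`, and `[n, x] ∈ Q₂` for the root elements `x` of `H`.
`norm_form`: for some `c` the element `n' = e₀(c, 0) n` commutes with `o₁, o₆, E₁, E₇`, and there is `e` with
`n' z₂(v) n'⁻¹ = z₂(v) z₁(e τ v)`, `n' z₆(v) n'⁻¹ = z₆(v) z₇(e τ v)`, `n' e₀(p, u) n'⁻¹ = e₀(p, u) z₀(e τ p)`.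
-/

set_option autoImplicit false
set_option linter.unusedSectionVars false

namespace Cfsg.Agent.OddHalf.D4.TwF.Norm

open Cfsg.Agent.KFacts.TwF4 Cfsg.Agent.OddHalf.D4.TwF.Field Cfsg.Agent.OddHalf.D4.TwF.End
open Cfsg.Agent.OddHalf.D4.TwF.QTwo Cfsg.Agent.OddHalf.D4.TwF.Mir

/-! ### the defect `x⁻¹ xⁿ` -/

section dlt

variable {G : Type*} [Group G]

/-- `x⁻¹ (n x n⁻¹)` -/
def dlt (n x : G) : G := x⁻¹ * (n * x * n⁻¹)

theorem conj_eq (n x : G) : n * x * n⁻¹ = x * dlt n x := by unfold dlt; group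

theorem dlt_eq_one {n x : G} (h : Commute n x) : dlt n x = 1 := by
  unfold dlt; rw [h.eq]; group

theorem comm_of_dlt {n x : G} (h : dlt n x = 1) : Commute n x := by
  have h1 := conj_eq n x
  rw [h, mul_one] at h1
  show n * x = x * n
  calc n * x = (n * x * n⁻¹) * n := by group
    _ = x * n := by rw [h1]

theorem dlt_mul (n x y : G) : dlt n (x * y) = y⁻¹ * dlt n x * y * dlt n y := by unfold dlt; group

theorem dlt_left (m n x : G) : dlt (m * n) x = dlt m x * (m * dlt n x * m⁻¹) := by unfold dlt; group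

theorem dlt_conj {n d : G} (h : Commute n d) (x : G) : dlt n (d * x * d⁻¹) = d * dlt n x * d⁻¹ := by
  unfold dlt
  have h1 : d⁻¹ * n⁻¹ = n⁻¹ * d⁻¹ := h.symm.inv_inv.eq
  calc (d * x * d⁻¹)⁻¹ * (n * (d * x * d⁻¹) * n⁻¹) = d * x⁻¹ * d⁻¹ * ((n * d) * x * (d⁻¹ * n⁻¹)) := by group
    _ = d * x⁻¹ * d⁻¹ * ((d * n) * x * (n⁻¹ * d⁻¹)) := by rw [h.eq, h1]
    _ = _ := by group

theorem dlt_of {m x w : G} (h : m * x = x * m * w) (hw : Commute m w) : dlt m x = w := by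
  unfold dlt
  rw [h]
  calc x⁻¹ * (x * m * w * m⁻¹) = (m * w) * m⁻¹ := by group
    _ = w := by rw [hw.eq]; group

theorem dlt_of' {m x w : G} (h : x * m = m * x * w) (hw : Commute m w) : dlt m x = w⁻¹ := by
  apply dlt_of _ hw.inv_right
  rw [h]; group

end dlt

/-! ### fields -/

section field

variable {F : Type*} [Field F] [CharP F 2] {σ τ : F →+* F}

theorem exists_one (I : Inv σ τ) {y : F} (hy : y ≠ 0) : ∃ d : Fˣ, (d : F) * σ d = y := by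
  have hσ : σ y ≠ 0 := (map_ne_zero σ).mpr hy
  refine ⟨Units.mk0 (σ y / y) (div_ne_zero hσ hy), ?_⟩
  show σ y / y * σ (σ y / y) = y
  rw [map_div₀, I.sq]
  field_simp

theorem exists_two (I : Inv σ τ) {y : F} (hy : y ≠ 0) : ∃ d : Fˣ, σ (d : F) * (d * d) = y := by
  have hτ : τ y ≠ 0 := (map_ne_zero τ).mpr hy
  refine ⟨Units.mk0 (y / τ y) (div_ne_zero hy hτ), ?_⟩
  show σ (y / τ y) * (y / τ y * (y / τ y)) = y
  rw [map_div₀, I.r]
  have h1 : τ y * τ y = σ y := by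
    rw [← map_mul, I.τ_sq]
  have hσ : σ y ≠ 0 := (map_ne_zero σ).mpr hy
  have h2 : y / τ y * (y / τ y) = y * y / σ y := by
    rw [div_mul_div_comm, h1]
  rw [h2]
  field_simp

/-- there is `x ≠ 0, 1` and it is not fixed -/
theorem exists_mov (I : Inv σ τ) : ∃ x : F, x ≠ 0 ∧ x ≠ 1 ∧ σ x ≠ x := by
  obtain ⟨x, h0, h1⟩ := I.big
  refine ⟨x, h0, h1, fun h => ?_⟩
  rcases fix I.sq h with h2 | h2
  · exact h0 h2
  · exact h1 h2

theorem zero_of_add {ψ : F → F} (hadd : ∀ x y, ψ (x + y) = ψ x + ψ y) : ψ 0 = 0 := by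
  have := hadd 0 0
  rw [add_zero] at this
  exact left_eq_add.mp this

theorem weight_inv_one (I : Inv σ τ) {ψ : F → F} (hadd : ∀ x y, ψ (x + y) = ψ x + ψ y)
    (h : ∀ (d : Fˣ) x, ψ (d * σ d * x) = ψ x) (x : F) : ψ x = 0 := by
  refine zero_of_inv I hadd (fun x y hx hy => ?_) x
  obtain ⟨d, hd⟩ := exists_one I (div_ne_zero hy hx)
  have h1 := h d x
  rw [hd, div_mul_cancel₀ _ hx] at h1
  exact h1.symm

theorem weight_inv_zero (I : Inv σ τ) {ψ : F → F} (hadd : ∀ x y, ψ (x + y) = ψ x + ψ y)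
    (h : ∀ (d : Fˣ) x, ψ (d * x) = ψ x) (x : F) : ψ x = 0 := by
  refine zero_of_inv I hadd (fun x y hx hy => ?_) x
  have h1 := h (Units.mk0 (y / x) (div_ne_zero hy hx)) x
  rw [Units.val_mk0, div_mul_cancel₀ _ hx] at h1
  exact h1.symm

theorem weight_inv_two (I : Inv σ τ) {ψ : F → F} (hadd : ∀ x y, ψ (x + y) = ψ x + ψ y)
    (h : ∀ (d : Fˣ) x, ψ (σ d * (d * d) * x) = ψ x) (x : F) : ψ x = 0 := by
  refine zero_of_inv I hadd (fun x y hx hy => ?_) x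
  obtain ⟨d, hd⟩ := exists_two I (div_ne_zero hy hx)
  have h1 := h d x
  rw [hd, div_mul_cancel₀ _ hx] at h1
  exact h1.symm

theorem weight_lin (I : Inv σ τ) {ψ : F → F} (hadd : ∀ x y, ψ (x + y) = ψ x + ψ y)
    (h : ∀ (d : Fˣ) x, ψ (d * σ d * x) = d * σ d * ψ x) (x : F) : ψ x = ψ 1 * x := by
  by_cases hx : x = 0
  · rw [hx, mul_zero, zero_of_add hadd]
  obtain ⟨d, hd⟩ := exists_one I hx
  have h1 := h d 1
  rw [hd, mul_one] at h1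
  rw [h1, mul_comm]

theorem weight_zero_one (I : Inv σ τ) {ψ : F → F} (hadd : ∀ x y, ψ (x + y) = ψ x + ψ y)
    (h : ∀ (d : Fˣ) x, ψ (d * x) = d * σ d * ψ x) (x : F) : ψ x = 0 := by
  have h1 : ∀ y : F, y ≠ 0 → ψ y = y * σ y * ψ 1 := by
    intro y hy
    have := h (Units.mk0 y hy) 1
    rwa [Units.val_mk0, mul_one] at this
  obtain ⟨d, hd0, hd1, hd⟩ := exists_mov I
  have h2 : d + 1 ≠ 0 := fun h => hd1 (eq_of_add h)
  have h3 := hadd d 1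
  rw [h1 _ h2, h1 _ hd0, map_add, map_one] at h3
  have h4 : (d + σ d) * ψ 1 = 0 := by
    have h5 : (d + σ d) * ψ 1 + (d * σ d * ψ 1 + ψ 1) = d * σ d * ψ 1 + ψ 1 := by
      calc (d + σ d) * ψ 1 + (d * σ d * ψ 1 + ψ 1) = (d + 1) * (σ d + 1) * ψ 1 := by ring
        _ = _ := h3
    exact add_eq_right.mp h5
  have h6 : ψ 1 = 0 := by
    rcases mul_eq_zero.mp h4 with h7 | h7
    · exact absurd (eq_of_add h7).symm hd
    · exact h7
  by_cases hx : x = 0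
  · rw [hx, zero_of_add hadd]
  rw [h1 x hx, h6, mul_zero]

theorem weight_zero_two (I : Inv σ τ) {ψ : F → F} (hadd : ∀ x y, ψ (x + y) = ψ x + ψ y)
    (h : ∀ (d : Fˣ) x, ψ (σ d * (d * d) * x) = d * ψ x) (x : F) : ψ x = 0 := by
  have hτ : ∀ y : F, y ≠ 0 → τ y ≠ 0 := fun y hy => (map_ne_zero τ).mpr hy
  have h1 : ∀ y : F, y ≠ 0 → τ y * ψ y = y * ψ 1 := by
    intro y hy
    obtain ⟨d, hd⟩ := exists_two I hy
    have h2 := h d 1
    rw [hd, mul_one] at h2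
    have h3 : τ y = σ d * d := by
      rw [← hd, map_mul, I.l, I.τ_sq]; ring
    rw [h2, h3, ← hd]; ring
  obtain ⟨d, hd0, hd1, hd⟩ := exists_mov I
  have h2 : d + 1 ≠ 0 := fun h => hd1 (eq_of_add h)
  have h3 := h1 _ h2
  have h4 := h1 _ hd0
  rw [hadd, map_add, map_one] at h3
  -- multiply by `τ d`
  have h5 : (d + σ d) * ψ 1 = 0 := by
    have e1 : τ d * τ d = σ d := by rw [← map_mul, I.τ_sq]
    have e2 : τ d * ((τ d + 1) * (ψ d + ψ 1)) = τ d * ((d + 1) * ψ 1) := by rw [h3]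
    have e3 : τ d * ((τ d + 1) * (ψ d + ψ 1)) = (τ d + 1) * (τ d * ψ d) + τ d * τ d * ψ 1 + τ d * ψ 1 := by ring
    rw [e3, h4, e1] at e2
    have e4 : (d + σ d) * ψ 1 + (τ d * (d + 1) * ψ 1) = τ d * (d + 1) * ψ 1 := by
      calc (d + σ d) * ψ 1 + (τ d * (d + 1) * ψ 1) = (τ d + 1) * (d * ψ 1) + σ d * ψ 1 + τ d * ψ 1 := by ring
        _ = τ d * ((d + 1) * ψ 1) := e2
        _ = _ := by ring
    exact add_eq_right.mp e4
  have h6 : ψ 1 = 0 := by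
    rcases mul_eq_zero.mp h5 with h7 | h7
    · exact absurd (eq_of_add h7).symm hd
    · exact h7
  by_cases hx : x = 0
  · rw [hx, zero_of_add hadd]
  have h7 := h1 x hx
  rw [h6, mul_zero] at h7
  exact (mul_eq_zero.mp h7).resolve_left (hτ x hx)

theorem weight_tau (I : Inv σ τ) {ψ : F → F} (hadd : ∀ x y, ψ (x + y) = ψ x + ψ y)
    (h : ∀ (d : Fˣ) x, ψ (σ d * (d * d) * x) = d * σ d * ψ x) (x : F) : ψ x = ψ 1 * τ x := by
  by_cases hx : x = 0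
  · rw [hx, map_zero, mul_zero, zero_of_add hadd]
  obtain ⟨d, hd⟩ := exists_two I hx
  have h2 := h d 1
  rw [hd, mul_one] at h2
  have h3 : τ x = σ d * d := by
    rw [← hd, map_mul, I.l, I.τ_sq]; ring
  rw [h2, h3]; ring

end field

variable {F : Type*} [Field F] [CharP F 2] {σ τ : F →+* F} {G : Type*} [Group G]

/-! ### the torus of the Levi factor -/

/-- the action of the torus of the Levi factor -/
structure Dl (S : Sys σ G) (dl : Fˣ → G) : Prop where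
  e0 : ∀ d p u, dl d * S.e 0 p u * (dl d)⁻¹ = S.e 0 p u
  o0 : ∀ d t, dl d * S.o 0 t * (dl d)⁻¹ = S.o 0 (d * t)
  o7 : ∀ d t, dl d * S.o 7 t * (dl d)⁻¹ = S.o 7 ((d⁻¹ : Fˣ) * t)
  e1 : ∀ d p u, dl d * S.e 1 p u * (dl d)⁻¹ = S.e 1 (d * p) (d * σ d * u)
  e7 : ∀ d p u, dl d * S.e 7 p u * (dl d)⁻¹ = S.e 7 ((d⁻¹ : Fˣ) * p) ((d⁻¹ : Fˣ) * σ (d⁻¹ : Fˣ) * u)
  o1 : ∀ d t, dl d * S.o 1 t * (dl d)⁻¹ = S.o 1 (d * σ d * t)
  o6 : ∀ d t, dl d * S.o 6 t * (dl d)⁻¹ = S.o 6 ((d⁻¹ : Fˣ) * σ (d⁻¹ : Fˣ) * t)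
  z2 : ∀ d v, dl d * S.e 2 0 v * (dl d)⁻¹ = S.e 2 0 (σ d * (d * d) * v)
  z6 : ∀ d v, dl d * S.e 6 0 v * (dl d)⁻¹ = S.e 6 0 (σ (d⁻¹ : Fˣ) * ((d⁻¹ : Fˣ) * (d⁻¹ : Fˣ)) * v)

theorem Dl.mirror {S S' : Sys σ G} {dl : Fˣ → G} (D : Dl S dl) (M : Mirror S S') : Dl S' (fun d => dl d⁻¹) where
  e0 d p u := by rw [M.e0, D.e0]
  o0 d t := by rw [M.o0, M.o0, D.o7, inv_inv]
  o7 d t := by rw [M.o7, M.o7, D.o0]
  e1 d p u := by rw [M.e1, M.e1, D.e7, inv_inv]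
  e7 d p u := by rw [M.e7, M.e7, D.e1]
  o1 d t := by rw [M.o1, M.o1, D.o6, inv_inv]
  o6 d t := by rw [M.o6, M.o6, D.o1]
  z2 d v := by rw [M.e2, M.e2, D.z6, inv_inv]
  z6 d v := by rw [M.e6, M.e6, D.z2]

theorem Dl.q5 {S : Sys σ G} {dl : Fˣ → G} (D : Dl S dl) (d : Fˣ) (α β γ δ ε : F) :
    dl d * q5 S α β γ δ ε * (dl d)⁻¹ =
    q5 S ((d⁻¹ : Fˣ) * σ (d⁻¹ : Fˣ) * α) ((d⁻¹ : Fˣ) * β) γ (d * δ) (d * σ d * ε) := by
  have h1 : S.e 7 0 ((d⁻¹ : Fˣ) * σ (d⁻¹ : Fˣ) * α) = dl d * S.e 7 0 α * (dl d)⁻¹ := by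
    rw [D.e7, mul_zero]
  have h2 : S.e 1 0 (d * σ d * ε) = dl d * S.e 1 0 ε * (dl d)⁻¹ := by
    rw [D.e1, mul_zero]
  unfold QTwo.q5
  rw [h1, h2, ← D.o7, ← D.o0]
  conv_rhs => rw [← D.e0 d 0 γ]
  group

/-! ### the class of elements -/

/-- membership in `Q₂` -/
def InQ (S : Sys σ G) (x : G) : Prop := ∃ α β γ δ ε, x = q5 S α β γ δ ε

theorem InQ.one (S : Sys σ G) : InQ S 1 := ⟨0, 0, 0, 0, 0, (q5_zero S).symm⟩

theorem InQ.mul {S : Sys σ G} {x y : G} (hx : InQ S x) (hy : InQ S y) : InQ S (x * y) := by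
  obtain ⟨a, b, c, d, e, rfl⟩ := hx
  obtain ⟨a', b', c', d', e', rfl⟩ := hy
  exact ⟨_, _, _, _, _, q5_mul S _ _ _ _ _ _ _ _ _ _⟩

theorem InQ.mirror {S S' : Sys σ G} (M : Mirror S S') {x : G} (h : InQ S x) : InQ S' x := by
  obtain ⟨a, b, c, d, e, rfl⟩ := h
  exact ⟨e, d, c, b, a, (M.q5 e d c b a).symm⟩

/-- the elements `n` -/
structure Nn (S : Sys σ G) (dl : Fˣ → G) (n : G) : Prop where
  z7 : ∀ u, Commute n (S.e 7 0 u)
  o7 : ∀ t, Commute n (S.o 7 t)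
  z0 : ∀ u, Commute n (S.e 0 0 u)
  o0 : ∀ t, Commute n (S.o 0 t)
  z1 : ∀ u, Commute n (S.e 1 0 u)
  dl : ∀ d, Commute n (dl d)
  qo1 : ∀ s, InQ S (dlt n (S.o 1 s))
  qo6 : ∀ s, InQ S (dlt n (S.o 6 s))
  qe1 : ∀ p u, InQ S (dlt n (S.e 1 p u))
  qe7 : ∀ p u, InQ S (dlt n (S.e 7 p u))
  qe0 : ∀ p u, InQ S (dlt n (S.e 0 p u))
  qe2 : ∀ p u, InQ S (dlt n (S.e 2 p u))
  qe6 : ∀ p u, InQ S (dlt n (S.e 6 p u))

theorem Nn.mirror {S S' : Sys σ G} {dl : Fˣ → G} {n : G} (N : Nn S dl n) (M : Mirror S S') :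
    Nn S' (fun d => dl d⁻¹) n where
  z7 u := by rw [M.e7]; exact N.z1 u
  o7 t := by rw [M.o7]; exact N.o0 t
  z0 u := by rw [M.e0]; exact N.z0 u
  o0 t := by rw [M.o0]; exact N.o7 t
  z1 u := by rw [M.e1]; exact N.z7 u
  dl d := N.dl d⁻¹
  qo1 s := by rw [M.o1]; exact (N.qo6 s).mirror M
  qo6 s := by rw [M.o6]; exact (N.qo1 s).mirror M
  qe1 p u := by rw [M.e1]; exact (N.qe7 p u).mirror M
  qe7 p u := by rw [M.e7]; exact (N.qe1 p u).mirror M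
  qe0 p u := by rw [M.e0]; exact (N.qe0 p u).mirror M
  qe2 p u := by rw [M.e2]; exact (N.qe6 p u).mirror M
  qe6 p u := by rw [M.e6]; exact (N.qe2 p u).mirror M

namespace Nn

variable {S : Sys σ G} {dl : Fˣ → G} {n : G}

theorem q5 (N : Nn S dl n) (α β γ δ ε : F) : Commute n (q5 S α β γ δ ε) :=
  ((((N.z7 α).mul_right (N.o7 β)).mul_right (N.z0 γ)).mul_right (N.o0 δ)).mul_right (N.z1 ε)

/-- the relation `xy = yxw` read through the defects -/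
theorem rel {x y w : G} (h : x * y = y * x * w) : y⁻¹ * dlt n x * y * dlt n y =
    w⁻¹ * (x⁻¹ * dlt n y * x * dlt n x) * w * dlt n w := by
  rw [← dlt_mul, ← dlt_mul, ← dlt_mul, h]

/-- `n` on `o₁` -/
theorem o1 (N : Nn S dl n) (D : Dl S dl) (I : Inv σ τ) (hU : Uniq S) : ∃ c : F, ∀ s, dlt n (S.o 1 s) = S.e 1 0 (c * s) := by
  have h1 : ∀ s, ∃ γ ε, dlt n (S.o 1 s) = QTwo.q5 S 0 0 γ 0 ε := by
    intro s
    obtain ⟨α, β, γ, δ, ε, hk⟩ := N.qo1 s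
    have : α = 0 ∧ β = 0 ∧ δ = 0 := by
      apply fix_E2 S hU
      intro p u
      obtain ⟨a1, a2, a3, a4, a5, ha⟩ := N.qe2 p u
      have hc : S.e 2 p u * S.o 1 s = S.o 1 s * S.e 2 p u * 1 := by
        rw [mul_one]; exact (o_e1' S 1 s p u).symm
      have h := rel (n := n) hc
      rw [ha, hk, q5_o1, dlt_eq_one (Commute.one_right n), inv_one, one_mul, mul_one, mul_one, q5_mul] at h
      have h2 : (S.e 2 p u)⁻¹ * QTwo.q5 S α β γ δ ε * S.e 2 p u = QTwo.q5 S (a1 + α) (a2 + β) (a3 + a1 * s + γ) (a4 + δ)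
          (a5 + ε) * (QTwo.q5 S a1 a2 a3 a4 a5)⁻¹ := by
        rw [h]; group
      rw [q5_inv, q5_mul] at h2
      refine ⟨a1 * s, ?_⟩
      rw [h2, z0_eq, q5_mul]
      congr 1
      · rw [add_right_comm, add_self]; ring
      · rw [add_right_comm, add_self]; ring
      · have : a3 + a1 * s + γ + a3 = (a3 + a3) + (γ + a1 * s) := by ring
        rw [this, add_self, zero_add]
      · rw [add_right_comm, add_self]; ring
      · rw [add_right_comm, add_self]; ring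
    obtain ⟨rfl, rfl, rfl⟩ := this
    exact ⟨γ, ε, hk⟩
  choose γ ε h2 using h1
  have hadd : ∀ s s', γ (s + s') = γ s + γ s' ∧ ε (s + s') = ε s + ε s' := by
    intro s s'
    have h := dlt_mul n (S.o 1 s) (S.o 1 s')
    rw [S.o_add, h2, h2, h2, q5_o1, q5_mul] at h
    simp only [zero_mul, add_zero] at h
    obtain ⟨-, -, h3, -, h4⟩ := hU _ _ _ _ _ _ _ _ _ _ h
    exact ⟨h3, h4⟩
  have hw : ∀ (d : Fˣ) s, γ (d * σ d * s) = γ s ∧ ε (d * σ d * s) = d * σ d * ε s := by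
    intro d s
    have h := dlt_conj (N.dl d) (S.o 1 s)
    rw [D.o1, h2, h2, D.q5] at h
    simp only [mul_zero] at h
    obtain ⟨-, -, h3, -, h4⟩ := hU _ _ _ _ _ _ _ _ _ _ h
    exact ⟨h3, h4⟩
  have h3 := weight_inv_one I (fun x y => (hadd x y).1) (fun d x => (hw d x).1)
  have h4 := weight_lin I (fun x y => (hadd x y).2) (fun d x => (hw d x).2)
  refine ⟨ε 1, fun s => ?_⟩
  rw [h2, h3, z1_eq, h4]

theorem two_add (a b : F) : a + b + a = b := by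
  rw [add_right_comm, add_self, zero_add]

/-- from `y⁻¹ κ y · a = a · κ · z₀` -/
theorem mod_aux {α β γ δ ε a1 a2 a3 a4 a5 k : F} {y : G}
    (h : y⁻¹ * QTwo.q5 S α β γ δ ε * y * QTwo.q5 S a1 a2 a3 a4 a5 = QTwo.q5 S (a1 + α) (a2 + β) k (a4 + δ) (a5 + ε)) :
    ∃ k', y⁻¹ * QTwo.q5 S α β γ δ ε * y = QTwo.q5 S α β γ δ ε * S.e 0 0 k' := by
  have h2 : y⁻¹ * QTwo.q5 S α β γ δ ε * y = QTwo.q5 S (a1 + α) (a2 + β) k (a4 + δ) (a5 + ε) *
      (QTwo.q5 S a1 a2 a3 a4 a5)⁻¹ := by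
    rw [← h]; group
  rw [q5_inv, q5_mul, two_add, two_add, two_add, two_add] at h2
  refine ⟨γ + (k + a3), ?_⟩
  rw [h2, z0_eq, q5_mul]
  congr 1
  · ring
  · ring
  · rw [← add_assoc, add_self, zero_add]
  · ring
  · ring

/-- `n` on `E₁`, if `n` commutes with `o₁` -/
theorem e1 (N : Nn S dl n) (D : Dl S dl) (I : Inv σ τ) (hU : Uniq S) (h1 : ∀ s, Commute n (S.o 1 s)) (p u : F) :
    Commute n (S.e 1 p u) := by
  have h2 : ∀ p, ∃ γ ε, dlt n (S.e 1 p 0) = QTwo.q5 S 0 0 γ 0 ε := by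
    intro p
    obtain ⟨α, β, γ, δ, ε, hk⟩ := N.qe1 p 0
    have : α = 0 ∧ β = 0 ∧ δ = 0 := by
      apply fix_E2 S hU
      intro q v
      obtain ⟨a1, a2, a3, a4, a5, ha⟩ := N.qe2 q v
      have hc : S.e 1 p 0 * S.e 2 q v = S.e 2 q v * S.e 1 p 0 * S.o 1 (p * q) := S.e_e1 1 p 0 q v
      have h := rel (n := n) hc
      rw [ha, hk, dlt_eq_one (h1 _), mul_one, q5_e1, q5_mul, q5_o1] at h
      exact mod_aux h
    obtain ⟨rfl, rfl, rfl⟩ := this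
    exact ⟨γ, ε, hk⟩
  choose γ ε h3 using h2
  have hz : ∀ u, Commute n (S.e 1 0 u) := N.z1
  have hsplit : ∀ p u, S.e 1 p u = S.e 1 p 0 * S.e 1 0 u := by
    intro p u
    rw [S.e_mul, map_zero, mul_zero, add_zero, add_zero, zero_add]
  have hadd : ∀ s s', γ (s + s') = γ s + γ s' ∧ ε (s + s') = ε s + ε s' := by
    intro s s'
    have h := dlt_mul n (S.e 1 s 0) (S.e 1 s' 0)
    rw [S.e_mul, hsplit, dlt_mul, dlt_eq_one (hz _), mul_one, h3, h3, h3, q5_e1, q5_e1, q5_mul] at h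
    simp only [zero_mul, add_zero] at h
    obtain ⟨-, -, h4, -, h5⟩ := hU _ _ _ _ _ _ _ _ _ _ h
    exact ⟨h4, h5⟩
  have hw : ∀ (d : Fˣ) s, γ (d * s) = γ s ∧ ε (d * s) = d * σ d * ε s := by
    intro d s
    have h := dlt_conj (N.dl d) (S.e 1 s 0)
    rw [D.e1, mul_zero, h3, h3, D.q5] at h
    simp only [mul_zero] at h
    obtain ⟨-, -, h4, -, h5⟩ := hU _ _ _ _ _ _ _ _ _ _ h
    exact ⟨h4, h5⟩
  have h4 := weight_inv_zero I (fun x y => (hadd x y).1) (fun d x => (hw d x).1)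
  have h5 := weight_zero_one I (fun x y => (hadd x y).2) (fun d x => (hw d x).2)
  rw [hsplit]
  refine Commute.mul_right (comm_of_dlt ?_) (hz u)
  rw [h3, h4, h5, q5_zero]

/-! ### the key relation -/

/-- the element `[o₆(t), z₂(v)]` -/
def R (S : Sys σ G) (t v : F) : G := S.e 7 0 (t * σ t * v) * S.o 7 (t * σ t * σ v) *
  S.e 0 (σ t * v) (t * t * σ t * v * σ v) * S.o 0 (t * σ t * v * v) * S.e 1 (t * v) 0 * S.o 1 (t * σ v)

theorem R_rel (S : Sys σ G) (t v : F) : S.o 6 t * S.e 2 0 v = S.e 2 0 v * S.o 6 t * R S t v := by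
  have h := S.o_e4 6 t 0 v
  simp only [map_zero, zero_mul, mul_zero, add_zero, zero_add] at h
  have h' : S.o 6 t * S.e 2 0 v = S.e 2 0 v * S.o 6 t * S.e 7 0 (t * σ t * v) * S.o 7 (t * σ t * σ v) *
      S.e 0 (σ t * v) (t * t * σ t * v * σ v) * S.o 0 (t * σ t * v * v) * S.e 1 (t * v) 0 * S.o 1 (t * σ v) := h
  rw [h']
  unfold R
  simp only [mul_assoc]

/-- acting trivially on `Q₂ / Z₀` -/
def Tr (S : Sys σ G) (y : G) : Prop := ∀ α β γ δ ε, ∃ k, y⁻¹ * QTwo.q5 S α β γ δ ε * y = QTwo.q5 S α β k δ ε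

theorem Tr.mul {x y : G} (hx : Tr S x) (hy : Tr S y) : Tr S (x * y) := by
  intro α β γ δ ε
  obtain ⟨k, hk⟩ := hx α β γ δ ε
  obtain ⟨k', hk'⟩ := hy α β k δ ε
  refine ⟨k', ?_⟩
  rw [← hk', ← hk]; group

theorem Tr.of_comm {x : G} (hx : ∀ α β γ δ ε, Commute x (QTwo.q5 S α β γ δ ε)) : Tr S x := by
  intro α β γ δ ε
  exact ⟨γ, conj_comm (hx α β γ δ ε)⟩

theorem tr_q5 (S : Sys σ G) (a b c d e : F) : Tr S (QTwo.q5 S a b c d e) := Tr.of_comm fun _ _ _ _ _ => q5_comm S _ _ _ _ _ _ _ _ _ _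

theorem tr_R (S : Sys σ G) (t v : F) : Tr S (R S t v) := by
  unfold R
  refine ((((Tr.mul ?_ ?_).mul ?_).mul ?_).mul ?_).mul ?_
  · rw [z7_eq]; exact tr_q5 S _ _ _ _ _
  · rw [o7_eq]; exact tr_q5 S _ _ _ _ _
  · exact Tr.of_comm fun _ _ _ _ _ => q5_e0 S _ _ _ _ _ _ _
  · rw [o0_eq]; exact tr_q5 S _ _ _ _ _
  · exact fun _ _ _ _ _ => ⟨_, q5_e1 S _ _ _ _ _ _ _⟩
  · exact fun _ _ _ _ _ => ⟨_, q5_o1 S _ _ _ _ _ _⟩

theorem q5_o6 (S : Sys σ G) (α β γ δ ε t : F) : (S.o 6 t)⁻¹ * QTwo.q5 S α β γ δ ε * S.o 6 t = QTwo.q5 S α β (γ + ε * t) δ ε := by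
  obtain ⟨S', M⟩ := exists_mirror S
  rw [← M.o1, ← M.q5, q5_o1, M.q5]

/-- the defect of `R` -/
theorem dlt_R (N : Nn S dl n) (h1 : ∀ s, Commute n (S.o 1 s)) (he : ∀ p u, Commute n (S.e 1 p u)) {t v h1' h2' h3' h4' h5' : F}
    (hh : dlt n (S.e 0 (σ t * v) (t * t * σ t * v * σ v)) = QTwo.q5 S h1' h2' h3' h4' h5') :
    ∃ k, dlt n (R S t v) = QTwo.q5 S h1' h2' k h4' h5' := by
  have e1 : dlt n (R S t v) = (S.o 1 (t * σ v))⁻¹ * ((S.e 1 (t * v) 0)⁻¹ * ((S.o 0 (t * σ t * v * v))⁻¹ *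
      QTwo.q5 S h1' h2' h3' h4' h5' * S.o 0 (t * σ t * v * v)) * S.e 1 (t * v) 0) * S.o 1 (t * σ v) := by
    unfold R
    rw [dlt_mul, dlt_mul, dlt_mul, dlt_mul, dlt_mul, hh, dlt_eq_one (h1 _), dlt_eq_one (he _ _), dlt_eq_one (N.o0 _),
      dlt_eq_one (N.o7 _), dlt_eq_one (N.z7 _)]
    simp only [mul_one, inv_mul_cancel, one_mul]
  rw [e1, o0_eq, conj_comm (q5_comm S _ _ _ _ _ _ _ _ _ _), q5_e1, q5_o1]
  exact ⟨_, rfl⟩

theorem e0_split (S : Sys σ G) (p u : F) : S.e 0 p u = S.e 0 p 0 * S.e 0 0 u := by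
  rw [S.e_mul, map_zero, mul_zero, add_zero, add_zero, zero_add]

theorem dlt_e0 (N : Nn S dl n) (p u : F) : dlt n (S.e 0 p u) = dlt n (S.e 0 p 0) := by
  obtain ⟨a, b, c, d, e, hk⟩ := N.qe0 p 0
  rw [e0_split, dlt_mul, dlt_eq_one (N.z0 u), mul_one, hk]
  exact conj_comm (q5_e0 S _ _ _ _ _ _ _)

/-- **(e)** -/
theorem e0 (N : Nn S dl n) (I : Inv σ τ) (hU : Uniq S) (h1 : ∀ s, Commute n (S.o 1 s))
    (he : ∀ p u, Commute n (S.e 1 p u)) {c : F} (h6 : ∀ t, dlt n (S.o 6 t) = S.e 7 0 (c * t)) :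
    c = 0 ∧ ∀ p, ∃ h, ∀ u, dlt n (S.e 0 p u) = S.e 0 0 h := by
  have key : ∀ t v, ∃ h, dlt n (S.e 0 (σ t * v) 0) = QTwo.q5 S 0 0 h (c * t * v) (c * t * σ v) := by
    intro t v
    obtain ⟨b1, b2, b3, b4, b5, hb⟩ := N.qe0 (σ t * v) (t * t * σ t * v * σ v)
    obtain ⟨k1, k2, k3, k4, k5, hk⟩ := N.qe2 0 v
    obtain ⟨m, hm⟩ := N.dlt_R h1 he hb
    have h := rel (n := n) (R_rel S t v)
    rw [hm, hk, h6, z7_eq, q5_z2, q5_mul, q5_o6, q5_mul] at h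
    obtain ⟨m', hm'⟩ := tr_R S t v (k1 + c * t) (k2 + 0) (k3 + k5 * t + 0) (k4 + 0) (k5 + 0)
    rw [hm', q5_mul] at h
    obtain ⟨e1, e2, -, e4, e5⟩ := hU _ _ _ _ _ _ _ _ _ _ h
    have f1 : b1 = 0 := by
      have : b1 = (k1 + c * t + b1) + (c * t + k1) := by
        rw [add_comm (c * t) k1]; rw [two_add]
      rw [this, ← e1, add_self]
    have f2 : b2 = 0 := by
      have : b2 = (k2 + 0 + b2) + k2 := by rw [add_zero, two_add]
      rw [this, ← e2, zero_add, add_self]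
    have f4 : b4 = c * t * v := by
      have : b4 = (k4 + 0 + b4) + k4 := by rw [add_zero, two_add]
      rw [this, ← e4, zero_add, add_assoc, add_self, add_zero]
    have f5 : b5 = c * t * σ v := by
      have : b5 = (k5 + 0 + b5) + k5 := by rw [add_zero, two_add]
      rw [this, ← e5]
      have : 0 + 0 * v + c * t * σ v + k5 + k5 = c * t * σ v + (k5 + k5) := by ring
      rw [this, add_self, add_zero]
    rw [f1, f2, f4, f5, N.dlt_e0] at hb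
    exact ⟨_, hb⟩
  have hc : c = 0 := by
    obtain ⟨l, hl0, hl1, hl⟩ := exists_mov I
    have hσl : σ l ≠ 0 := (map_ne_zero σ).mpr hl0
    obtain ⟨h, hh⟩ := key 1 1
    obtain ⟨h', hh'⟩ := key l (σ l)⁻¹
    rw [mul_inv_cancel₀ hσl] at hh'
    rw [map_one, mul_one] at hh
    rw [hh] at hh'
    obtain ⟨-, -, -, e4, -⟩ := hU _ _ _ _ _ _ _ _ _ _ hh'
    rw [mul_one] at e4
    have e5 : c * (σ l + l) = 0 := by
      have : c * σ l = c * l := by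
        calc c * σ l = (c * 1) * σ l := by ring
          _ = (c * l * (σ l)⁻¹) * σ l := by rw [e4]
          _ = c * l := by rw [mul_assoc, inv_mul_cancel₀ hσl, mul_one]
      rw [mul_add, this, add_self]
    rcases mul_eq_zero.mp e5 with h7 | h7
    · exact h7
    · exact absurd (eq_of_add h7) hl
  refine ⟨hc, fun p => ?_⟩
  obtain ⟨h, hh⟩ := key 1 p
  rw [map_one, one_mul, hc, zero_mul, zero_mul, zero_mul] at hh
  refine ⟨h, fun u => ?_⟩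
  rw [N.dlt_e0, hh, z0_eq]

/-- **(f)** -/
theorem z2 (N : Nn S dl n) (D : Dl S dl) (I : Inv σ τ) (hU : Uniq S) (h1 : ∀ s, Commute n (S.o 1 s))
    (he : ∀ p u, Commute n (S.e 1 p u)) : ∃ e : F, ∀ v, dlt n (S.e 2 0 v) = S.e 1 0 (e * τ v) := by
  have h2 : ∀ v, ∃ γ δ ε, dlt n (S.e 2 0 v) = QTwo.q5 S 0 0 γ δ ε := by
    intro v
    obtain ⟨α, β, γ, δ, ε, hk⟩ := N.qe2 0 v
    have hα : α = 0 := by
      have hc : S.e 2 0 v * S.o 1 1 = S.o 1 1 * S.e 2 0 v * 1 := by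
        rw [mul_one]; exact (o_e1' S 1 1 0 v).symm
      have h := rel (n := n) hc
      rw [hk, dlt_eq_one (h1 _), dlt_eq_one (Commute.one_right n), q5_o1] at h
      simp only [mul_one, inv_mul_cancel, one_mul, inv_one] at h
      obtain ⟨-, -, e3, -, -⟩ := hU _ _ _ _ _ _ _ _ _ _ h
      exact add_eq_left.mp e3
    have hβ : β = 0 := by
      have hc : S.e 2 0 v * S.e 1 1 0 = S.e 1 1 0 * S.e 2 0 v * 1 := by
        rw [mul_one]; exact (e_z1 S 1 1 0 v).symm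
      have h := rel (n := n) hc
      rw [hk, dlt_eq_one (he _ _), dlt_eq_one (Commute.one_right n), q5_e1] at h
      simp only [mul_one, inv_mul_cancel, one_mul, inv_one] at h
      obtain ⟨-, -, e3, -, -⟩ := hU _ _ _ _ _ _ _ _ _ _ h
      exact add_eq_left.mp e3
    subst hα hβ
    exact ⟨γ, δ, ε, hk⟩
  choose γ δ ε h3 using h2
  have hadd : ∀ s s', γ (s + s') = γ s + γ s' ∧ δ (s + s') = δ s + δ s' ∧ ε (s + s') = ε s + ε s' := by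
    intro s s'
    have h := dlt_mul n (S.e 2 0 s) (S.e 2 0 s')
    rw [z_mul, h3, h3, h3, q5_z2, q5_mul] at h
    simp only [map_zero, zero_mul, add_zero] at h
    obtain ⟨-, -, h4, h5, h6⟩ := hU _ _ _ _ _ _ _ _ _ _ h
    exact ⟨h4, h5, h6⟩
  have hw : ∀ (d : Fˣ) s, γ (σ d * (d * d) * s) = γ s ∧ δ (σ d * (d * d) * s) = d * δ s ∧
      ε (σ d * (d * d) * s) = d * σ d * ε s := by
    intro d s
    have h := dlt_conj (N.dl d) (S.e 2 0 s)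
    rw [D.z2, h3, h3, D.q5] at h
    obtain ⟨-, -, h4, h5, h6⟩ := hU _ _ _ _ _ _ _ _ _ _ h
    exact ⟨h4, h5, h6⟩
  have h4 := weight_inv_two I (fun x y => (hadd x y).1) (fun d x => (hw d x).1)
  have h5 := weight_zero_two I (fun x y => (hadd x y).2.1) (fun d x => (hw d x).2.1)
  have h6 := weight_tau I (fun x y => (hadd x y).2.2) (fun d x => (hw d x).2.2)
  refine ⟨ε 1, fun v => ?_⟩
  rw [h3, h4, h5, h6, z1_eq]

/-- **(g)** -/
theorem e0' (N : Nn S dl n) (h1 : ∀ s, Commute n (S.o 1 s))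
    (h6 : ∀ s, Commute n (S.o 6 s)) (he : ∀ p u, Commute n (S.e 1 p u)) {e : F}
    (h2 : ∀ v, dlt n (S.e 2 0 v) = S.e 1 0 (e * τ v))
    (h0 : ∀ p, ∃ h, ∀ u, dlt n (S.e 0 p u) = S.e 0 0 h) (p u : F) : dlt n (S.e 0 p u) = S.e 0 0 (e * τ p) := by
  obtain ⟨b, hb⟩ := h0 p
  rw [hb]
  have h := rel (n := n) (R_rel S 1 p)
  have hR1 : Commute (R S 1 p) (S.e 1 0 (e * τ p)) := by
    unfold R
    exact (((((c7z1 S _ _).mul_left (co7z1 S _ _)).mul_left (e_z1 S 0 _ _ _)).mul_left (co0z1 S _ _)).mul_left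
      (z_ee S 1 _ _ _).symm).mul_left (e_o0' S 1 _ _ _).symm
  have hR0 : Commute (R S 1 p) (S.e 0 0 (e * τ p)) := by
    unfold R
    exact (((((c7z0 S _ _).mul_left (co7z0 S _ _)).mul_left (z_ee S 0 _ _ _).symm).mul_left (c0o0 S _ _).symm).mul_left
      (z_e1 S 0 _ _ _).symm).mul_left (z_o1 S 0 _ _).symm
  have hdR : dlt n (R S 1 p) = S.e 0 0 b := by
    have hb' : dlt n (S.e 0 (σ 1 * p) (1 * 1 * σ 1 * p * σ p)) = S.e 0 0 b := by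
      rw [map_one, one_mul, hb]
    unfold R
    rw [dlt_mul, dlt_mul, dlt_mul, dlt_mul, dlt_mul, hb', dlt_eq_one (h1 _), dlt_eq_one (he _ _), dlt_eq_one (N.o0 _),
      dlt_eq_one (N.o7 _), dlt_eq_one (N.z7 _)]
    simp only [mul_one, inv_mul_cancel, one_mul]
    have hy : (S.e 1 p 0)⁻¹ * S.e 0 0 b * S.e 1 p 0 = S.e 0 0 b := conj_comm (z_e1 S 0 b _ _).symm
    rw [conj_comm (c0o0 S b _).symm, hy]
    exact conj_comm (z_o1 S 0 b _).symm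
  have hx : (S.o 6 1)⁻¹ * S.e 1 0 (e * τ p) * S.o 6 1 = S.e 0 0 (e * τ p) * S.e 1 0 (e * τ p) := by
    rw [z1_eq, q5_o6, z0_eq, q5_mul]
    simp
  rw [hdR, h2, dlt_eq_one (h6 _), hx] at h
  simp only [mul_one, inv_mul_cancel, one_mul] at h
  rw [conj_comm (hR0.mul_right hR1)] at h
  have h7 : S.e 0 0 (e * τ p) * S.e 0 0 b = 1 := by
    have hc : Commute (S.e 1 0 (e * τ p)) (S.e 0 0 b) := (c0z1 S _ _).symm
    have h8 : S.e 1 0 (e * τ p) = S.e 0 0 (e * τ p) * S.e 0 0 b * S.e 1 0 (e * τ p) := by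
      calc S.e 1 0 (e * τ p) = S.e 0 0 (e * τ p) * S.e 1 0 (e * τ p) * S.e 0 0 b := h
        _ = _ := by rw [mul_assoc, hc.eq, mul_assoc]
    exact (mul_eq_right.mp h8.symm)
  rw [z_mul] at h7
  rw [← e_zero S 0] at h7
  have h8 := (S.injE 0 _ _ _ _ h7).2
  rw [eq_of_add h8]

end Nn

/-- the normal form of the elements `n` -/
structure Nf (S : Sys σ G) (τ : F →+* F) (e : F) (n : G) : Prop where
  z0 : ∀ u, Commute n (S.e 0 0 u)
  o0 : ∀ t, Commute n (S.o 0 t)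
  o7 : ∀ t, Commute n (S.o 7 t)
  o1 : ∀ t, Commute n (S.o 1 t)
  o6 : ∀ t, Commute n (S.o 6 t)
  e1 : ∀ p u, Commute n (S.e 1 p u)
  e7 : ∀ p u, Commute n (S.e 7 p u)
  z2 : ∀ v, dlt n (S.e 2 0 v) = S.e 1 0 (e * τ v)
  z6 : ∀ v, dlt n (S.e 6 0 v) = S.e 7 0 (e * τ v)
  ee : ∀ p u, dlt n (S.e 0 p u) = S.e 0 0 (e * τ p)

/-! ### the normalisation -/

section e0c

variable (S : Sys σ G) (c : F)

theorem d_o1 (s : F) : dlt (S.e 0 c 0) (S.o 1 s) = S.e 1 0 (c * s) :=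
  dlt_of (S.e_o1 0 c 0 s) (e_z1 S 0 c 0 _)

theorem d_o6 (s : F) : dlt (S.e 0 c 0) (S.o 6 s) = S.e 7 0 (s * c) := by
  have h : S.o 6 s * S.e 0 c 0 = S.e 0 c 0 * S.o 6 s * S.e 7 0 (s * c) := S.o_e2 6 s c 0
  rw [dlt_of' h (z_e1 S 7 _ c 0).symm, z_inv]

theorem d_e1 (q v : F) : dlt (S.e 0 c 0) (S.e 1 q v) = S.o 0 (c * q) :=
  dlt_of (S.e_e1 0 c 0 q v) (e_o0' S 0 c 0 _)

theorem d_e7 (q v : F) : dlt (S.e 0 c 0) (S.e 7 q v) = S.o 7 (q * c) := by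
  have h : S.e 7 q v * S.e 0 c 0 = S.e 0 c 0 * S.e 7 q v * S.o 7 (q * c) := S.e_e1 7 q v c 0
  rw [dlt_of' h (o_e1' S 7 _ c 0).symm, o_inv]

theorem d_e0 (q v : F) : dlt (S.e 0 c 0) (S.e 0 q v) = S.e 0 0 (c * σ q + q * σ c) := by
  refine dlt_of ?_ (z_ee S 0 _ c 0).symm
  rw [S.e_mul, S.e_mul, S.e_mul, map_zero, mul_zero, add_zero, add_zero, add_comm c q]
  congr 1
  have : (v + 0 + q * σ c) + (c * σ q + q * σ c) = v + c * σ q + (q * σ c + q * σ c) := by ring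
  rw [this, add_self, add_zero, zero_add]

theorem d_e2 (q v : F) : dlt (S.e 0 c 0) (S.e 2 q v) = 1 := dlt_eq_one (e_e2' S 0 c 0 q v)

theorem d_e6 (q v : F) : dlt (S.e 0 c 0) (S.e 6 q v) = 1 := dlt_eq_one (e_e2' S 6 q v c 0).symm

end e0c

theorem InQ.left {S : Sys σ G} {n x : G} {c : F} (h1 : InQ S (dlt (S.e 0 c 0) x)) (h2 : InQ S (dlt n x)) :
    InQ S (dlt (S.e 0 c 0 * n) x) := by
  rw [dlt_left]
  refine h1.mul ?_
  obtain ⟨a, b, c', d, e, hk⟩ := h2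
  refine ⟨a, b, c', d, e, ?_⟩
  rw [hk, (q5_e0 S a b c' d e c 0).eq, mul_assoc, mul_inv_cancel, mul_one]

theorem Nn.left {S : Sys σ G} {dl : Fˣ → G} {n : G} (N : Nn S dl n) (D : Dl S dl) (c : F) :
    Nn S dl (S.e 0 c 0 * n) where
  z7 u := (z_e1 S 7 u c 0).symm.mul_left (N.z7 u)
  o7 t := (o_e1' S 7 t c 0).symm.mul_left (N.o7 t)
  z0 u := (z_ee S 0 u c 0).symm.mul_left (N.z0 u)
  o0 t := (e_o0' S 0 c 0 t).mul_left (N.o0 t)
  z1 u := (e_z1 S 0 c 0 u).mul_left (N.z1 u)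
  dl d := by
    refine Commute.mul_left ?_ (N.dl d)
    have h := D.e0 d c 0
    show S.e 0 c 0 * dl d = dl d * S.e 0 c 0
    calc S.e 0 c 0 * dl d = (dl d * S.e 0 c 0 * (dl d)⁻¹) * dl d := by rw [h]
      _ = _ := by group
  qo1 s := InQ.left (by rw [d_o1, z1_eq]; exact ⟨_, _, _, _, _, rfl⟩) (N.qo1 s)
  qo6 s := InQ.left (by rw [d_o6, z7_eq]; exact ⟨_, _, _, _, _, rfl⟩) (N.qo6 s)
  qe1 p u := InQ.left (by rw [d_e1, o0_eq]; exact ⟨_, _, _, _, _, rfl⟩) (N.qe1 p u)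
  qe7 p u := InQ.left (by rw [d_e7, o7_eq]; exact ⟨_, _, _, _, _, rfl⟩) (N.qe7 p u)
  qe0 p u := InQ.left (by rw [d_e0, z0_eq]; exact ⟨_, _, _, _, _, rfl⟩) (N.qe0 p u)
  qe2 p u := InQ.left (by rw [d_e2]; exact InQ.one S) (N.qe2 p u)
  qe6 p u := InQ.left (by rw [d_e6]; exact InQ.one S) (N.qe6 p u)

/-- **the normal form** -/
theorem Nn.norm_form {S : Sys σ G} {dl : Fˣ → G} {n : G} (N : Nn S dl n) (D : Dl S dl) (I : Inv σ τ) (hU : Uniq S) :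
    ∃ c e : F, Nf S τ e (S.e 0 c 0 * n) := by
  obtain ⟨c, hc⟩ := N.o1 D I hU
  have N' := N.left D c
  have h1 : ∀ s, Commute (S.e 0 c 0 * n) (S.o 1 s) := by
    intro s
    apply comm_of_dlt
    have e1 : S.e 0 c 0 * S.e 1 0 (c * s) * (S.e 0 c 0)⁻¹ = S.e 1 0 (c * s) := by
      have e2 : S.e 0 c 0 * S.e 1 0 (c * s) = S.e 1 0 (c * s) * S.e 0 c 0 := e_z1 S 0 c 0 (c * s)
      rw [e2, mul_assoc, mul_inv_cancel, mul_one]
    rw [dlt_left, d_o1, hc, e1]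
    exact z_sq S 1 _
  obtain ⟨S', M⟩ := exists_mirror S
  have D' := D.mirror M
  have N'' := N'.mirror M
  have hU' := M.uniq hU
  have he := N'.e1 D I hU h1
  obtain ⟨c', hc'⟩ := N''.o1 D' I hU'
  have hc'' : ∀ t, dlt (S.e 0 c 0 * n) (S.o 6 t) = S.e 7 0 (c' * t) := by
    intro t
    have := hc' t
    rwa [M.o1, M.e1] at this
  obtain ⟨hc0, h0⟩ := N'.e0 I hU h1 he hc''
  have h6 : ∀ s, Commute (S.e 0 c 0 * n) (S.o 6 s) := by
    intro s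
    apply comm_of_dlt
    rw [hc'', hc0, zero_mul, e_zero]
  have h1' : ∀ s, Commute (S.e 0 c 0 * n) (S'.o 1 s) := fun s => by rw [M.o1]; exact h6 s
  have h6' : ∀ s, Commute (S.e 0 c 0 * n) (S'.o 6 s) := fun s => by rw [M.o6]; exact h1 s
  have he' := N''.e1 D' I hU' h1'
  obtain ⟨e, hz2⟩ := N'.z2 D I hU h1 he
  obtain ⟨e', hz2'⟩ := N''.z2 D' I hU' h1' he'
  have hee := N'.e0' h1 h6 he hz2 h0
  have h0' : ∀ p, ∃ h, ∀ u, dlt (S.e 0 c 0 * n) (S'.e 0 p u) = S'.e 0 0 h := by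
    intro p
    obtain ⟨h, hh⟩ := h0 p
    exact ⟨h, fun u => by rw [M.e0, M.e0]; exact hh u⟩
  have hee' := N''.e0' h1' h6' he' hz2' h0'
  have hE : e' = e := by
    have h2 := hee 1 0
    have h3 := hee' 1 0
    rw [M.e0, M.e0] at h3
    rw [h2] at h3
    have h4 := (S.injE 0 _ _ _ _ h3).2
    rw [map_one, mul_one, mul_one] at h4
    exact h4.symm
  refine ⟨c, e, N'.z0, N'.o0, N'.o7, h1, h6, he, fun p u => ?_, hz2, fun v => ?_, hee⟩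
  · have := he' p u
    rwa [M.e1] at this
  · have := hz2' v
    rw [M.e2, M.e1, hE] at this
    exact this

end Cfsg.Agent.OddHalf.D4.TwF.Norm
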