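import Cfsg.Agent.OddHalf.D4.Pair3
import Cfsg.Agent.OddHalf.D4.TwF.Kill

/-!
# ODD D4: full pairs when the centralizers of involutions of `K` are perfect

`XF X`: the facts on the simple group `X`; `SF K`: the same facts for a subgroup. `PP K L A W`: a full pair.
`PP.no_inv`: `K ∩ C(L)` contains no involution; `PP.cent_le`: for an involution `u = k a` of `W`, `k ∈ K`, `a ∈ A`:
`C_K(k) ≤ L`.
-/

set_option autoImplicit false
set_option linter.unusedSectionVars false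

namespace Cfsg.Agent.OddHalf.D4.TwF.Pair

open Subgroup Cfsg.Agent.OddHalf.D4 Cfsg.Agent.OddHalf.D4.Basic
open Cfsg.Agent.OddHalf.D4.CommConj (Tight cj mem_cj cj_mul card_cj mem_cj_mul)
open scoped commutatorElement

/-! ### the facts on the simple group -/

/-- the facts on `X` -/
structure XF (X : Type*) [Group X] : Prop where
  cen : ∀ x : X, (∀ y, x * y = y * x) → x = 1
  inner : ∀ (α : MulAut X) (n : ℕ), α ^ 2 ^ n = 1 → ∃ x, α = MulAut.conj x
  perf : ∀ w : X, w ≠ 1 → w * w = 1 → ⁅centralizer {w}, centralizer {w}⁆ = centralizer {w}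
  gen2 : ∀ w : X, w ≠ 1 → w * w = 1 → ∀ M : Subgroup X,
    (∀ x, x * w = w * x → (∃ n : ℕ, x ^ 2 ^ n = 1) → x ∈ M) → centralizer {w} ≤ M
  norm : ∀ w : X, w ≠ 1 → w * w = 1 → ∀ P ≤ centralizer {w},
    (∀ e ∈ centralizer {w}, ∀ x ∈ P, e * x * e⁻¹ ∈ P) → ⁅P, P⁆ = P → P = ⊥ ∨ P = centralizer {w}
  gen : ∀ N : Subgroup X, (∃ w ∈ N, w ≠ 1 ∧ w * w = 1) →
    (∀ w ∈ N, w ≠ 1 → w * w = 1 → centralizer {w} ≤ N) → N = ⊤
  zc : ∀ w : X, w ≠ 1 → w * w = 1 → ∀ x : X, (∀ e, e * w = w * e → e * x = x * e) → x * x = 1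

/-- the facts on the subgroup `K` -/
structure SF {G : Type*} [Group G] (K : Subgroup G) : Prop where
  cen : ∀ x ∈ K, x ∈ centralizer (K : Set G) → x = 1
  inner : ∀ y ∈ normalizer (K : Set G), (∃ n : ℕ, y ^ 2 ^ n = 1) → y ∈ K ⊔ centralizer (K : Set G)
  perf : ∀ w ∈ K, w ≠ 1 → w * w = 1 → ⁅K ⊓ centralizer {w}, K ⊓ centralizer {w}⁆ = K ⊓ centralizer {w}
  gen2 : ∀ w ∈ K, w ≠ 1 → w * w = 1 → ∀ M : Subgroup G,
    (∀ x ∈ K, x * w = w * x → (∃ n : ℕ, x ^ 2 ^ n = 1) → x ∈ M) → K ⊓ centralizer {w} ≤ M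
  norm : ∀ w ∈ K, w ≠ 1 → w * w = 1 → ∀ P ≤ K ⊓ centralizer {w},
    (∀ e ∈ K ⊓ centralizer {w}, ∀ x ∈ P, e * x * e⁻¹ ∈ P) → ⁅P, P⁆ = P → P = ⊥ ∨ P = K ⊓ centralizer {w}
  gen : ∀ N ≤ K, (∃ w ∈ N, w ≠ 1 ∧ w * w = 1) →
    (∀ w ∈ N, w ≠ 1 → w * w = 1 → K ⊓ centralizer {w} ≤ N) → N = K
  zc : ∀ w ∈ K, w ≠ 1 → w * w = 1 → ∀ x ∈ K, (∀ e ∈ K, e * w = w * e → e * x = x * e) → x * x = 1

section transport

variable {X G : Type*} [Group X] [Group G] {j : X →* G} (hj : Function.Injective j)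

include hj in
theorem range_inf_cent (w : X) : j.range ⊓ centralizer {j w} = (centralizer {w}).map j := by
  ext y
  constructor
  · rintro ⟨⟨x, rfl⟩, hx⟩
    have hx' := mem_centralizer_singleton_iff.1 hx
    rw [← map_mul, ← map_mul] at hx'
    exact ⟨x, mem_centralizer_singleton_iff.2 (hj hx'), rfl⟩
  · rintro ⟨x, hx, rfl⟩
    have hx' := mem_centralizer_singleton_iff.1 hx
    exact ⟨⟨x, rfl⟩, mem_centralizer_singleton_iff.2 (by rw [← map_mul, ← map_mul, hx'])⟩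

theorem map_comap_of_le {P : Subgroup G} (h : P ≤ j.range) : (P.comap j).map j = P := by
  rw [map_comap_eq, inf_eq_right.2 h]

include hj in
theorem sf_of_xf (h : XF X) : SF j.range where
  cen := by
    rintro _ ⟨x, rfl⟩ hx
    rw [mem_centralizer_iff] at hx
    rw [h.cen x fun y => hj (by rw [map_mul, map_mul, hx _ ⟨y, rfl⟩]), map_one]
  inner := by
    rintro y hy ⟨n, hn⟩
    exact Kill.inner_of hj h.inner hy hn
  perf := by
    rintro _ ⟨w, rfl⟩ hw hww
    rw [range_inf_cent hj, ← map_commutator, h.perf w (fun h => hw (by rw [h, map_one]))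
      (hj (by rw [map_mul, hww, map_one]))]
  gen2 := by
    rintro _ ⟨w, rfl⟩ hw hww M hM
    rw [range_inf_cent hj, map_le_iff_le_comap]
    refine h.gen2 w (fun h => hw (by rw [h, map_one])) (hj (by rw [map_mul, hww, map_one])) _ ?_
    rintro x hx ⟨n, hn⟩
    exact hM _ ⟨x, rfl⟩ (by rw [← map_mul, hx, map_mul]) ⟨n, by rw [← map_pow, hn, map_one]⟩
  norm := by
    rintro _ ⟨w, rfl⟩ hw hww P hP hn hPP
    rw [range_inf_cent hj] at hP hn ⊢
    have h1 : (P.comap j).map j = P := map_comap_of_le (hP.trans (map_le_range _ _))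
    have h2 := h.norm w (fun h => hw (by rw [h, map_one])) (hj (by rw [map_mul, hww, map_one])) (P.comap j) (by
      intro x hx
      obtain ⟨y, hy, e⟩ := hP (mem_comap.1 hx)
      rw [← hj e]; exact hy) (by
      intro e he x hx
      rw [mem_comap, map_mul, map_mul, map_inv]
      exact hn _ ⟨e, he, rfl⟩ _ hx) (by
      apply map_injective hj
      rw [map_commutator, h1, hPP])
    rcases h2 with h2 | h2
    · left; rw [← h1, h2, Subgroup.map_bot]
    · right; rw [← h1, h2]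
  gen := by
    rintro N hN ⟨w, hw, hw1, hww⟩ hc
    have h1 : (N.comap j).map j = N := map_comap_of_le hN
    obtain ⟨x, rfl⟩ := hN hw
    have h2 := h.gen (N.comap j) ⟨x, hw, fun h => hw1 (by rw [h, map_one]), hj (by rw [map_mul, hww, map_one])⟩ (by
      intro w hw hw1 hww
      have h3 := hc (j w) hw (fun h => hw1 (hj (by rw [h, map_one]))) (by rw [← map_mul, hww, map_one])
      rw [range_inf_cent hj] at h3
      exact map_le_iff_le_comap.1 h3)
    rw [← h1, h2, ← MonoidHom.range_eq_map]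
  zc := by
    rintro _ ⟨w, rfl⟩ hw hww _ ⟨x, rfl⟩ hx
    rw [← map_mul, h.zc w (fun h => hw (by rw [h, map_one])) (hj (by rw [map_mul, hww, map_one])) x (by
      intro e he
      apply hj
      rw [map_mul, map_mul]
      exact hx _ ⟨e, rfl⟩ (by rw [← map_mul, he, map_mul])), map_one]

/-- `j` followed by the conjugation by `g` -/
def jc (j : X →* G) (g : G) : X →* G := (MulAut.conj g).toMonoidHom.comp j

theorem jc_apply (g : G) (x : X) : jc j g x = g * j x * g⁻¹ := rfl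

include hj in
theorem jc_inj (g : G) : Function.Injective (jc j g) := by
  intro x y h
  rw [jc_apply, jc_apply] at h
  exact hj (mul_left_cancel (mul_right_cancel h))

theorem cj_map (g : G) (P : Subgroup X) : cj g (P.map j) = P.map (jc j g) := by
  ext y
  rw [mem_cj]
  constructor
  · rintro ⟨x, hx, e⟩
    exact ⟨x, hx, by rw [jc_apply, e]; group⟩
  · rintro ⟨x, hx, rfl⟩
    exact ⟨x, hx, by rw [jc_apply]; group⟩

theorem cj_range (g : G) : cj g j.range = (jc j g).range := by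
  rw [MonoidHom.range_eq_map, cj_map, ← MonoidHom.range_eq_map]

include hj in
theorem sf_cj (h : XF X) (g : G) : SF (cj g j.range) := by
  rw [cj_range]
  exact sf_of_xf (jc_inj hj g) h

end transport


/-! ### pairs -/

/-- what is used of `K`; invariant under conjugation -/
structure Base {G : Type*} [Group G] (K : Subgroup G) : Prop where
  tight : TightAt K
  even : Even (Nat.card ↥(centralizer (K : Set G)))
  sf : ∀ g, SF (cj g K)
  nc : ∀ g, ¬ K ≤ centralizer ((cj g K : Subgroup G) : Set G)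

/-- a full pair `K, L` with Sylow 2-subgroups `A` of `C(K)`, `W` of `C(L)` -/
structure PP {G : Type*} [Group G] (K L A W : Subgroup G) : Prop where
  base : Base K
  fp : FullPair K L A W

section pair

variable {G : Type*} [Group G] [Finite G] {K L A W : Subgroup G}

theorem le_cent_symm {K L : Subgroup G} (h : K ≤ centralizer (L : Set G)) : L ≤ centralizer (K : Set G) := by
  intro x hx
  rw [mem_centralizer_iff]
  intro k hk
  exact (mem_centralizer_iff.1 (h hk) x hx).symm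

theorem cj_one (K : Subgroup G) : cj 1 K = K := by
  ext x
  rw [mem_cj]; simp

theorem Base.cj (h : Base K) (x : G) : Base (CommConj.cj x K) where
  tight := h.tight.cj x
  even := by rw [centralizer_cj, card_cj]; exact h.even
  sf g := by rw [← cj_mul]; exact h.sf _
  nc g hc := by
    apply h.nc (x⁻¹ * g * x)
    rw [centralizer_cj] at hc ⊢
    intro k hk
    have h1 := hc (mem_cj_mul (g := x) hk)
    rw [mem_cj, centralizer_cj, mem_cj] at h1
    rw [mem_cj]
    have e : x⁻¹ * (g⁻¹ * (x * k * x⁻¹) * g) * x = (x⁻¹ * g * x)⁻¹ * k * (x⁻¹ * g * x) := by group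
    rwa [e] at h1

theorem PP.tK (h : PP K L A W) : TightAt K := h.base.tight
theorem PP.eK (h : PP K L A W) : Even (Nat.card ↥(centralizer (K : Set G))) := h.base.even
theorem PP.sK (h : PP K L A W) : SF K := by have := h.base.sf 1; rwa [cj_one] at this
theorem PP.sL (h : PP K L A W) : SF L := by
  obtain ⟨g, _, rfl⟩ := h.fp.conj
  exact h.base.sf g
theorem PP.nc (h : PP K L A W) : ¬ K ≤ centralizer (L : Set G) := by
  obtain ⟨g, _, rfl⟩ := h.fp.conj
  exact h.base.nc g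

theorem PP.symm (h : PP K L A W) : PP L K W A where
  fp := h.fp.symm
  base := by
    obtain ⟨g, _, rfl⟩ := h.fp.conj
    exact h.base.cj g

theorem cj_isSyl {T C : Subgroup G} (h : IsSyl T C) (g : G) : IsSyl (cj g T) (cj g C) := h.cj g

/-- conjugation of pairs -/
theorem PP.conj (h : PP K L A W) (x : G) : PP (cj x K) (cj x L) (cj x A) (cj x W) where
  base := h.base.cj x
  fp := by
    obtain ⟨g, hg, hL⟩ := h.fp.conj
    refine ⟨⟨x * g * x⁻¹, ?_, ?_⟩, ?_, ?_, ?_⟩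
    · intro h1
      rw [normalizer_cj, mem_cj] at h1
      have e : x⁻¹ * (x * g * x⁻¹) * x = g := by group
      rw [e] at h1
      exact hg h1
    · rw [hL, ← cj_mul, ← cj_mul]
      congr 1; group
    · rw [centralizer_cj]; exact h.fp.sylQ.cj x
    · rw [centralizer_cj]; exact h.fp.sylU.cj x
    · intro q hq u hu
      have h1 := h.fp.comm _ (mem_cj.1 hq) _ (mem_cj.1 hu)
      have e1 : q * u = x * ((x⁻¹ * q * x) * (x⁻¹ * u * x)) * x⁻¹ := by group
      rw [e1, h1]; group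

theorem PP.AL (h : PP K L A W) : A ≤ normalizer (L : Set G) := h.fp.leQ h.tK h.eK
theorem PP.WK (h : PP K L A W) : W ≤ normalizer (K : Set G) := h.fp.leU h.tK h.eK

theorem two_zpowers {x : G} (h : ∃ n : ℕ, x ^ 2 ^ n = 1) : IsPGroup 2 ↥(zpowers x) := by
  obtain ⟨n, hn⟩ := h
  have : Fact (Nat.Prime 2) := ⟨Nat.prime_two⟩
  rw [IsPGroup.iff_card]
  obtain ⟨m, -, hm⟩ := (Nat.dvd_prime_pow Nat.prime_two).mp (orderOf_dvd_of_pow_eq_one hn)
  exact ⟨m, by rw [Nat.card_zpowers, hm]⟩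

/-- a 2-element of `C(K)` commuting with `A` lies in `A` -/
theorem mem_syl_of_comm {C T : Subgroup G} (hT : IsSyl T C) {c : G} (hc : c ∈ C) (h2 : ∃ n : ℕ, c ^ 2 ^ n = 1)
    (hcT : ∀ a ∈ T, c * a = a * c) : c ∈ T := by
  have hnor : zpowers c ≤ normalizer (T : Set G) := by
    rw [zpowers_le, mem_normalizer_iff]
    intro x
    have h0 : ∀ a ∈ T, c * a * c⁻¹ = a := fun a ha => by rw [hcT a ha]; group
    constructor
    · intro hx; rw [h0 x hx]; exact hx
    · intro hx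
      have h1 := h0 _ hx
      have e : x = c * x * c⁻¹ := by
        calc x = c⁻¹ * (c * x * c⁻¹) * c := by group
          _ = c⁻¹ * (c * (c * x * c⁻¹) * c⁻¹) * c := by rw [h1]
          _ = c * x * c⁻¹ := by group
      rw [e]; exact hx
  have h3 : IsPGroup 2 ↥(T ⊔ zpowers c) := hT.two.to_sup_of_normal_left' (two_zpowers h2) hnor
  exact hT.max _ h3 le_sup_left (sup_le hT.le (by rw [zpowers_le]; exact hc)) (mem_sup_right (mem_zpowers c))

/-- an involution as a power of a 2-element -/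
theorem exists_pow_inv {x : G} (h2 : ∃ n : ℕ, x ^ 2 ^ n = 1) (hx : x ≠ 1) :
    ∃ m : ℕ, x ^ m ≠ 1 ∧ x ^ m * x ^ m = 1 := by
  obtain ⟨n, hn⟩ := h2
  induction n with
  | zero => exact absurd (by simpa using hn) hx
  | succ n ih =>
    by_cases h : x ^ 2 ^ n = 1
    · exact ih h
    · exact ⟨2 ^ n, h, by rw [← pow_add, ← two_mul, ← pow_succ']; exact hn⟩

theorem orderOf_two {x : G} (h1 : x ≠ 1) (h2 : x * x = 1) : orderOf x = 2 :=
  orderOf_eq_prime (by rw [pow_two]; exact h2) h1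

/-- no 2-element `≠ 1` lies in `C(K) ∩ C(L)` -/
theorem PP.two_trivial (h : PP K L A W) {u : G} (hu : u ∈ centralizer (K : Set G))
    (huL : u ∈ centralizer (L : Set G)) (h2 : ∃ n : ℕ, u ^ 2 ^ n = 1) : u = 1 := by
  by_contra hne
  obtain ⟨m, h3, h4⟩ := exists_pow_inv h2 hne
  exact h.fp.noInv h.tK (pow_mem hu m) (pow_mem huL m) (orderOf_two h3 h4)

/-- decomposition of a 2-element of `N(K)` commuting with `A` -/
theorem PP.decomp (h : PP K L A W) {y : G} (hy : y ∈ normalizer (K : Set G)) (h2 : ∃ n : ℕ, y ^ 2 ^ n = 1)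
    (hA : ∀ a ∈ A, y * a = a * y) : ∃ k ∈ K, ∃ z ∈ A, (∀ a ∈ A, z * a = a * z) ∧ y = k * z := by
  obtain ⟨k, hk, c, hc, e⟩ := exists_decomp (h.sK.inner y hy h2)
  have hcA : ∀ a ∈ A, c * a = a * c := fun a ha => comm_of_decomp hk e (h.fp.sylQ.le ha) (hA a ha)
  obtain ⟨n, hn⟩ := h2
  exact ⟨k, hk, c, mem_syl_of_comm h.fp.sylQ hc ⟨n, pow_eq_one_of_decomp h.sK.cen hk hc e hn⟩ hcA, hcA, e⟩

/-- the centre of `A` -/
def ZA (A : Subgroup G) : Subgroup G := A ⊓ centralizer (A : Set G)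

theorem mem_ZA {A : Subgroup G} {z : G} : z ∈ ZA A ↔ z ∈ A ∧ ∀ a ∈ A, z * a = a * z := by
  unfold ZA
  rw [mem_inf, mem_centralizer_iff]
  exact ⟨fun h => ⟨h.1, fun a ha => (h.2 a ha).symm⟩, fun h => ⟨h.1, fun a ha => (h.2 a ha).symm⟩⟩

/-- the elements of the join of commuting subgroups -/
theorem mem_sup_comm {K Z : Subgroup G} (hKZ : ∀ k ∈ K, ∀ z ∈ Z, k * z = z * k) {x : G} (hx : x ∈ K ⊔ Z) :
    ∃ k ∈ K, ∃ z ∈ Z, x = k * z := by
  have h1 : x ∈ ((K ⊔ Z : Subgroup G) : Set G) := hx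
  rw [coe_mul_of_right_le_normalizer_left] at h1
  · obtain ⟨k, hk, z, hz, e⟩ := h1
    exact ⟨k, hk, z, hz, e.symm⟩
  · refine le_trans ?_ (centralizer_le_normalizer_self K)
    intro z hz
    rw [mem_centralizer_iff]
    exact fun k hk => hKZ k hk z hz

/-- **(1)** -/
theorem PP.step1 (h : PP K L A W) {E : Subgroup G} (hEK : E ≤ K) (hEL : E ≤ normalizer (L : Set G))
    (hEE : ⁅E, E⁆ = E) (hE2 : ∀ M : Subgroup G, (∀ x ∈ E, (∃ n : ℕ, x ^ 2 ^ n = 1) → x ∈ M) → E ≤ M) :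
    ∃ P : Subgroup G, P ≤ K ⊓ centralizer (L : Set G) ∧ ⁅P, P⁆ = P ∧
      (∀ c ∈ P, ∃ e ∈ E, ∃ l ∈ L, e = l * c) ∧ (∀ e ∈ E, ∃ l ∈ L, ∃ c ∈ P, e = l * c) := by
  have hinL : E ≤ L ⊔ centralizer (L : Set G) := hE2 _ fun x hx h2 => h.sL.inner x (hEL hx) h2
  obtain ⟨π, hπ, hπ'⟩ := exists_proj h.sL.cen
  let P : Subgroup G := (E.subgroupOf (L ⊔ centralizer (L : Set G))).map π
  have hPP : ⁅P, P⁆ = P := by
    have h3 : ⁅E.subgroupOf (L ⊔ centralizer (L : Set G)), E.subgroupOf (L ⊔ centralizer (L : Set G))⁆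
        = E.subgroupOf (L ⊔ centralizer (L : Set G)) := by
      apply Subgroup.map_injective (Subgroup.subtype_injective _)
      rw [Subgroup.map_commutator, subgroupOf_map_subtype, inf_eq_left.mpr hinL, hEE]
    show ⁅(E.subgroupOf _).map π, (E.subgroupOf _).map π⁆ = _
    rw [← Subgroup.map_commutator, h3]
  have hPC : P ≤ centralizer (L : Set G) := by
    rintro _ ⟨e, _, rfl⟩
    exact hπ e
  have hPe : ∀ c ∈ P, ∃ e ∈ E, ∃ l ∈ L, e = l * c := by
    rintro _ ⟨e, he, rfl⟩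
    obtain ⟨k, hk, e'⟩ := hπ' e
    exact ⟨e, mem_subgroupOf.1 he, k, hk, e'⟩
  have heP : ∀ e ∈ E, ∃ l ∈ L, ∃ c ∈ P, e = l * c := by
    intro e he
    obtain ⟨k, hk, e'⟩ := hπ' ⟨e, hinL he⟩
    exact ⟨k, hk, _, ⟨⟨e, hinL he⟩, mem_subgroupOf.2 he, rfl⟩, e'⟩
  have hPmem : ∀ l ∈ L, ∀ c ∈ centralizer (L : Set G), l * c ∈ E → c ∈ P := by
    intro l hl c hc he
    obtain ⟨l', hl', c', hc', e⟩ := heP _ he
    have := (decomp_unique h.sL.cen hl hc hl' (hPC hc') e).2
    rwa [this]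
  -- `P` commutes with `A`
  have hPA : ∀ c ∈ P, ∀ a ∈ A, c * a = a * c := by
    intro c hc a ha
    obtain ⟨e, he, l, hl, rfl⟩ := hPe c hc
    have haN := h.AL ha
    have h1 : a * l * a⁻¹ ∈ L := (mem_normalizer_iff.1 haN l).1 hl
    have h2 : a * c * a⁻¹ ∈ centralizer (L : Set G) := centralizer_conj_mem haN (hPC hc)
    have h3 : (l * c) * a = a * (l * c) := mem_centralizer_iff.1 (h.fp.sylQ.le ha) _ (hEK he)
    have h4 : (a * l * a⁻¹) * (a * c * a⁻¹) = l * c := by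
      calc (a * l * a⁻¹) * (a * c * a⁻¹) = (a * (l * c)) * a⁻¹ := by group
        _ = l * c := by rw [← h3]; group
    have h5 := (decomp_unique h.sL.cen h1 h2 hl (hPC hc) h4).2
    calc c * a = (a * c * a⁻¹) * a := by rw [h5]
      _ = a * c := by group
  -- `P ≤ N(K)`
  obtain ⟨t, htA, ht2⟩ := exists_inv_syl h.fp.sylQ h.eK
  have hPN : P ≤ normalizer (K : Set G) := fun c hc => h.tK.mem (h.fp.sylQ.le htA) ht2 (hPA c hc t htA)
  have hKZ : ∀ k ∈ K, ∀ z ∈ ZA A, k * z = z * k := fun k hk z hz =>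
    comm_of_cen hk (h.fp.sylQ.le (mem_ZA.1 hz).1)
  -- `P ≤ K Z(A)`
  have hP2 : ∀ M : Subgroup G, (∀ c ∈ P, (∃ n : ℕ, c ^ 2 ^ n = 1) → c ∈ M) → P ≤ M := by
    intro M hM
    have h3 : E ≤ L ⊔ (M ⊓ centralizer (L : Set G)) := by
      refine hE2 _ ?_
      rintro x hx ⟨n, hn⟩
      obtain ⟨l, hl, c, hc, rfl⟩ := heP x hx
      have hc2 := pow_eq_one_of_decomp h.sL.cen hl (hPC hc) rfl hn
      exact mul_mem (mem_sup_left hl) (mem_sup_right ⟨hM c hc ⟨n, hc2⟩, hPC hc⟩)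
    intro c hc
    obtain ⟨e, he, l, hl, rfl⟩ := hPe c hc
    obtain ⟨l', hl', c', hc', e'⟩ := mem_sup_comm (K := L) (Z := M ⊓ centralizer (L : Set G))
      (fun k hk z hz => comm_of_cen hk (mem_inf.1 hz).2) (h3 he)
    rw [(decomp_unique h.sL.cen hl (hPC hc) hl' hc'.2 e').2]
    exact hc'.1
  have hPKZ : P ≤ K ⊔ ZA A := by
    refine hP2 _ fun c hc h2 => ?_
    obtain ⟨k, hk, z, hz, hzA, rfl⟩ := h.decomp (hPN hc) h2 (hPA c hc)
    exact mul_mem (mem_sup_left hk) (mem_sup_right (mem_ZA.2 ⟨hz, hzA⟩))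
  have hPK : P ≤ K := by
    rw [← hPP, commutator_le]
    intro x hx y hy
    obtain ⟨k, hk, z, hz, rfl⟩ := mem_sup_comm hKZ (hPKZ hx)
    obtain ⟨k', hk', z', hz', rfl⟩ := mem_sup_comm hKZ (hPKZ hy)
    have h1 := hKZ k hk z' hz'
    have h2 := hKZ k' hk' z hz
    have h3 := hKZ k hk z hz
    have h4 := hKZ k' hk' z' hz'
    have h5 : z * z' = z' * z := (mem_ZA.1 hz).2 _ (mem_ZA.1 hz').1
    have e : ⁅k * z, k' * z'⁆ = ⁅k, k'⁆ := by
      rw [commutatorElement_def, commutatorElement_def]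
      have e1 : k * z * (k' * z') = (k * k') * (z * z') := by
        calc k * z * (k' * z') = k * (z * k') * z' := by group
          _ = _ := by rw [← h2]; group
      have e2 : k' * z' * (k * z) = (k' * k) * (z * z') := by
        calc k' * z' * (k * z) = k' * (z' * k) * z := by group
          _ = k' * k * (z' * z) := by rw [← h1]; group
          _ = _ := by rw [← h5]
      calc k * z * (k' * z') * (k * z)⁻¹ * (k' * z')⁻¹ = k * z * (k' * z') * (k' * z' * (k * z))⁻¹ := by group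
        _ = _ := by rw [e1, e2]; group
    rw [e, commutatorElement_def]
    exact mul_mem (mul_mem (mul_mem hk hk') (inv_mem hk)) (inv_mem hk')
  exact ⟨P, le_inf hPK hPC, hPP, hPe, heP⟩

/-- the elements of `C_K(w)` -/
theorem mem_Cw {K : Subgroup G} {w x : G} : x ∈ K ⊓ centralizer {w} ↔ x ∈ K ∧ x * w = w * x := by
  rw [mem_inf, mem_centralizer_singleton_iff]

theorem self_mem_Cw {K : Subgroup G} {w : G} (hw : w ∈ K) : w ∈ K ⊓ centralizer {w} := mem_Cw.2 ⟨hw, rfl⟩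

/-- **(2)** -/
theorem PP.no_inv (h : PP K L A W) {w : G} (hw : w ∈ K) (hwL : w ∈ centralizer (L : Set G)) (hww : w * w = 1) :
    w = 1 := by
  by_contra hw1
  have key : ∀ v ∈ K ⊓ centralizer (L : Set G), v ≠ 1 → v * v = 1 → K ⊓ centralizer {v} ≤
      K ⊓ centralizer (L : Set G) := by
    rintro v ⟨hv, hvL⟩ hv1 hvv
    have hEL : K ⊓ centralizer {v} ≤ normalizer (L : Set G) := fun x hx =>
      (h.fp.tightL h.tK).mem hvL (orderOf_two hv1 hvv) (mem_Cw.1 hx).2
    obtain ⟨P, hP, hPP, hPe, heP⟩ := h.step1 (E := K ⊓ centralizer {v}) inf_le_left hEL (h.sK.perf v hv hv1 hvv)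
      (fun M hM => h.sK.gen2 v hv hv1 hvv M fun x hx hxv h2 => hM x (mem_Cw.2 ⟨hx, hxv⟩) h2)
    have hPv : P ≤ K ⊓ centralizer {v} := by
      intro c hc
      obtain ⟨e, he, l, hl, rfl⟩ := hPe c hc
      exact mem_Cw.2 ⟨(hP hc).1, comm_of_decomp hl rfl hvL (mem_Cw.1 he).2⟩
    have hn : ∀ e ∈ K ⊓ centralizer {v}, ∀ x ∈ P, e * x * e⁻¹ ∈ P := by
      intro e he x hx
      obtain ⟨l, hl, c, hc, rfl⟩ := heP e he
      have h1 : c * x * c⁻¹ ∈ P := mul_mem (mul_mem hc hx) (inv_mem hc)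
      have h2 := comm_of_cen hl (hP h1).2
      have e1 : l * c * x * (l * c)⁻¹ = c * x * c⁻¹ := by
        calc l * c * x * (l * c)⁻¹ = (l * (c * x * c⁻¹)) * l⁻¹ := by group
          _ = c * x * c⁻¹ := by rw [h2]; group
      rw [e1]; exact h1
    have hvP : v ∈ P := by
      obtain ⟨l, hl, c, hc, e⟩ := heP v (self_mem_Cw hv)
      have := (decomp_unique h.sL.cen (one_mem L) hvL hl (hP hc).2 (by rw [one_mul]; exact e)).2
      rwa [this]
    rcases h.sK.norm v hv hv1 hvv P hPv hn hPP with h1 | h1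
    · rw [h1, mem_bot] at hvP
      exact absurd hvP hv1
    · rw [← h1]; exact hP
  have h1 := h.sK.gen (K ⊓ centralizer (L : Set G)) inf_le_left ⟨w, ⟨hw, hwL⟩, hw1, hww⟩ key
  exact h.nc (by rw [← h1]; exact inf_le_right)

theorem PP.no_two (h : PP K L A W) {w : G} (hw : w ∈ K) (hwL : w ∈ centralizer (L : Set G))
    (h2 : ∃ n : ℕ, w ^ 2 ^ n = 1) : w = 1 := by
  by_contra hne
  obtain ⟨m, h3, h4⟩ := exists_pow_inv h2 hne
  exact h3 (h.no_inv (pow_mem hw m) (pow_mem hwL m) h4)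

theorem IsSyl.pow_two {T C : Subgroup G} (h : IsSyl T C) {x : G} (hx : x ∈ T) : ∃ n : ℕ, x ^ 2 ^ n = 1 := by
  obtain ⟨n, hn⟩ := h.two ⟨x, hx⟩
  exact ⟨n, congrArg Subtype.val hn⟩

/-- decomposition of the elements of `W` -/
theorem PP.dec (h : PP K L A W) {u : G} (hu : u ∈ W) :
    ∃ k ∈ K, ∃ z ∈ A, (∀ a ∈ A, z * a = a * z) ∧ u = k * z :=
  h.decomp (h.WK hu) (IsSyl.pow_two h.fp.sylU hu) fun a ha => (h.fp.comm a ha u hu).symm

/-- **(3)** -/
theorem PP.cent_le (h : PP K L A W) {u k z : G} (hu : u ∈ W) (hu1 : u ≠ 1) (huu : u * u = 1) (hk : k ∈ K)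
    (hz : z ∈ A) (e : u = k * z) : k ≠ 1 ∧ k * k = 1 ∧ K ⊓ centralizer {k} ≤ L := by
  have hzC := h.fp.sylQ.le hz
  have hk1 : k ≠ 1 := by
    rintro rfl
    rw [one_mul] at e
    rw [← e] at hzC
    exact hu1 (h.two_trivial hzC (h.fp.sylU.le hu) (IsSyl.pow_two h.fp.sylU hu))
  have hkz : Commute k z := comm_of_cen hk hzC
  have hkk : k * k = 1 := by
    have h1 : (k * k) * (z * z) = 1 * 1 := by
      rw [one_mul, ← huu, e]
      calc k * k * (z * z) = k * (k * z) * z := by group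
        _ = k * (z * k) * z := by rw [hkz.eq]
        _ = _ := by group
    exact (decomp_unique h.sK.cen (mul_mem hk hk) (mul_mem hzC hzC) (one_mem _) (one_mem _) h1).1
  have hEL : K ⊓ centralizer {k} ≤ normalizer (L : Set G) := by
    intro x hx
    refine (h.fp.tightL h.tK).mem (h.fp.sylU.le hu) (orderOf_two hu1 huu) ?_
    have h1 := comm_of_cen (mem_Cw.1 hx).1 hzC
    rw [e]
    calc x * (k * z) = (x * k) * z := by group
      _ = k * (x * z) := by rw [(mem_Cw.1 hx).2]; group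
      _ = _ := by rw [h1]; group
  obtain ⟨P, hP, hPP, hPe, heP⟩ := h.step1 (E := K ⊓ centralizer {k}) inf_le_left hEL (h.sK.perf k hk hk1 hkk)
    (fun M hM => h.sK.gen2 k hk hk1 hkk M fun x hx hxv h2 => hM x (mem_Cw.2 ⟨hx, hxv⟩) h2)
  refine ⟨hk1, hkk, ?_⟩
  refine h.sK.gen2 k hk hk1 hkk L ?_
  rintro x hx hxk ⟨n, hn⟩
  obtain ⟨l, hl, c, hc, e'⟩ := heP x (mem_Cw.2 ⟨hx, hxk⟩)
  have hc2 := pow_eq_one_of_decomp h.sL.cen hl (hP hc).2 e' hn
  have hc1 := h.no_two (hP hc).1 (hP hc).2 ⟨n, hc2⟩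
  rw [e', hc1, mul_one]; exact hl

/-- the involutions of `W` exist -/
theorem PP.exists_inv (h : PP K L A W) : ∃ u ∈ W, u ≠ 1 ∧ u * u = 1 := by
  obtain ⟨u, hu, hu2⟩ := exists_inv_syl h.fp.sylU h.symm.eK
  refine ⟨u, hu, fun h1 => ?_, ?_⟩
  · rw [h1, orderOf_one] at hu2; norm_num at hu2
  · rw [← _root_.pow_two, ← hu2, pow_orderOf_eq_one]

/-- the K-part of an element of `W` centralises `C_K(k)` for the K-part `k` of an involution of `W` -/
theorem PP.part_comm (h : PP K L A W) {u k z v k' z' : G} (hu : u ∈ W) (hu1 : u ≠ 1) (huu : u * u = 1) (hk : k ∈ K)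
    (hz : z ∈ A) (e : u = k * z) (hv : v ∈ W) (hz' : z' ∈ A) (e' : v = k' * z') :
    ∀ x ∈ K, x * k = k * x → x * k' = k' * x := by
  intro x hx hxk
  have hxL := (h.cent_le hu hu1 huu hk hz e).2.2 (mem_Cw.2 ⟨hx, hxk⟩)
  have h1 : x * v = v * x := comm_of_cen hxL (h.fp.sylU.le hv)
  have h2 : x * z' = z' * x := comm_of_cen hx (h.fp.sylQ.le hz')
  rw [e'] at h1
  have h3 : (x * k') * z' = (k' * x) * z' := by
    calc (x * k') * z' = x * (k' * z') := by group
      _ = k' * (z' * x) := by rw [h1]; group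
      _ = _ := by rw [← h2]; group
  exact mul_right_cancel h3

/-- `W` is elementary abelian -/
theorem PP.sq (h : PP K L A W) {v : G} (hv : v ∈ W) : v * v = 1 := by
  obtain ⟨u, hu, hu1, huu⟩ := h.exists_inv
  obtain ⟨k, hk, z, hz, hzA, e⟩ := h.dec hu
  obtain ⟨k', hk', z', hz', hzA', e'⟩ := h.dec hv
  obtain ⟨hk1, hkk, -⟩ := h.cent_le hu hu1 huu hk hz e
  have h1 : k' * k' = 1 := h.sK.zc k hk hk1 hkk k' hk' fun x hx hxk =>
    (h.part_comm hu hu1 huu hk hz e hv hz' e' x hx hxk)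
  have h2 : k' * z' = z' * k' := comm_of_cen hk' (h.fp.sylQ.le hz')
  have h3 : v * v = z' * z' := by
    rw [e']
    calc k' * z' * (k' * z') = k' * (z' * k') * z' := by group
      _ = (k' * k') * (z' * z') := by rw [← h2]; group
      _ = _ := by rw [h1, one_mul]
  refine h.two_trivial ?_ (h.fp.sylU.le (mul_mem hv hv)) (IsSyl.pow_two h.fp.sylU (mul_mem hv hv))
  rw [h3]
  exact h.fp.sylQ.le (mul_mem hz' hz')

/-- `K ∩ W = 1` -/
theorem PP.K_W (h : PP K L A W) {v : G} (hv : v ∈ W) (hvK : v ∈ K) : v = 1 :=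
  h.no_inv hvK (h.fp.sylU.le hv) (h.sq hv)

/-- `A ∩ W = 1` -/
theorem PP.A_W (h : PP K L A W) {v : G} (hv : v ∈ W) (hvA : v ∈ A) : v = 1 :=
  h.two_trivial (h.fp.sylQ.le hvA) (h.fp.sylU.le hv) ⟨1, by rw [pow_one, _root_.pow_two]; exact h.sq hv⟩

/-- every element of `A` is the `C(K)`-part of an element of `W` -/
theorem PP.surj (h : PP K L A W) : ∀ r ∈ A, ∃ v ∈ W, ∃ k ∈ K, v = k * r := by
  classical
  have hex : ∀ v : W, ∃ z : A, ∃ k ∈ K, (v : G) = k * z := by
    rintro ⟨v, hv⟩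
    obtain ⟨k, hk, z, hz, -, e⟩ := h.dec hv
    exact ⟨⟨z, hz⟩, k, hk, e⟩
  choose f k hk he using hex
  have hinj : Function.Injective f := by
    intro v v' hvv
    have h1 : (v : G) * (v' : G)⁻¹ = k v * (k v')⁻¹ := by
      rw [he v, he v', hvv]; group
    have h2 := h.K_W (mul_mem v.2 (inv_mem v'.2)) (by rw [h1]; exact mul_mem (hk v) (inv_mem (hk v')))
    exact Subtype.ext (mul_inv_eq_one.1 h2)
  have hcard : Nat.card W = Nat.card A := by
    obtain ⟨g, _, hL⟩ := h.fp.conj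
    -- `cj g A` is a Sylow subgroup of `C(L)`
    have h1 : IsSyl (cj g A) (centralizer (L : Set G)) := by
      rw [hL, centralizer_cj]; exact h.fp.sylQ.cj g
    obtain ⟨m, _, hm⟩ := h1.conj_into h.fp.sylU.two h.fp.sylU.le
    obtain ⟨m', _, hm'⟩ := h.fp.sylU.conj_into h1.two h1.le
    have e1 : Nat.card W ≤ Nat.card (cj g A) := by
      rw [← card_cj (g := m) (X := W)]
      apply Nat.card_le_card_of_injective (fun x : cj m W => (⟨x, by
        have h2 := hm _ (mem_cj.1 x.2)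
        have e : m * (m⁻¹ * (x : G) * m) * m⁻¹ = x := by group
        rwa [e] at h2⟩ : cj g A))
      intro x y hxy
      exact Subtype.ext (congrArg (fun z : cj g A => (z : G)) hxy)
    have e2 : Nat.card (cj g A) ≤ Nat.card W := by
      rw [← card_cj (g := m') (X := cj g A)]
      apply Nat.card_le_card_of_injective (fun x : cj m' (cj g A) => (⟨x, by
        have h2 := hm' _ (mem_cj.1 x.2)
        have e : m' * (m'⁻¹ * (x : G) * m') * m'⁻¹ = x := by group
        rwa [e] at h2⟩ : W))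
      intro x y hxy
      exact Subtype.ext (congrArg (fun z : W => (z : G)) hxy)
    rw [card_cj] at e1 e2
    omega
  have hbij : Function.Bijective f := (Nat.bijective_iff_injective_and_card f).2 ⟨hinj, hcard⟩
  intro r hr
  obtain ⟨v, hv⟩ := hbij.2 ⟨r, hr⟩
  exact ⟨v, v.2, k v, hk v, by rw [he v, hv]⟩

theorem cj_self {P : Subgroup G} {x : G} (hx : ∀ y ∈ P, x * y * x⁻¹ ∈ P) : cj x P = P := by
  have h1 : cj x P ≤ P := by
    intro y hy
    have h2 := hx _ (mem_cj.1 hy)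
    have e : x * (x⁻¹ * y * x) * x⁻¹ = y := by group
    rwa [e] at h2
  exact eq_of_le_of_card_ge h1 (by rw [card_cj])

theorem cj_of_comm {P : Subgroup G} {x : G} (hx : ∀ y ∈ P, x * y = y * x) : cj x P = P :=
  cj_self fun y hy => by rw [hx y hy]; simpa using hy

theorem PP.exists_g (h : PP K L A W) : ∃ g, L = cj g K ∧ W = cj g A := by
  obtain ⟨g, _, hL⟩ := h.fp.conj
  have h1 : IsSyl (cj g A) (centralizer (L : Set G)) := by
    rw [hL, centralizer_cj]; exact h.fp.sylQ.cj g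
  obtain ⟨m, hmC, hm⟩ := h1.conj_into h.fp.sylU.two h.fp.sylU.le
  -- `cj m W` is Sylow, contained in `cj g A`
  have h2 : cj m W ≤ cj g A := by
    intro x hx
    have h2 := hm _ (mem_cj.1 hx)
    have e : m * (m⁻¹ * x * m) * m⁻¹ = x := by group
    rwa [e] at h2
  have h3 : cj m (centralizer (L : Set G)) = centralizer (L : Set G) := cj_self fun y hy =>
    mul_mem (mul_mem hmC hy) (inv_mem hmC)
  have h4 : IsSyl (cj m W) (centralizer (L : Set G)) := by
    have := h.fp.sylU.cj m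
    rwa [h3] at this
  have h5 : cj g A = cj m W := le_antisymm (h4.max _ h1.two h2 h1.le) h2
  refine ⟨m⁻¹ * g, ?_, ?_⟩
  · rw [cj_mul, ← hL]
    exact (cj_of_comm fun y hy => (mem_centralizer_iff.1 (inv_mem hmC) y hy).symm).symm
  · rw [cj_mul, h5, cj_inv_cj]

/-- conjugation by an element of `K` -/
theorem PP.conjK (h : PP K L A W) {x : G} (hx : x ∈ K) : PP K (cj x L) A (cj x W) := by
  have h1 := h.conj x
  rwa [cj_self fun y hy => mul_mem (mul_mem hx hy) (inv_mem hx),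
    cj_of_comm (P := A) fun y hy => comm_of_cen hx (h.fp.sylQ.le hy)] at h1

end pair

end Cfsg.Agent.OddHalf.D4.TwF.Pair
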