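import Cfsg.Agent.OddHalf.D4.TwF.End
import Cfsg.Agent.KFacts.TwF4.Torus

/-!
# ODD D4, `K = ²F₄(q)`: the group `Q₂ = z₋₁ o₋₁ z₀ o₀ z₁`
-/

set_option autoImplicit false
set_option linter.unusedSectionVars false

namespace Cfsg.Agent.OddHalf.D4.TwF.QTwo

open Cfsg.Agent.KFacts.TwF4 Cfsg.Agent.OddHalf.D4.TwF.Field Cfsg.Agent.OddHalf.D4.TwF.End

variable {F : Type*} [Field F] [CharP F 2] {σ τ : F →+* F} {G : Type*} [Group G]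

/-- elements of `Q₂` -/
def q5 (S : Sys σ G) (α β γ δ ε : F) : G := S.e 7 0 α * S.o 7 β * S.e 0 0 γ * S.o 0 δ * S.e 1 0 ε

/-- uniqueness of the normal form -/
def Uniq (S : Sys σ G) : Prop := ∀ α β γ δ ε α' β' γ' δ' ε' : F, q5 S α β γ δ ε = q5 S α' β' γ' δ' ε' →
  α = α' ∧ β = β' ∧ γ = γ' ∧ δ = δ' ∧ ε = ε'

section

variable (S : Sys σ G)

/-! commutation of the factors -/

theorem c7o7 (x y : F) : Commute (S.e 7 0 x) (S.o 7 y) := e_o0' S 7 0 x y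
theorem c7z0 (x y : F) : Commute (S.e 7 0 x) (S.e 0 0 y) := z_e1 S 7 x 0 y
theorem c7o0 (x y : F) : Commute (S.e 7 0 x) (S.o 0 y) := z_o1 S 7 x y
theorem c7z1 (x y : F) : Commute (S.e 7 0 x) (S.e 1 0 y) := e_e2' S 7 0 x 0 y
theorem co7z0 (x y : F) : Commute (S.o 7 x) (S.e 0 0 y) := o_e1' S 7 x 0 y
theorem co7o0 (x y : F) : Commute (S.o 7 x) (S.o 0 y) := o_o1' S 7 x y
theorem co7z1 (x y : F) : Commute (S.o 7 x) (S.e 1 0 y) := o_z2 S 7 x y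
theorem c0o0 (x y : F) : Commute (S.e 0 0 x) (S.o 0 y) := e_o0' S 0 0 x y
theorem c0z1 (x y : F) : Commute (S.e 0 0 x) (S.e 1 0 y) := z_e1 S 0 x 0 y
theorem co0z1 (x y : F) : Commute (S.o 0 x) (S.e 1 0 y) := o_e1' S 0 x 0 y

theorem q5_mul (α β γ δ ε α' β' γ' δ' ε' : F) : q5 S α β γ δ ε * q5 S α' β' γ' δ' ε' =
    q5 S (α + α') (β + β') (γ + γ') (δ + δ') (ε + ε') := by
  unfold q5
  have h1 : Commute (S.e 1 0 ε) (S.e 7 0 α' * S.o 7 β' * S.e 0 0 γ' * S.o 0 δ') :=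
    (((c7z1 S _ _).symm.mul_right (co7z1 S _ _).symm).mul_right (c0z1 S _ _).symm).mul_right (co0z1 S _ _).symm
  have h2 : Commute (S.o 0 δ) (S.e 7 0 α' * S.o 7 β' * S.e 0 0 γ') :=
    ((c7o0 S _ _).symm.mul_right (co7o0 S _ _).symm).mul_right (c0o0 S _ _).symm
  have h3 : Commute (S.e 0 0 γ) (S.e 7 0 α' * S.o 7 β') := (c7z0 S _ _).symm.mul_right (co7z0 S _ _).symm
  rw [h1.mul_mul_mul_comm, h2.mul_mul_mul_comm, h3.mul_mul_mul_comm, (c7o7 S α' β).symm.mul_mul_mul_comm,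
    z_mul, z_mul, z_mul, S.o_add, S.o_add]

theorem q5_zero : q5 S 0 0 0 0 0 = 1 := by
  unfold q5
  rw [e_zero, e_zero, e_zero, o_zero, o_zero]
  simp

theorem q5_sq (α β γ δ ε : F) : q5 S α β γ δ ε * q5 S α β γ δ ε = 1 := by
  rw [q5_mul]
  simp only [add_self]
  exact q5_zero S

theorem q5_inv (α β γ δ ε : F) : (q5 S α β γ δ ε)⁻¹ = q5 S α β γ δ ε :=
  inv_eq_of_mul_eq_one_left (q5_sq S α β γ δ ε)

theorem q5_comm (α β γ δ ε α' β' γ' δ' ε' : F) : Commute (q5 S α β γ δ ε) (q5 S α' β' γ' δ' ε') := by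
  show _ * _ = _ * _
  rw [q5_mul, q5_mul]
  congr 1 <;> ring

theorem z7_eq (x : F) : S.e 7 0 x = q5 S x 0 0 0 0 := by
  unfold q5; rw [e_zero, e_zero, o_zero, o_zero]; simp
theorem o7_eq (x : F) : S.o 7 x = q5 S 0 x 0 0 0 := by
  unfold q5; rw [e_zero, e_zero, e_zero, o_zero]; simp
theorem z0_eq (x : F) : S.e 0 0 x = q5 S 0 0 x 0 0 := by
  unfold q5; rw [e_zero, e_zero, o_zero, o_zero]; simp
theorem o0_eq (x : F) : S.o 0 x = q5 S 0 0 0 x 0 := by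
  unfold q5; rw [e_zero, e_zero, e_zero, o_zero]; simp
theorem z1_eq (x : F) : S.e 1 0 x = q5 S 0 0 0 0 x := by
  unfold q5; rw [e_zero, e_zero, o_zero, o_zero]; simp

omit [CharP F 2] in
theorem conj_prod {G : Type*} [Group G] {x a b c d e a' b' c' d' e' : G} (ha : x⁻¹ * a * x = a') (hb : x⁻¹ * b * x = b')
    (hc : x⁻¹ * c * x = c') (hd : x⁻¹ * d * x = d') (he : x⁻¹ * e * x = e') :
    x⁻¹ * (a * b * c * d * e) * x = a' * b' * c' * d' * e' := by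
  rw [← ha, ← hb, ← hc, ← hd, ← he]; group

theorem conj_comm {G : Type*} [Group G] {x a : G} (h : Commute x a) : x⁻¹ * a * x = a := by
  rw [mul_assoc, ← h.eq]; group

/-- the action of `z₂(v)` on `Q₂` -/
theorem q5_z2 (α β γ δ ε v : F) : (S.e 2 0 v)⁻¹ * q5 S α β γ δ ε * S.e 2 0 v =
    q5 S α β (γ + σ α * v) (δ + α * v) (ε + β * v + α * σ v) := by
  have h7 : (S.e 2 0 v)⁻¹ * S.e 7 0 α * S.e 2 0 v = q5 S α 0 (σ α * v) (α * v) (α * σ v) := by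
    have h := Fam.s_conj (S := S) α v
    rw [h]
    unfold Fam.c
    rw [z7_eq, z0_eq, o0_eq, z1_eq, q5_mul, q5_mul, q5_mul]
    simp
  have ho : (S.e 2 0 v)⁻¹ * S.o 7 β * S.e 2 0 v = q5 S 0 β 0 0 (β * v) := by
    have h : S.o 7 β * S.e 2 0 v = S.e 2 0 v * S.o 7 β * S.e 1 0 (β * v) := o_z3 S 7 β v
    calc (S.e 2 0 v)⁻¹ * S.o 7 β * S.e 2 0 v = (S.e 2 0 v)⁻¹ * (S.o 7 β * S.e 2 0 v) := by group
      _ = S.o 7 β * S.e 1 0 (β * v) := by rw [h]; group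
      _ = _ := by rw [o7_eq, z1_eq, q5_mul]; simp
  have h0 : (S.e 2 0 v)⁻¹ * S.e 0 0 γ * S.e 2 0 v = q5 S 0 0 γ 0 0 := by
    exact (conj_comm (e_e2' S 0 0 γ 0 v).symm).trans (z0_eq S _)
  have ho0 : (S.e 2 0 v)⁻¹ * S.o 0 δ * S.e 2 0 v = q5 S 0 0 0 δ 0 := by
    exact (conj_comm (o_z2 S 0 δ v).symm).trans (o0_eq S _)
  have h1 : (S.e 2 0 v)⁻¹ * S.e 1 0 ε * S.e 2 0 v = q5 S 0 0 0 0 ε := by
    exact (conj_comm (e_z1 S 1 0 ε v).symm).trans (z1_eq S _)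
  have := conj_prod h7 ho h0 ho0 h1
  have e1 : q5 S α β γ δ ε = S.e 7 0 α * S.o 7 β * S.e 0 0 γ * S.o 0 δ * S.e 1 0 ε := rfl
  rw [e1, this]
  simp only [q5_mul]
  congr 1 <;> ring

/-- the action of `e₂(p, u)` on `z₀ o₀ z₁` -/
theorem q5_e2 (γ δ ε p u : F) : (S.e 2 p u)⁻¹ * q5 S 0 0 γ δ ε * S.e 2 p u = q5 S 0 0 γ δ (ε + δ * p) := by
  have h7 : (S.e 2 p u)⁻¹ * S.e 7 0 0 * S.e 2 p u = q5 S 0 0 0 0 0 := by
    rw [e_zero, q5_zero]; group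
  have ho : (S.e 2 p u)⁻¹ * S.o 7 0 * S.e 2 p u = q5 S 0 0 0 0 0 := by
    rw [o_zero, q5_zero]; group
  have h0 : (S.e 2 p u)⁻¹ * S.e 0 0 γ * S.e 2 p u = q5 S 0 0 γ 0 0 := by
    exact (conj_comm (e_e2' S 0 0 γ p u).symm).trans (z0_eq S _)
  have ho0 : (S.e 2 p u)⁻¹ * S.o 0 δ * S.e 2 p u = q5 S 0 0 0 δ (δ * p) := by
    have h : S.o 0 δ * S.e 2 p u = S.e 2 p u * S.o 0 δ * S.e 1 0 (δ * p) := S.o_e2 0 δ p u
    calc (S.e 2 p u)⁻¹ * S.o 0 δ * S.e 2 p u = (S.e 2 p u)⁻¹ * (S.o 0 δ * S.e 2 p u) := by group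
      _ = S.o 0 δ * S.e 1 0 (δ * p) := by rw [h]; group
      _ = _ := by rw [o0_eq, z1_eq, q5_mul]; simp
  have h1 : (S.e 2 p u)⁻¹ * S.e 1 0 ε * S.e 2 p u = q5 S 0 0 0 0 ε := by
    exact (conj_comm (z_e1 S 1 ε p u).symm).trans (z1_eq S _)
  have := conj_prod h7 ho h0 ho0 h1
  have e1 : q5 S 0 0 γ δ ε = S.e 7 0 0 * S.o 7 0 * S.e 0 0 γ * S.o 0 δ * S.e 1 0 ε := rfl
  rw [e1, this]
  simp only [q5_mul]
  congr 1 <;> ring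

/-- fixed points of `E₂` on `Q₂ / Z₀` -/
theorem fix_E2 (hU : Uniq S) {α β γ δ ε : F}
    (h : ∀ p u, ∃ k, (S.e 2 p u)⁻¹ * q5 S α β γ δ ε * S.e 2 p u = q5 S α β γ δ ε * S.e 0 0 k) :
    α = 0 ∧ β = 0 ∧ δ = 0 := by
  obtain ⟨k, hk⟩ := h 0 1
  rw [q5_z2, z0_eq, q5_mul] at hk
  obtain ⟨-, -, -, h1, h2⟩ := hU _ _ _ _ _ _ _ _ _ _ hk
  have hα : α = 0 := by
    rw [mul_one, add_zero] at h1
    exact add_eq_left.mp h1
  subst hα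
  have hβ : β = 0 := by
    rw [mul_one, zero_mul, add_zero, add_zero] at h2
    exact add_eq_left.mp h2
  subst hβ
  obtain ⟨k', hk'⟩ := h 1 0
  rw [q5_e2, z0_eq, q5_mul] at hk'
  obtain ⟨-, -, -, -, h3⟩ := hU _ _ _ _ _ _ _ _ _ _ hk'
  rw [mul_one, add_zero] at h3
  exact ⟨rfl, rfl, add_eq_left.mp h3⟩

/-- the action of `o₁(s)` on `Q₂` -/
theorem q5_o1 (α β γ δ ε s : F) : (S.o 1 s)⁻¹ * q5 S α β γ δ ε * S.o 1 s = q5 S α β (γ + α * s) δ ε := by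
  have h7 : (S.o 1 s)⁻¹ * S.e 7 0 α * S.o 1 s = q5 S α 0 (α * s) 0 0 := by
    have h : S.e 7 0 α * S.o 1 s = S.o 1 s * S.e 7 0 α * S.e 0 0 (α * s) := by
      have := S.e_o2 7 0 α s
      simp only [map_zero, zero_mul, zero_add, o_zero, e_zero, mul_one] at this
      exact this
    calc (S.o 1 s)⁻¹ * S.e 7 0 α * S.o 1 s = (S.o 1 s)⁻¹ * (S.e 7 0 α * S.o 1 s) := by group
      _ = S.e 7 0 α * S.e 0 0 (α * s) := by rw [h]; group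
      _ = _ := by rw [z7_eq, z0_eq, q5_mul]; simp
  have ho : (S.o 1 s)⁻¹ * S.o 7 β * S.o 1 s = q5 S 0 β 0 0 0 := by
    exact (conj_comm (o_o2' S 7 β s).symm).trans (o7_eq S _)
  have h0 : (S.o 1 s)⁻¹ * S.e 0 0 γ * S.o 1 s = q5 S 0 0 γ 0 0 := by
    exact (conj_comm (z_o1 S 0 γ s).symm).trans (z0_eq S _)
  have ho0 : (S.o 1 s)⁻¹ * S.o 0 δ * S.o 1 s = q5 S 0 0 0 δ 0 := by
    exact (conj_comm (o_o1' S 0 δ s).symm).trans (o0_eq S _)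
  have h1 : (S.o 1 s)⁻¹ * S.e 1 0 ε * S.o 1 s = q5 S 0 0 0 0 ε := by
    exact (conj_comm (e_o0' S 1 0 ε s).symm).trans (z1_eq S _)
  have := conj_prod h7 ho h0 ho0 h1
  have e1 : q5 S α β γ δ ε = S.e 7 0 α * S.o 7 β * S.e 0 0 γ * S.o 0 δ * S.e 1 0 ε := rfl
  rw [e1, this]
  simp only [q5_mul]
  congr 1 <;> ring

/-- the action of `e₁(p, u)` on `Q₂` -/
theorem q5_e1 (α β γ δ ε p u : F) : (S.e 1 p u)⁻¹ * q5 S α β γ δ ε * S.e 1 p u = q5 S α β (γ + β * p) δ ε := by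
  have h7 : (S.e 1 p u)⁻¹ * S.e 7 0 α * S.e 1 p u = q5 S α 0 0 0 0 := by
    exact (conj_comm (e_e2' S 7 0 α p u).symm).trans (z7_eq S _)
  have ho : (S.e 1 p u)⁻¹ * S.o 7 β * S.e 1 p u = q5 S 0 β (β * p) 0 0 := by
    have h : S.o 7 β * S.e 1 p u = S.e 1 p u * S.o 7 β * S.e 0 0 (β * p) := S.o_e2 7 β p u
    calc (S.e 1 p u)⁻¹ * S.o 7 β * S.e 1 p u = (S.e 1 p u)⁻¹ * (S.o 7 β * S.e 1 p u) := by group
      _ = S.o 7 β * S.e 0 0 (β * p) := by rw [h]; group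
      _ = _ := by rw [o7_eq, z0_eq, q5_mul]; simp
  have h0 : (S.e 1 p u)⁻¹ * S.e 0 0 γ * S.e 1 p u = q5 S 0 0 γ 0 0 := by
    exact (conj_comm (z_e1 S 0 γ p u).symm).trans (z0_eq S _)
  have ho0 : (S.e 1 p u)⁻¹ * S.o 0 δ * S.e 1 p u = q5 S 0 0 0 δ 0 := by
    exact (conj_comm (o_e1' S 0 δ p u).symm).trans (o0_eq S _)
  have h1 : (S.e 1 p u)⁻¹ * S.e 1 0 ε * S.e 1 p u = q5 S 0 0 0 0 ε := by
    exact (conj_comm (z_ee S 1 ε p u).symm).trans (z1_eq S _)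
  have := conj_prod h7 ho h0 ho0 h1
  have e1 : q5 S α β γ δ ε = S.e 7 0 α * S.o 7 β * S.e 0 0 γ * S.o 0 δ * S.e 1 0 ε := rfl
  rw [e1, this]
  simp only [q5_mul]
  congr 1 <;> ring

/-- `E₀` centralises `Q₂` -/
theorem q5_e0 (α β γ δ ε p u : F) : Commute (S.e 0 p u) (q5 S α β γ δ ε) := by
  unfold q5
  exact ((((z_e1 S 7 α p u).symm.mul_right (o_e1' S 7 β p u).symm).mul_right (z_ee S 0 γ p u).symm).mul_right
    (e_o0' S 0 p u δ)).mul_right (e_z1 S 0 p u ε)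

end

end Cfsg.Agent.OddHalf.D4.TwF.QTwo
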