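import Cfsg.Agent.OddHalf.D4.TwF.XFacts

/-!
# ODD D4, `K = ²F₄(q)`: pairs of type `Z` and of type `O` do not exist
-/

set_option autoImplicit false
set_option linter.unusedSectionVars false

namespace Cfsg.Agent.OddHalf.D4.TwF.Types

open Subgroup Cfsg.Agent.KFacts.TwF4 Cfsg.Agent.OddHalf.D4.TwF.Pair Cfsg.Agent.OddHalf.D4.TwF.XFacts
open Cfsg.Agent.SplitTwo Cfsg.Agent.SplitTwo.ZS Cfsg.Agent.TitsThree.RankTwoZ Cfsg.Agent.TitsThree.RankTwoRGD
open Cfsg.Agent.SplitTwo.RootSysZ Cfsg.Agent.KFacts.TwF4.Inv Cfsg.Agent.OddHalf.D4 Cfsg.Agent.OddHalf.D4.Basic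
open Cfsg.Agent.OddHalf.D4.TwF.Gnorm (conj_inv_mem)
open Cfsg.Agent.OddHalf.D4.CommConj (cj mem_cj cj_mul card_cj mem_cj_mul)

universe u

section X

variable {F : Type*} [Field F] {σ : F →+* F} {X : Type u} [Group X]
variable (S : Full σ X) [Finite F] [Finite X]

theorem isSyl_U (hF : ∃ c : Fˣ, c ≠ 1) (hR : S.R.p = 2) : IsSyl (J S.XZ 1 8) (⊤ : Subgroup X) := by
  obtain ⟨P, hP⟩ := SylU.exists_sylow S hF hR
  refine ⟨?_, le_top, ?_⟩
  · rw [← hP]; exact P.2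
  · intro Q hQ hle _
    rw [← hP] at hle ⊢
    exact (P.3 hQ hle).le

/-- `|C(Z_4)| ≠ |C(X_5)|` -/
theorem card_ne (hF : ∃ c : Fˣ, c ≠ 1) (hR : S.R.p = 2) : Nat.card S.PL ≠ Nat.card S.HO := by
  intro hcard
  have : Fact (Nat.Prime 2) := ⟨Nat.prime_two⟩
  have hU := isSyl_U S hF hR
  obtain ⟨n, hn⟩ := IsPGroup.iff_card.1 hU.two
  have hdvd : 2 ^ n ∣ Nat.card S.HO := by
    rw [← hcard, ← hn]
    exact card_dvd_of_le (J_mono (by norm_num) le_rfl)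
  obtain ⟨V, hV⟩ := Sylow.exists_subgroup_card_pow_prime 2 hdvd
  have hV2 : Nat.card (V.map S.HO.subtype) = 2 ^ n := by
    rw [card_map_of_injective (subtype_injective _), hV]
  obtain ⟨x, -, hx⟩ := hU.conj_into (Q := V.map S.HO.subtype) (IsPGroup.iff_card.2 ⟨n, hV2⟩) le_top
  have h1 : cj x (V.map S.HO.subtype) ≤ J S.XZ 1 8 := by
    intro y hy
    have h2 := hx _ (mem_cj.1 hy)
    have e : x * (x⁻¹ * y * x) * x⁻¹ = y := by group
    rwa [e] at h2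
  have h2 : cj x (V.map S.HO.subtype) = J S.XZ 1 8 := eq_of_le_of_card_ge h1 (by rw [card_cj, hV2, hn])
  have h3 : x * S.o 2 1 * x⁻¹ ∈ S.Zc 2 := by
    rw [← S.centralizer_Q, mem_centralizer_iff]
    intro q hq
    have hq8 : q ∈ J S.XZ 1 8 := J_mono le_rfl (by norm_num) hq
    rw [← h2, mem_cj] at hq8
    obtain ⟨v, hv, e⟩ := hq8
    have e' : x⁻¹ * q * x = v := e.symm
    have h4 : S.o 2 1 * (v : X) = v * S.o 2 1 := mem_centralizer_iff.1 (S.HO_le_cent v.2) _ (S.mX5 1)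
    calc q * (x * S.o 2 1 * x⁻¹) = x * ((x⁻¹ * q * x) * S.o 2 1) * x⁻¹ := by group
      _ = x * (S.o 2 1 * (x⁻¹ * q * x)) * x⁻¹ := by rw [e', h4]
      _ = _ := by group
  exact S.not_conj h3 one_ne_zero x⁻¹ (by group)

/-- `[V, C(X_5)] ≤ Z_4 Z_6` -/
theorem V5_comm {v h : X} (hv : v ∈ S.V5) (hh : h ∈ S.HO) : v⁻¹ * (h * v * h⁻¹) ∈ S.W46 := by
  obtain ⟨a, s, b, rfl⟩ := S.mem_V5.1 hv
  have hy : S.o 2 s ∈ J S.XZ 1 9 := mem_J (S.mX5 s) (by norm_num) (by norm_num)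
  have hs : h * S.o 2 s * h⁻¹ = S.o 2 s := by
    have h4 : S.o 2 s * h = h * S.o 2 s := mem_centralizer_iff.1 (S.HO_le_cent hh) _ (S.mX5 s)
    rw [← h4]; group
  have hW := Perf.HO_le_J S hh
  have h1 := S.W46_conj hW (S.Z4_W46 a)
  have h2 := S.W46_conj hW (S.Z6_W46 b)
  have h3 : (S.e 2 0 a)⁻¹ * (h * S.e 2 0 a * h⁻¹) ∈ S.W46 := mul_mem (inv_mem (S.Z4_W46 a)) h1
  have h4 := S.W46_conj (inv_mem hy) h3
  rw [inv_inv] at h4
  have e : (S.e 2 0 a * S.o 2 s * S.e 3 0 b)⁻¹ * (h * (S.e 2 0 a * S.o 2 s * S.e 3 0 b) * h⁻¹) =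
      (S.e 3 0 b)⁻¹ * ((S.o 2 s)⁻¹ * ((S.e 2 0 a)⁻¹ * (h * S.e 2 0 a * h⁻¹)) * S.o 2 s) *
        (h * S.e 3 0 b * h⁻¹) := by
    calc _ = (S.e 3 0 b)⁻¹ * ((S.o 2 s)⁻¹ * ((S.e 2 0 a)⁻¹ * (h * S.e 2 0 a * h⁻¹)) * (h * S.o 2 s * h⁻¹)) *
        (h * S.e 3 0 b * h⁻¹) := by group
      _ = _ := by rw [hs]
  rw [e]
  exact mul_mem (mul_mem (inv_mem (S.Z6_W46 b)) h4) h2

omit [Finite F] [Finite X] in
theorem o0_z3 (t v : F) : S.o 0 t * S.e 3 0 v * (S.o 0 t)⁻¹ = S.e 3 0 v * S.e 2 0 (t * v) := by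
  have h1 : S.o 0 t * S.e 3 0 v = S.e 3 0 v * S.o 0 t * S.e 2 0 (t * v) := by
    have h := S.o_e3 0 t 0 v
    rw [map_zero, mul_zero, mul_zero, mul_zero, zero_add (t * v)] at h
    have h' : S.o 0 t * S.e 3 0 v = S.e 3 0 v * S.o 0 t * S.e 1 0 0 * S.o 1 0 * S.e 2 0 (t * v) := h
    rw [S.e_zero, S.o_zero, mul_one, mul_one] at h'
    exact h'
  have h2 : S.o 0 t * S.e 2 0 (t * v) = S.e 2 0 (t * v) * S.o 0 t :=
    S.comm_Z4 (k := 1) (by norm_num) (by norm_num) (S.mX1 t) _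
  rw [h1, mul_assoc (S.e 3 0 v), h2]; group

omit [Finite F] [Finite X] in
/-- the elements of `Z_4 Z_6` are conjugate to elements of `Z_4` -/
theorem W46_type {x : X} (hx : x ∈ S.W46) (hx1 : x ≠ 1) : ∃ k : X, ∃ u : F, u ≠ 0 ∧ x = k * S.e 2 0 u * k⁻¹ := by
  obtain ⟨u, v, rfl⟩ := hx
  by_cases hv : v = 0
  · subst hv
    rw [S.e_zero, mul_one] at hx1 ⊢
    refine ⟨1, u, ?_, by simp⟩
    rintro rfl
    exact hx1 (S.e_zero _)
  · have h1 := o0_z3 S (u / v) v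
    rw [div_mul_cancel₀ _ hv] at h1
    have h2 : S.n1 * S.e 2 0 v * S.n1⁻¹ = S.e 3 0 v := S.n1_e 2 0 v
    have h3 : S.e 2 0 u * S.e 3 0 v = S.e 3 0 v * S.e 2 0 u :=
      (S.comm_Z4 (k := 6) (by norm_num) (by norm_num) (S.mX6 0 v) u).symm
    refine ⟨S.o 0 (u / v) * S.n1, v, hv, ?_⟩
    rw [h3, ← h1, ← h2]; group

omit [Finite F] [Finite X] in
/-- `e_1(1, 0)` moves `X_5` -/
theorem e1_o2 (s : F) : S.e 1 1 0 * S.o 2 s * (S.e 1 1 0)⁻¹ = S.o 2 s * S.e 2 0 s := by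
  have h1 : S.e 1 1 0 * S.o 2 s = S.o 2 s * S.e 1 1 0 * S.e 2 0 s := by
    have h := S.e_o1 1 1 0 s
    rw [one_mul] at h
    exact h
  have h2 : S.e 1 1 0 * S.e 2 0 s = S.e 2 0 s * S.e 1 1 0 :=
    S.comm_Z4 (k := 2) (by norm_num) (by norm_num) (S.mX2 1 0) _
  rw [h1, mul_assoc (S.o 2 s), h2]; group

omit [Finite F] [Finite X] in
/-- `z_2(s) = z_3(1)⁻¹ o_0(s) z_3(1) o_0(s)⁻¹` -/
theorem z2_comm (s : F) : S.e 2 0 s = (S.e 3 0 1)⁻¹ * (S.o 0 s * S.e 3 0 1 * (S.o 0 s)⁻¹) := by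
  rw [o0_z3, mul_one]; group

end X

section G

variable {F : Type*} [Field F] [CharP F 2] {σ : F →+* F} {X : Type u} [Group X]
variable (S : Full σ X) [Finite F] [Finite X]
variable {G : Type*} [Group G] [Finite G] {j : X →* G} (hj : Function.Injective j) {L A W : Subgroup G}

include hj in
/-- **the second centralizer**: `C_K(k) = C_L(l)` -/
theorem match_cent (h : PP j.range L A W) {x0 : X} {z : G} (hu : j x0 * z ∈ W) (hu1 : j x0 * z ≠ 1) (hz : z ∈ A) :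
    ∃ (g : G) (x' : X), L = cj g j.range ∧ W = cj g A ∧ x' ≠ 1 ∧ x' * x' = 1 ∧
      cj g ((centralizer {x'}).map j) = (centralizer {x0}).map j := by
  obtain ⟨g, hL, hW⟩ := h.exists_g
  have hc := h.cent_le hu hu1 (h.sq hu) ⟨x0, rfl⟩ hz rfl
  obtain ⟨t, ht, ht1, htt⟩ := h.symm.exists_inv
  obtain ⟨l, hl, w, hw, -, e⟩ := h.symm.dec ht
  have hc' := h.symm.cent_le ht ht1 htt hl hw e
  have hl' := hl
  rw [hL, mem_cj] at hl'
  obtain ⟨x', hx'⟩ := hl'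
  have hl1 : l = g * j x' * g⁻¹ := by rw [hx']; group
  refine ⟨g, x', hL, hW, ?_, ?_, ?_⟩
  · rintro rfl
    apply hc'.1
    rw [hl1, map_one]; group
  · apply hj
    rw [map_mul, map_one]
    calc j x' * j x' = g⁻¹ * (l * l) * g := by rw [hl1]; group
      _ = 1 := by rw [hc'.2.1]; group
  · rw [← range_inf_cent hj, ← range_inf_cent hj]
    have h1 : cj g (j.range ⊓ centralizer {j x'}) = L ⊓ centralizer {l} := by
      ext y
      rw [mem_cj, mem_Cw, mem_Cw, hL, mem_cj]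
      refine and_congr_right fun _ => ?_
      rw [hl1]
      constructor
      · intro h1
        calc y * (g * j x' * g⁻¹) = g * (g⁻¹ * y * g * j x') * g⁻¹ := by group
          _ = _ := by rw [h1]; group
      · intro h1
        calc g⁻¹ * y * g * j x' = g⁻¹ * (y * (g * j x' * g⁻¹)) * g := by group
          _ = _ := by rw [h1]; group
    rw [h1]
    apply le_antisymm
    · intro y hy
      have hyK := hc'.2.2 hy
      have hyL := (mem_Cw.1 hy).1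
      refine mem_Cw.2 ⟨hyK, ?_⟩
      have h2 : y * (j x0 * z) = (j x0 * z) * y := comm_of_cen hyL (h.fp.sylU.le hu)
      have h3 : y * z = z * y := comm_of_cen hyK (h.fp.sylQ.le hz)
      have h4 : (y * j x0) * z = (j x0 * y) * z := by
        calc (y * j x0) * z = y * (j x0 * z) := by group
          _ = j x0 * (z * y) := by rw [h2]; group
          _ = _ := by rw [← h3]; group
      exact mul_right_cancel h4
    · intro y hy
      have hyL := hc.2.2 hy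
      have hyK := (mem_Cw.1 hy).1
      refine mem_Cw.2 ⟨hyL, ?_⟩
      have h2 : y * t = t * y := comm_of_cen hyK (h.fp.sylQ.le ht)
      have h3 : y * w = w * y := comm_of_cen hyL (h.fp.sylU.le hw)
      rw [e] at h2
      have h4 : (y * l) * w = (l * y) * w := by
        calc (y * l) * w = y * (l * w) := by group
          _ = l * (w * y) := by rw [h2]; group
          _ = _ := by rw [← h3]; group
      exact mul_right_cancel h4

/-- the `K`-parts of the elements of `W` -/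
theorem part (h : PP j.range L A W) {x0 : X} {z : G} (hu : j x0 * z ∈ W) (hu1 : j x0 * z ≠ 1) (hz : z ∈ A) {r : G}
    (hr : r ∈ A) : ∃ y : X, r * j y ∈ W ∧ ∀ x, x * x0 = x0 * x → j (x * y) = j (y * x) := by
  obtain ⟨v, hv, k, ⟨y, rfl⟩, e⟩ := h.surj r hr
  refine ⟨y, ?_, ?_⟩
  · have h1 : j y * r = r * j y := comm_of_cen (K := j.range) ⟨y, rfl⟩ (h.fp.sylQ.le hr)
    rw [← h1, ← e]; exact hv
  · intro x hx
    rw [map_mul, map_mul]
    refine h.part_comm hu hu1 (h.sq hu) ⟨x0, rfl⟩ hz rfl hv hr e _ ⟨x, rfl⟩ ?_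
    rw [← map_mul, hx, map_mul]

theorem amb (h : PP j.range L A W) : DblR.Amb j.range A where
  tt _ ht := h.symm.sq ht
  comm _ ht _ hk := (comm_of_cen hk (h.fp.sylQ.le ht)).symm
  nor _ ht ht1 _ hg k hk :=
    (mem_normalizer_iff.1 (h.tK.mem (h.fp.sylQ.le ht) (orderOf_two ht1 (h.symm.sq ht)) hg) k).1 hk
  ctr k hk hc := h.sK.cen k hk (mem_centralizer_iff.2 fun x hx => (hc x hx).symm)

include hj in
/-- **type `Z`** -/
theorem false_Z1 (hxf : XF X) (hF : ∃ c : Fˣ, c ≠ 1) (hR : S.R.p = 2) (h : PP j.range L A W)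
    (hA : ∀ t ∈ A, t ≠ 1 → ∃ r ∈ A, r ≠ 1 ∧ r ≠ t) {b : F} {z : G} (hb : b ≠ 0)
    (hu : j (S.e 2 0 b) * z ∈ W) (hz : z ∈ A) : False := by
  have hb1 : S.e 2 0 b ≠ 1 := fun h => hb (S.e_eq_one h).2
  have hcb := S.centralizer_z ⟨b, rfl⟩ hb1
  have hu1 : j (S.e 2 0 b) * z ≠ 1 := by
    intro h1
    have h2 := (decomp_unique h.sK.cen (k := j (S.e 2 0 b)) (c := z) (k' := 1) (c' := 1) ⟨_, rfl⟩ (h.fp.sylQ.le hz)
      (one_mem _) (one_mem _) (by rw [h1, one_mul])).1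
    exact hb1 (hj (by rw [h2, map_one]))
  obtain ⟨g, x', hL, hW, hx1, hxx, hm⟩ := match_cent hj h hu hu1 hz
  rw [hcb] at hm
  rcases types S hF hR hx1 hxx with ⟨y, b', hb', rfl⟩ | ⟨y, s, hs, rfl⟩
  · rw [cent_conj, S.centralizer_z ⟨b', rfl⟩ fun h => hb' (S.e_eq_one h).2] at hm
    have hyA : cj (j y) A = A := cj_of_comm fun a ha => comm_of_cen (K := j.range) ⟨y, rfl⟩ (h.fp.sylQ.le ha)
    have hyP : (cj y S.PL).map j = cj (j y) (S.PL.map j) := by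
      ext w
      rw [mem_cj]
      constructor
      · rintro ⟨x, hx, rfl⟩
        rw [SetLike.mem_coe, mem_cj] at hx
        exact ⟨_, hx, by simp⟩
      · rintro ⟨x, hx, e⟩
        refine ⟨y * x * y⁻¹, ?_, ?_⟩
        · exact mem_cj_mul hx
        · rw [map_mul, map_mul, map_inv, e]; group
    rw [hyP, ← cj_mul] at hm
    have hg : ∀ x ∈ S.PL.map j, (g * j y) * x * (g * j y)⁻¹ ∈ S.PL.map j := by
      intro x hx
      rw [← hm]
      exact mem_cj_mul hx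
    have hW' : W = cj (g * j y) A := by rw [cj_mul, hyA, hW]
    have hu' := hu
    obtain ⟨t, ht, ht1, -⟩ := h.symm.exists_inv
    obtain ⟨r, hr, hr1, hrt⟩ := hA t ht ht1
    have hkill := Kill.kill S hj hF hR hxf.inner (amb h) hg (fun r hr => by
      obtain ⟨y', hy', hc⟩ := part h hu hu1 hz hr
      have h3 : y' ∈ S.Zc 2 := S.center_PL fun x hx => hj (hc x (by
        rw [← hcb] at hx
        exact mem_centralizer_singleton_iff.1 hx)).symm
      obtain ⟨b', rfl⟩ := h3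
      exact ⟨b', by rw [← hW']; exact hy'⟩) (fun r hr hrW => h.A_W (by rw [hW']; exact hrW) hr)
      (fun b' hb' => by
        have h3 := h.K_W (by rw [hW']; exact hb') ⟨_, rfl⟩
        exact (S.e_eq_one (hj (h3.trans (map_one j).symm))).2) ht ht1
    rcases hkill r hr with h4 | h4
    · exact hr1 h4
    · exact hrt h4
  · rw [cent_conj, S.centralizer_o hs] at hm
    have h1 : Nat.card S.PL = Nat.card S.HO := by
      rw [← card_map_of_injective hj (K := S.PL), ← hm, card_cj, card_map_of_injective (f := j) hj, card_cj]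
    exact card_ne S hF hR h1

theorem conj_part {y x0 : X} {z : G} (h : PP j.range L A W) (hu : j (y * x0 * y⁻¹) * z ∈ W) (hz : z ∈ A) :
    PP j.range (cj (j y)⁻¹ L) A (cj (j y)⁻¹ W) ∧ j x0 * z ∈ cj (j y)⁻¹ W := by
  refine ⟨h.conjK (inv_mem ⟨y, rfl⟩), ?_⟩
  rw [mem_cj, inv_inv]
  have h1 : j y * z = z * j y := comm_of_cen (K := j.range) ⟨y, rfl⟩ (h.fp.sylQ.le hz)
  have e : j y * (j x0 * z) * (j y)⁻¹ = j (y * x0 * y⁻¹) * z := by
    rw [map_mul, map_mul, map_inv]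
    have h2 : (j y)⁻¹ * z = z * (j y)⁻¹ := (show Commute (j y) z from h1).inv_left.eq
    calc j y * (j x0 * z) * (j y)⁻¹ = j y * j x0 * (z * (j y)⁻¹) := by group
      _ = _ := by rw [← h2]; group
  rw [e]; exact hu

include hj in
/-- **type `Z`** -/
theorem false_Z (hxf : XF X) (hF : ∃ c : Fˣ, c ≠ 1) (hR : S.R.p = 2) (h : PP j.range L A W)
    (hA : ∀ t ∈ A, t ≠ 1 → ∃ r ∈ A, r ≠ 1 ∧ r ≠ t) {y : X} {b : F} {z : G} (hb : b ≠ 0)
    (hu : j (y * S.e 2 0 b * y⁻¹) * z ∈ W) (hz : z ∈ A) : False := by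
  obtain ⟨h1, h2⟩ := conj_part h hu hz
  exact false_Z1 S hj hxf hF hR h1 hA hb h2 hz

include hj in
/-- **type `O`** -/
theorem false_O1 (hxf : XF X) (hF : ∃ c : Fˣ, c ≠ 1) (hR : S.R.p = 2) (h : PP j.range L A W)
    (hA : ∀ t ∈ A, t ≠ 1 → ∃ r ∈ A, r ≠ 1 ∧ r ≠ t) {s : F} {z : G} (hs : s ≠ 0)
    (hu : j (S.o 2 s) * z ∈ W) (hz : z ∈ A) : False := by
  have hs1 : S.o 2 s ≠ 1 := fun h => hs (S.o_eq_one h)
  have hcs := S.centralizer_o hs
  have hu1 : j (S.o 2 s) * z ≠ 1 := by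
    intro h1
    have h2 := (decomp_unique h.sK.cen (k := j (S.o 2 s)) (c := z) (k' := 1) (c' := 1) ⟨_, rfl⟩ (h.fp.sylQ.le hz)
      (one_mem _) (one_mem _) (by rw [h1, one_mul])).1
    exact hs1 (hj (by rw [h2, map_one]))
  obtain ⟨g, x', hL, hW, hx1, hxx, hm⟩ := match_cent hj h hu hu1 hz
  rw [hcs] at hm
  rcases types S hF hR hx1 hxx with ⟨y, b', hb', rfl⟩ | ⟨y, s', hs', rfl⟩
  · rw [cent_conj, S.centralizer_z ⟨b', rfl⟩ fun h => hb' (S.e_eq_one h).2] at hm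
    have h1 : Nat.card S.PL = Nat.card S.HO := by
      rw [← card_map_of_injective hj (K := S.HO), ← hm, card_cj, card_map_of_injective (f := j) hj, card_cj]
    exact card_ne S hF hR h1
  rw [cent_conj, S.centralizer_o hs'] at hm
  have hyA : cj (j y) A = A := cj_of_comm fun a ha => comm_of_cen (K := j.range) ⟨y, rfl⟩ (h.fp.sylQ.le ha)
  have hyP : (cj y S.HO).map j = cj (j y) (S.HO.map j) := by
    ext w
    rw [mem_cj]
    constructor
    · rintro ⟨x, hx, rfl⟩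
      rw [SetLike.mem_coe, mem_cj] at hx
      exact ⟨_, hx, by simp⟩
    · rintro ⟨x, hx, e⟩
      refine ⟨y * x * y⁻¹, ?_, ?_⟩
      · exact mem_cj_mul hx
      · rw [map_mul, map_mul, map_inv, e]; group
  rw [hyP, ← cj_mul] at hm
  have hyK : cj (j y) j.range = j.range := cj_self fun w hw =>
    mul_mem (mul_mem ⟨y, rfl⟩ hw) (inv_mem ⟨y, rfl⟩)
  set g' := g * j y with hg'
  have hW' : W = cj g' A := by rw [hg', cj_mul, hyA, hW]
  have hL' : L = cj g' j.range := by rw [hg', cj_mul, hyK, hL]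
  have hgH : ∀ x ∈ S.HO.map j, g' * x * g'⁻¹ ∈ S.HO.map j := by
    intro x hx
    have h3 : g' * x * g'⁻¹ ∈ cj g' (S.HO.map j) := mem_cj_mul hx
    rwa [hm] at h3
  -- the elements of `W`
  set c := j (S.e 1 1 0) with hc
  have hpart : ∀ v ∈ W, ∃ s' : F, c * v * c⁻¹ = v * j (S.e 2 0 s') := by
    intro v hv
    obtain ⟨k, ⟨y', rfl⟩, r, hr, -, e⟩ := h.dec hv
    have hcomm : ∀ x, x * S.o 2 s = S.o 2 s * x → x * y' = y' * x := by
      intro x hx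
      apply hj
      rw [map_mul, map_mul]
      refine h.part_comm hu hu1 (h.sq hu) ⟨_, rfl⟩ hz rfl hv hr e _ ⟨x, rfl⟩ ?_
      rw [← map_mul, hx, map_mul]
    have h3 : y' ∈ S.HO := by
      rw [← hcs, mem_centralizer_singleton_iff]
      exact (hcomm _ rfl).symm
    have h4 : y' ∈ S.XZ 5 := S.center_HO h3 fun x hx => (hcomm x (by
      rw [← hcs] at hx
      exact mem_centralizer_singleton_iff.1 hx)).symm
    obtain ⟨s', rfl⟩ := S.X5 h4
    refine ⟨s', ?_⟩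
    have h5 : c * r = r * c := comm_of_cen (K := j.range) ⟨_, rfl⟩ (h.fp.sylQ.le hr)
    have h6 : r * j (S.e 2 0 s') = j (S.e 2 0 s') * r :=
      (comm_of_cen (K := j.range) ⟨_, rfl⟩ (h.fp.sylQ.le hr)).symm
    have h7 : c * j (S.o 2 s') * c⁻¹ = j (S.o 2 s') * j (S.e 2 0 s') := by
      rw [hc, ← map_inv, ← map_mul, ← map_mul, e1_o2, map_mul]
    rw [e]
    calc c * (j (S.o 2 s') * r) * c⁻¹ = c * j (S.o 2 s') * (r * c) * c⁻¹ * c⁻¹ := by group
      _ = (c * j (S.o 2 s') * c⁻¹) * (c * (c * r * c⁻¹) * c⁻¹) := by rw [← h5]; group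
      _ = (c * j (S.o 2 s') * c⁻¹) * r := by
          have e9 : c * r * c⁻¹ = r := by rw [h5]; group
          rw [e9, e9]
      _ = j (S.o 2 s') * (r * j (S.e 2 0 s')) := by rw [h7, h6]; group
      _ = _ := by group
  have hc_s : c * (j (S.o 2 s) * z) * c⁻¹ = j (S.o 2 s) * z * j (S.e 2 0 s) := by
    have h5 : c * z * c⁻¹ = z := by
      rw [comm_of_cen (K := j.range) (k := c) ⟨_, rfl⟩ (h.fp.sylQ.le hz)]; group
    have h6 : z * j (S.e 2 0 s) = j (S.e 2 0 s) * z :=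
      (comm_of_cen (K := j.range) ⟨_, rfl⟩ (h.fp.sylQ.le hz)).symm
    have h7 : c * j (S.o 2 s) * c⁻¹ = j (S.o 2 s) * j (S.e 2 0 s) := by
      rw [hc, ← map_inv, ← map_mul, ← map_mul, e1_o2, map_mul]
    calc c * (j (S.o 2 s) * z) * c⁻¹ = (c * j (S.o 2 s) * c⁻¹) * (c * z * c⁻¹) := by group
      _ = j (S.o 2 s) * (j (S.e 2 0 s) * z) := by rw [h5, h7]; group
      _ = _ := by rw [← h6]; group
  -- `j (Z_4) ≤ L`
  have hZL : ∀ s' : F, j (S.e 2 0 s') ∈ L := by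
    intro s'
    refine (h.cent_le hu hu1 (h.sq hu) ⟨_, rfl⟩ hz rfl).2.2 ?_
    rw [range_inf_cent hj, hcs]
    exact ⟨_, Perf.J37_HO S (mem_J (S.mX4 0 s') (by norm_num) (by norm_num)), rfl⟩
  -- `c ∉ N(L)`
  have hcL : c ∉ normalizer (L : Set G) := by
    intro hcn
    have h3 := centralizer_conj_mem hcn (h.fp.sylU.le hu)
    rw [hc_s] at h3
    have h4 : j (S.e 2 0 s) ∈ centralizer (L : Set G) := by
      have h5 := mul_mem (inv_mem (h.fp.sylU.le hu)) h3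
      have e : (j (S.o 2 s) * z)⁻¹ * (j (S.o 2 s) * z * j (S.e 2 0 s)) = j (S.e 2 0 s) := by group
      rwa [e] at h5
    have h5 := h.no_inv ⟨_, rfl⟩ h4 (by rw [← map_mul, z_sq S, map_one])
    exact hs (S.e_eq_one (hj (h5.trans (map_one j).symm))).2
  have hWab : ∀ v ∈ W, ∀ w ∈ W, v * w = w * v := by
    intro v hv w hw
    have h3 := h.sq (mul_mem hv hw)
    have h4 := h.sq hv
    have h5 := h.sq hw
    calc v * w = v * (v * w * (v * w)) * w := by rw [h3]; group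
      _ = (v * v) * w * v * (w * w) := by group
      _ = w * v := by rw [h4, h5]; group
  have hPP : PP L (cj c L) W (cj c W) := by
    refine ⟨h.symm.base, ⟨⟨c, hcL, rfl⟩, h.fp.sylU, ?_, ?_⟩⟩
    · rw [centralizer_cj]; exact h.fp.sylU.cj c
    · intro q hq w hw
      rw [mem_cj] at hw
      obtain ⟨s', e⟩ := hpart _ hw
      have e1 : w = c⁻¹ * w * c * j (S.e 2 0 s') := by rw [← e]; group
      have h3 := hWab q hq _ hw
      have h4 : j (S.e 2 0 s') * q = q * j (S.e 2 0 s') := comm_of_cen (hZL s') (h.fp.sylU.le hq)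
      rw [e1]
      calc q * (c⁻¹ * w * c * j (S.e 2 0 s')) = (q * (c⁻¹ * w * c)) * j (S.e 2 0 s') := by group
        _ = c⁻¹ * w * c * (q * j (S.e 2 0 s')) := by rw [h3]; group
        _ = _ := by rw [← h4]; group
  have hP2 := hPP.conj g'⁻¹
  have eL : cj g'⁻¹ L = j.range := by rw [hL', ← cj_mul, inv_mul_cancel, cj_one]
  have eW : cj g'⁻¹ W = A := by rw [hW', ← cj_mul, inv_mul_cancel, cj_one]
  rw [eL, eW] at hP2
  -- the element `g'⁻¹ z_2(s) g'`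
  have hgH' := conj_inv_mem hgH
  have hNO : ∀ x ∈ S.NO.map j, g'⁻¹ * x * g' ∈ S.NO.map j := by
    have h3 : (cj g'⁻¹ (S.NO.map j)).comap j ≤ S.NO := by
      refine Perf.O2_HO S hF hR ?_ ?_ ?_
      · intro x hx
        rw [mem_comap, mem_cj, inv_inv] at hx
        have h4 := hgH' _ (map_mono (Perf.NO_HO S) hx)
        have e : g'⁻¹ * (g' * j x * g'⁻¹) * g' = j x := by group
        rw [e] at h4
        obtain ⟨x1, hx1, e1⟩ := h4
        rw [← hj e1]; exact hx1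
      · exact (((Perf.two_NO S hR).map j).map _).comap_of_injective j hj
      · intro y hy x hx
        rw [mem_comap, mem_cj, inv_inv] at hx ⊢
        obtain ⟨y1, hy1, e1⟩ := hgH (j y) ⟨y, hy, rfl⟩
        obtain ⟨x1, hx1, e2⟩ := hx
        refine ⟨y1 * x1 * y1⁻¹, Perf.NO_norm S hy1 hx1, ?_⟩
        rw [map_mul, map_mul, map_inv, e1, e2, map_mul, map_mul, map_inv]; group
    intro x hx
    obtain ⟨x1, hx1, e1⟩ := hgH' x (map_mono (Perf.NO_HO S) hx)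
    refine ⟨x1, h3 ?_, e1⟩
    rw [mem_comap, mem_cj, inv_inv, e1]
    have e : g' * (g'⁻¹ * x * g') * g'⁻¹ = x := by group
    rw [e]; exact hx
  have hNO' : ∀ x ∈ S.NO.map j, g' * x * g'⁻¹ ∈ S.NO.map j := by
    have h3 := conj_inv_mem (U := S.NO.map j) (g := g'⁻¹) (fun x hx => by rw [inv_inv]; exact hNO x hx)
    intro x hx
    have h4 := h3 x hx
    rwa [inv_inv] at h4
  have hV5 : ∀ x ∈ S.V5.map j, g'⁻¹ * x * g' ∈ S.V5.map j := by
    rintro _ ⟨v, hv, rfl⟩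
    obtain ⟨x1, hx1, e1⟩ := hNO (j v) ⟨v, S.V5_le_NO hv, rfl⟩
    refine ⟨x1, ?_, e1⟩
    rw [SetLike.mem_coe, ← S.centralizer_NO, mem_centralizer_iff]
    intro y hy
    obtain ⟨y1, hy1, e2⟩ := hNO' (j y) ⟨y, hy, rfl⟩
    rw [SetLike.mem_coe, ← S.centralizer_NO] at hv
    have h4 := congrArg j (mem_centralizer_iff.1 hv y1 hy1)
    rw [map_mul, map_mul] at h4
    apply hj
    rw [map_mul, map_mul, e1]
    calc j y * (g'⁻¹ * j v * g') = g'⁻¹ * ((g' * j y * g'⁻¹) * j v) * g' := by group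
      _ = g'⁻¹ * (j v * (g' * j y * g'⁻¹)) * g' := by rw [← e2, h4]
      _ = _ := by group
  obtain ⟨x2, hx2, e2⟩ : ∃ x2 ∈ S.W46, j x2 = g'⁻¹ * j (S.e 2 0 s) * g' := by
    obtain ⟨v1, hv1, e3⟩ := hV5 (j (S.e 3 0 1)) ⟨_, S.mem_V5.2 ⟨0, 0, 1, by
      rw [S.e_zero, S.o_zero, one_mul, one_mul]⟩, rfl⟩
    obtain ⟨h1, hh1, e4⟩ := hgH' (j (S.o 0 s)) ⟨_, Perf.X1_HO S (S.mX1 s), rfl⟩
    refine ⟨_, V5_comm S hv1 hh1, ?_⟩
    rw [z2_comm S s]
    simp only [map_mul, map_inv, e3, e4]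
    group
  have hx21 : x2 ≠ 1 := by
    rintro rfl
    rw [map_one] at e2
    apply hs
    have h3 : j (S.e 2 0 s) = 1 := by
      calc j (S.e 2 0 s) = g' * (g'⁻¹ * j (S.e 2 0 s) * g') * g'⁻¹ := by group
        _ = 1 := by rw [← e2]; group
    exact (S.e_eq_one (hj (h3.trans (map_one j).symm))).2
  obtain ⟨k, b, hb, rfl⟩ := W46_type S hx2 hx21
  have ha : g'⁻¹ * (j (S.o 2 s) * z) * g' ∈ A := by
    rw [← eW, mem_cj, inv_inv]
    have e : g' * (g'⁻¹ * (j (S.o 2 s) * z) * g') * g'⁻¹ = j (S.o 2 s) * z := by group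
    rw [e]; exact hu
  refine false_Z S hj hxf hF hR hP2 hA hb (y := k) (z := g'⁻¹ * (j (S.o 2 s) * z) * g') ?_ ha
  rw [comm_of_cen (K := j.range) (k := j (k * S.e 2 0 b * k⁻¹)) ⟨_, rfl⟩ (h.fp.sylQ.le ha), e2, mem_cj, inv_inv, mem_cj]
  have e : c⁻¹ * (g' * (g'⁻¹ * (j (S.o 2 s) * z) * g' * (g'⁻¹ * j (S.e 2 0 s) * g')) * g'⁻¹) * c =
      j (S.o 2 s) * z := by
    calc _ = c⁻¹ * (j (S.o 2 s) * z * j (S.e 2 0 s)) * c := by group
      _ = _ := by rw [← hc_s]; group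
  rw [e]; exact hu

include hj in
/-- **no pair** -/
theorem false_of_PP (hxf : XF X) (hF : ∃ c : Fˣ, c ≠ 1) (hR : S.R.p = 2) (h : PP j.range L A W)
    (hA : ∀ t ∈ A, t ≠ 1 → ∃ r ∈ A, r ≠ 1 ∧ r ≠ t) : False := by
  obtain ⟨u, hu, hu1, huu⟩ := h.exists_inv
  obtain ⟨k, ⟨x, rfl⟩, z, hz, -, rfl⟩ := h.dec hu
  obtain ⟨h1, h2, -⟩ := h.cent_le hu hu1 huu ⟨x, rfl⟩ hz rfl
  rcases types S hF hR (w := x) (fun h => h1 (by rw [h, map_one])) (hj (by rw [map_mul, h2, map_one])) with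
    ⟨y, b, hb, rfl⟩ | ⟨y, s, hs, rfl⟩
  · exact false_Z S hj hxf hF hR h hA hb hu hz
  · obtain ⟨h3, h4⟩ := conj_part h hu hz
    exact false_O1 S hj hxf hF hR h3 hA hs h4 hz

end G

end Cfsg.Agent.OddHalf.D4.TwF.Types
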