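import Cfsg.Agent.KFacts.TwF4.OutTwo
import Cfsg.Agent.OddHalf.D4.TwF.Pair

/-!
# ODD D4, `K = ²F₄(q)`: the facts `XF`
-/

set_option autoImplicit false
set_option linter.unusedSectionVars false

namespace Cfsg.Agent.OddHalf.D4.TwF.XFacts

open Subgroup Cfsg.Agent.KFacts.TwF4 Cfsg.Agent.OddHalf.D4.TwF.Pair
open Cfsg.Agent.SplitTwo Cfsg.Agent.SplitTwo.ZS Cfsg.Agent.TitsThree.RankTwoZ Cfsg.Agent.TitsThree.RankTwoRGD
open Cfsg.Agent.SplitTwo.RootSysZ Cfsg.Agent.KFacts.TwF4.Inv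
open Cfsg.Agent.OddHalf.D4.CommConj (cj mem_cj cj_mul card_cj mem_cj_mul)

universe u

variable {F : Type*} [Field F] {σ : F →+* F} {X : Type u} [Group X]

/-- the facts at `w` -/
structure Good (w : X) : Prop where
  perf : ⁅centralizer {w}, centralizer {w}⁆ = centralizer {w}
  gen2 : ∀ M : Subgroup X, (∀ x, x * w = w * x → (∃ n : ℕ, x ^ 2 ^ n = 1) → x ∈ M) → centralizer {w} ≤ M
  norm : ∀ P ≤ centralizer {w}, (∀ e ∈ centralizer {w}, ∀ x ∈ P, e * x * e⁻¹ ∈ P) → ⁅P, P⁆ = P →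
    P = ⊥ ∨ P = centralizer {w}
  zc : ∀ x : X, (∀ e, e * w = w * e → e * x = x * e) → x * x = 1

theorem cent_conj (k w : X) : centralizer {k * w * k⁻¹} = cj k (centralizer {w}) := by
  ext x
  rw [mem_cj, mem_centralizer_singleton_iff, mem_centralizer_singleton_iff]
  constructor
  · intro h
    calc k⁻¹ * x * k * w = k⁻¹ * (x * (k * w * k⁻¹)) * k := by group
      _ = _ := by rw [h]; group
  · intro h
    calc x * (k * w * k⁻¹) = k * ((k⁻¹ * x * k) * w) * k⁻¹ := by group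
      _ = _ := by rw [h]; group

theorem Good.conj {w : X} (h : Good w) (k : X) : Good (k * w * k⁻¹) where
  perf := by
    rw [cent_conj]
    show ⁅(centralizer {w}).map _, (centralizer {w}).map _⁆ = (centralizer {w}).map _
    rw [← map_commutator, h.perf]
  gen2 := by
    intro M hM
    rw [cent_conj]
    have h1 : centralizer {w} ≤ cj k⁻¹ M := by
      refine h.gen2 _ ?_
      rintro x hx ⟨n, hn⟩
      rw [mem_cj, inv_inv]
      refine hM _ ?_ ⟨n, ?_⟩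
      · calc k * x * k⁻¹ * (k * w * k⁻¹) = k * (x * w) * k⁻¹ := by group
          _ = _ := by rw [hx]; group
      · rw [conj_pow, hn]; group
    intro x hx
    have h2 := h1 (mem_cj.1 hx)
    rw [mem_cj, inv_inv] at h2
    have e : k * (k⁻¹ * x * k) * k⁻¹ = x := by group
    rwa [e] at h2
  norm := by
    intro P hP hn hPP
    rw [cent_conj] at hP hn ⊢
    have h1 := h.norm (cj k⁻¹ P) (by
      intro x hx
      rw [mem_cj, inv_inv] at hx
      have h2 := mem_cj.1 (hP hx)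
      have e : k⁻¹ * (k * x * k⁻¹) * k = x := by group
      rwa [e] at h2) (by
      intro e he x hx
      rw [mem_cj, inv_inv] at hx ⊢
      have h2 := hn _ (mem_cj_mul (g := k) he) _ hx
      have e : k * e * k⁻¹ * (k * x * k⁻¹) * (k * e * k⁻¹)⁻¹ = k * (e * x * e⁻¹) * k⁻¹ := by group
      rwa [e] at h2) (by
      show ⁅P.map _, P.map _⁆ = P.map _
      rw [← map_commutator, hPP])
    have e : P = cj k (cj k⁻¹ P) := by
      rw [← cj_mul, mul_inv_cancel]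
      ext x
      rw [mem_cj]; simp
    rcases h1 with h1 | h1
    · left; rw [e, h1]; exact Subgroup.map_bot _
    · right; rw [e, h1]
  zc := by
    intro x hx
    have h1 := h.zc (k⁻¹ * x * k) (by
      intro e he
      have h2 := hx (k * e * k⁻¹) (by
        calc k * e * k⁻¹ * (k * w * k⁻¹) = k * (e * w) * k⁻¹ := by group
          _ = _ := by rw [he]; group)
      calc e * (k⁻¹ * x * k) = k⁻¹ * ((k * e * k⁻¹) * x) * k := by group
        _ = _ := by rw [h2]; group)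
    calc x * x = k * (k⁻¹ * x * k * (k⁻¹ * x * k)) * k⁻¹ := by group
      _ = 1 := by rw [h1]; group

variable (S : Full σ X) [Finite F] [Finite X]

theorem PL_le {M : Subgroup X} (hR : S.R.p = 2) (hM : ∀ x ∈ S.PL, (∃ n : ℕ, x ^ 2 ^ n = 1) → x ∈ M) : S.PL ≤ M := by
  refine J_le fun k h1 h2 x hx => hM x (mem_J hx h1 h2) ?_
  obtain ⟨n, hn⟩ := two_X S hR k ⟨x, hx⟩
  exact ⟨n, congrArg Subtype.val hn⟩

theorem HO_le {M : Subgroup X} (hR : S.R.p = 2) (hM : ∀ x ∈ S.HO, (∃ n : ℕ, x ^ 2 ^ n = 1) → x ∈ M) : S.HO ≤ M := by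
  refine sup_le (sup_le ?_ ?_) ?_
  · intro x hx
    refine hM x (Perf.X1_HO S hx) ?_
    obtain ⟨n, hn⟩ := two_X S hR 1 ⟨x, hx⟩
    exact ⟨n, congrArg Subtype.val hn⟩
  · intro x hx
    refine hM x (Perf.X9_HO S hx) ?_
    obtain ⟨n, hn⟩ := two_X S hR 9 ⟨x, hx⟩
    exact ⟨n, congrArg Subtype.val hn⟩
  · intro x hx
    refine hM x (Perf.NO_HO S hx) ?_
    obtain ⟨n, hn⟩ := Perf.two_NO S hR ⟨x, hx⟩
    exact ⟨n, congrArg Subtype.val hn⟩

theorem good_z (hF : ∃ c : Fˣ, c ≠ 1) (hR : S.R.p = 2) {z : X} (hz : z ∈ S.Zc 2) (hz1 : z ≠ 1) : Good z := by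
  have hc := S.centralizer_z hz hz1
  refine ⟨?_, ?_, ?_, ?_⟩
  · rw [hc]; exact Perf.PL_perfect S hF
  · intro M hM
    rw [hc]
    refine PL_le S hR fun x hx h2 => hM x ?_ h2
    rw [← hc] at hx
    exact mem_centralizer_singleton_iff.1 hx
  · rw [hc]; exact fun P h1 h2 h3 => Perf.PL_normal S hF hR h1 h2 h3
  · intro x hx
    have h1 : x ∈ S.Zc 2 := S.center_PL fun y hy => (hx y (by
      rw [← hc] at hy
      exact mem_centralizer_singleton_iff.1 hy)).symm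
    obtain ⟨u, rfl⟩ := h1
    exact z_sq S _ _

theorem good_o (hF : ∃ c : Fˣ, c ≠ 1) (hR : S.R.p = 2) {s : F} (hs : s ≠ 0) : Good (S.o 2 s) := by
  have hc := S.centralizer_o hs
  refine ⟨?_, ?_, ?_, ?_⟩
  · rw [hc]; exact Perf.HO_perfect S hF
  · intro M hM
    rw [hc]
    refine HO_le S hR fun x hx h2 => hM x ?_ h2
    rw [← hc] at hx
    exact mem_centralizer_singleton_iff.1 hx
  · rw [hc]; exact fun P h1 h2 h3 => Perf.HO_normal S hF hR h1 h2 h3
  · intro x hx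
    have h0 : x ∈ S.HO := by
      rw [← hc, mem_centralizer_singleton_iff]
      exact (hx _ rfl).symm
    have h1 : x ∈ S.XZ 5 := S.center_HO h0 fun y hy => (hx y (by
      rw [← hc] at hy
      exact mem_centralizer_singleton_iff.1 hy)).symm
    obtain ⟨u, rfl⟩ := S.X5 h1
    exact o_sq S _ _

/-- the two types of involutions -/
theorem types (hF : ∃ c : Fˣ, c ≠ 1) (hR : S.R.p = 2) {w : X} (hw : w ≠ 1) (hww : w * w = 1) :
    (∃ k : X, ∃ u : F, u ≠ 0 ∧ w = k * S.e 2 0 u * k⁻¹) ∨ (∃ k : X, ∃ s : F, s ≠ 0 ∧ w = k * S.o 2 s * k⁻¹) := by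
  rcases SylU.classes S hF hR hww hw with ⟨u, hu, k, hk⟩ | ⟨t, ht, k, hk⟩
  · left
    have h1 := S.rotk_e 2 0 0 u
    refine ⟨(S.rot ^ (2 : ℤ) * k)⁻¹, u, hu, ?_⟩
    have h2 : S.rot ^ (2 : ℤ) * S.e 0 0 u * (S.rot ^ (2 : ℤ))⁻¹ = S.e 2 0 u := h1
    rw [← h2, ← hk]; group
  · right
    have h1 := S.rotk_o 2 0 t
    refine ⟨(S.rot ^ (2 : ℤ) * k)⁻¹, t, ht, ?_⟩
    have h2 : S.rot ^ (2 : ℤ) * S.o 0 t * (S.rot ^ (2 : ℤ))⁻¹ = S.o 2 t := h1
    rw [← h2, ← hk]; group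

theorem good (hF : ∃ c : Fˣ, c ≠ 1) (hR : S.R.p = 2) {w : X} (hw : w ≠ 1) (hww : w * w = 1) : Good w := by
  rcases types S hF hR hw hww with ⟨k, u, hu, rfl⟩ | ⟨k, s, hs, rfl⟩
  · exact (good_z S hF hR ⟨u, rfl⟩ fun h => hu (S.e_eq_one h).2).conj k
  · exact (good_o S hF hR hs).conj k

/-- a subgroup containing an involution and the centralizers of its involutions -/
theorem eq_top_aux {N : Subgroup X} (hN : ∀ w ∈ N, w ≠ 1 → w * w = 1 → centralizer {w} ≤ N) (hP : S.PL ≤ N) : N = ⊤ := by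
  have h3 : S.e 3 0 1 ∈ N := hP (mem_J (S.mX6 0 1) (by norm_num) (by norm_num))
  have h31 : S.e 3 0 1 ≠ 1 := fun h => one_ne_zero (S.e_eq_one h).2
  have h4 := hN _ h3 h31 (z_sq S _ _)
  have h5 : centralizer {S.e 3 0 1} = J S.XZ (2 * 3 - 4) (2 * 3 + 4) := S.centralizer_Zc 3 ⟨1, rfl⟩ h31
  rw [h5] at h4
  exact eq_top_of S (fun x hx => hP (mem_J hx (by norm_num) (by norm_num)))
    (fun x hx => hP (mem_J hx (by norm_num) (by norm_num))) (fun x hx => hP (mem_J hx (by norm_num) (by norm_num)))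
    (fun x hx => h4 (mem_J hx (by norm_num) (by norm_num)))

theorem eq_top_gen (hF : ∃ c : Fˣ, c ≠ 1) (hR : S.R.p = 2) {N : Subgroup X} (hex : ∃ w ∈ N, w ≠ 1 ∧ w * w = 1)
    (hN : ∀ w ∈ N, w ≠ 1 → w * w = 1 → centralizer {w} ≤ N) : N = ⊤ := by
  obtain ⟨w, hw, hw1, hww⟩ := hex
  have key : ∀ k : X, S.PL ≤ cj k⁻¹ N → N = ⊤ := by
    intro k hk
    have h1 : cj k⁻¹ N = ⊤ := by
      refine eq_top_aux S ?_ hk
      intro w hw hw1 hww
      rw [mem_cj, inv_inv] at hw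
      have h2 := hN _ hw (by
        intro h
        apply hw1
        calc w = k⁻¹ * (k * w * k⁻¹) * k := by group
          _ = 1 := by rw [h]; group) (by
        calc k * w * k⁻¹ * (k * w * k⁻¹) = k * (w * w) * k⁻¹ := by group
          _ = 1 := by rw [hww]; group)
      rw [cent_conj] at h2
      intro x hx
      rw [mem_cj, inv_inv]
      exact h2 (mem_cj_mul hx)
    rw [eq_top_iff]
    intro x _
    have h3 : k⁻¹ * x * k ∈ cj k⁻¹ N := by rw [h1]; trivial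
    rw [mem_cj, inv_inv] at h3
    have e : k * (k⁻¹ * x * k) * k⁻¹ = x := by group
    rwa [e] at h3
  have key2 : ∀ k : X, ∀ u : F, u ≠ 0 → k * S.e 2 0 u * k⁻¹ ∈ N → N = ⊤ := by
    intro k u hu hm
    have hu1 : S.e 2 0 u ≠ 1 := fun h => hu (S.e_eq_one h).2
    refine key k ?_
    have h1 := hN _ hm (by
      intro h
      apply hu1
      calc S.e 2 0 u = k⁻¹ * (k * S.e 2 0 u * k⁻¹) * k := by group
        _ = 1 := by rw [h]; group) (by
      calc k * S.e 2 0 u * k⁻¹ * (k * S.e 2 0 u * k⁻¹) = k * (S.e 2 0 u * S.e 2 0 u) * k⁻¹ := by group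
        _ = 1 := by rw [z_sq S]; group)
    rw [cent_conj, S.centralizer_z ⟨u, rfl⟩ hu1] at h1
    intro x hx
    rw [mem_cj, inv_inv]
    exact h1 (mem_cj_mul hx)
  rcases types S hF hR hw1 hww with ⟨k, u, hu, rfl⟩ | ⟨k, s, hs, rfl⟩
  · exact key2 k u hu hw
  · have h1 := hN _ hw hw1 hww
    rw [cent_conj, S.centralizer_o hs] at h1
    refine key2 k 1 one_ne_zero (h1 (mem_cj_mul ?_))
    exact Perf.J37_HO S (mem_J (S.mX4 0 1) (by norm_num) (by norm_num))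

/-- **the facts `XF`** -/
theorem xf {m : ℕ} (hcard : Nat.card F = 2 ^ (2 * m + 1)) (hF : ∃ c : Fˣ, c ≠ 1) (hR : S.R.p = 2) : XF X where
  cen _ hx := OutTwo.center_eq_bot S hF fun g => (hx g).symm
  inner _ _ hn := OutTwo.inner S hcard hF hR hn
  perf _ hw hww := (good S hF hR hw hww).perf
  gen2 _ hw hww := (good S hF hR hw hww).gen2
  norm _ hw hww := (good S hF hR hw hww).norm
  gen _ := eq_top_gen S hF hR
  zc _ hw hww := (good S hF hR hw hww).zc

end Cfsg.Agent.OddHalf.D4.TwF.XFacts
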